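import Cfsg.Agent.ClassicalMax.TPow.Slot
import Cfsg.Agent.ClassicalMax.TPow.Wreath

/-!
A subalgebra of the matrices on a tensor power, stable under conjugation by the slot root elements and not scalar,
contains all matrices of one slot.
-/

set_option autoImplicit false
set_option linter.unusedSectionVars false

namespace Cfsg.Agent.ClassicalMax.LWreath

open Matrix Cfsg.Agent.ClassicalMax.TPow

variable {F : Type*} [Field F] {k : ℕ} {β : Type} [Fintype β] [DecidableEq β]

/-- a matrix unit in one slot -/
def E (l : β) (a b : Fin k) : Matrix (β → Fin k) (β → Fin k) F := sl l (Matrix.single a b 1)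

theorem E_mul_same (l : β) (a b c : Fin k) : (E l a b : Matrix (β → Fin k) (β → Fin k) F) * E l b c = E l a c := by
  rw [E, E, E, sl_mul, single_mul_single_same, mul_one]

theorem E_mul_ne (l : β) (a d : Fin k) {b c : Fin k} (h : b ≠ c) :
    (E l a b : Matrix (β → Fin k) (β → Fin k) F) * E l c d = 0 := by
  rw [E, E, sl_mul, single_mul_single_of_ne _ _ _ _ h, sl_zero]

theorem sum_E (l : β) : ∑ a : Fin k, E l a a = (1 : Matrix (β → Fin k) (β → Fin k) F) := by
  let f : Matrix (Fin k) (Fin k) F →+ Matrix (β → Fin k) (β → Fin k) F := AddMonoidHom.mk' (sl l) (sl_add l)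
  refine (map_sum f (fun a : Fin k => Matrix.single a a (1 : F)) Finset.univ).symm.trans ?_
  rw [show ∑ a : Fin k, Matrix.single a a (1 : F) = 1 by
    ext a b
    simp [Matrix.sum_apply, Matrix.single_apply, Matrix.one_apply, Finset.sum_ite_eq', ite_and]]
  exact sl_one l

theorem single_eq (a b : Fin k) :
    Matrix.single a b (1 : F) = vecMulVec (Pi.single a (1 : F)) (Pi.single b (1 : F)) := by
  ext x y
  simp only [Matrix.single_apply, vecMulVec_apply, Pi.single_apply]
  split_ifs <;> simp_all

/-- a subalgebra stable under conjugation by the slot root elements -/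
structure Inv (P : Matrix (β → Fin k) (β → Fin k) F → Prop) : Prop where
  one : P 1
  add : ∀ c d, P c → P d → P (c + d)
  smul : ∀ c, P c → ∀ s : F, P (s • c)
  mul : ∀ c d, P c → P d → P (c * d)
  delta : ∀ c, P c → ∀ (l : β) (v ψ : Fin k → F), ψ ⬝ᵥ v = 0 →
    P (sl l (vecMulVec v ψ) * c - c * sl l (vecMulVec v ψ) - sl l (vecMulVec v ψ) * c * sl l (vecMulVec v ψ))

theorem exists_third (hk : 3 ≤ k) (a b : Fin k) : ∃ d, d ≠ a ∧ d ≠ b := by
  obtain ⟨d, -, hd⟩ := Finset.exists_mem_notMem_of_card_lt_card (s := ({a, b} : Finset (Fin k))) (t := Finset.univ)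
    (lt_of_le_of_lt Finset.card_le_two (by rw [Finset.card_univ, Fintype.card_fin]; omega))
  simp only [Finset.mem_insert, Finset.mem_singleton, not_or] at hd
  exact ⟨d, hd⟩

theorem ring_sandwich {R : Type*} [Ring R] {e f g : R} (c : R) (eg : e * g = f) (fe : f * e = 0) (ee : e * e = 0)
    (ef : e * f = 0) (ge : g * e = 0) (gf : g * f = 0) (fg : f * g = 0) (gg : g * g = 0) (ff : f * f = 0) :
    g * (f * (e * c - c * e - e * c * e) - (e * c - c * e - e * c * e) * f - f * (e * c - c * e - e * c * e) * f) -
      (f * (e * c - c * e - e * c * e) - (e * c - c * e - e * c * e) * f - f * (e * c - c * e - e * c * e) * f) * g -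
      g * (f * (e * c - c * e - e * c * e) - (e * c - c * e - e * c * e) * f - f * (e * c - c * e - e * c * e) * f) * g =
      f * c * f := by
  have h2 : f * (e * c - c * e - e * c * e) - (e * c - c * e - e * c * e) * f - f * (e * c - c * e - e * c * e) * f =
      -(f * c * e) - e * c * f := by
    simp only [mul_sub, sub_mul, mul_assoc, ef, mul_zero, ← mul_assoc f e, fe, zero_mul, sub_zero]
    noncomm_ring
  rw [h2]
  simp only [mul_sub, sub_mul, mul_neg, neg_mul, mul_assoc, eg, fg, mul_zero, neg_zero, sub_zero, ← mul_assoc g f, gf,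
    ← mul_assoc g e, ge, zero_mul]
  simp

namespace Inv

variable {P : Matrix (β → Fin k) (β → Fin k) F → Prop}

theorem sub (hP : Inv P) {c d : Matrix (β → Fin k) (β → Fin k) F} (hc : P c) (hd : P d) : P (c - d) := by
  rw [sub_eq_add_neg, ← neg_one_smul F d]
  exact hP.add _ _ hc (hP.smul _ hd _)

theorem zero (hP : Inv P) : P 0 := by
  have := hP.smul _ hP.one (0 : F)
  rwa [zero_smul] at this

theorem delta_E (hP : Inv P) {c : Matrix (β → Fin k) (β → Fin k) F} (hc : P c) (l : β) {a b : Fin k} (hab : a ≠ b) :
    P (E l a b * c - c * E l a b - E l a b * c * E l a b) := by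
  rw [E, single_eq]
  exact hP.delta c hc l _ _ (by rw [dotProduct_single_one, Pi.single_eq_of_ne hab])

theorem sandwich (hP : Inv P) (hk : 3 ≤ k) {c : Matrix (β → Fin k) (β → Fin k) F} (hc : P c) (l : β) {a b : Fin k}
    (hab : a ≠ b) : P (E l a b * c * E l a b) := by
  obtain ⟨d, hda, hdb⟩ := exists_third hk a b
  have h1 := hP.delta_E hc l (Ne.symm hda)
  have h2 := hP.delta_E h1 l hab
  have h3 := hP.delta_E h2 l hdb
  have := hP.smul _ h3 (1 : F)
  have eg : (E l a d : Matrix (β → Fin k) (β → Fin k) F) * E l d b = E l a b := E_mul_same l a d b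
  have fe : (E l a b : Matrix (β → Fin k) (β → Fin k) F) * E l a d = 0 := E_mul_ne l a d (Ne.symm hab)
  have ee : (E l a d : Matrix (β → Fin k) (β → Fin k) F) * E l a d = 0 := E_mul_ne l a d hda
  have ef : (E l a d : Matrix (β → Fin k) (β → Fin k) F) * E l a b = 0 := E_mul_ne l a b hda
  have ge : (E l d b : Matrix (β → Fin k) (β → Fin k) F) * E l a d = 0 := E_mul_ne l d d (Ne.symm hab)
  have gf : (E l d b : Matrix (β → Fin k) (β → Fin k) F) * E l a b = 0 := E_mul_ne l d b (Ne.symm hab)
  have fg : (E l a b : Matrix (β → Fin k) (β → Fin k) F) * E l d b = 0 := E_mul_ne l a b (Ne.symm hdb)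
  have gg : (E l d b : Matrix (β → Fin k) (β → Fin k) F) * E l d b = 0 := E_mul_ne l d b (Ne.symm hdb)
  have ff : (E l a b : Matrix (β → Fin k) (β → Fin k) F) * E l a b = 0 := E_mul_ne l a b (Ne.symm hab)
  rw [one_smul, ring_sandwich c eg fe ee ef ge gf fg gg ff] at this
  exact this

/-- the change of a row index -/
theorem adj_left (hP : Inv P) (hk : 3 ≤ k) {c : Matrix (β → Fin k) (β → Fin k) F} (hc : P c) (l : β) {a b : Fin k}
    (hab : a ≠ b) : P (E l a b * c - c * E l a b) := by
  have := hP.add _ _ (hP.delta_E hc l hab) (hP.sandwich hk hc l hab)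
  rwa [sub_add_cancel] at this

end Inv

/-- the part commuting with a slot -/
def part (l : β) (a b : Fin k) (c : Matrix (β → Fin k) (β → Fin k) F) : Matrix (β → Fin k) (β → Fin k) F :=
  ∑ x, E l x b * c * E l a x

theorem part_spec (l : β) (a b : Fin k) (c : Matrix (β → Fin k) (β → Fin k) F) :
    E l a b * part l a b c = E l a b * c * E l a b := by
  rw [part, Finset.mul_sum, Finset.sum_eq_single b (fun x _ hx => by
    rw [← mul_assoc, ← mul_assoc, E_mul_ne l a b (Ne.symm hx), zero_mul, zero_mul]) (fun h => absurd (Finset.mem_univ b) h),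
    ← mul_assoc, ← mul_assoc, E_mul_same]

theorem commute_of_units (l : β) {R : Matrix (β → Fin k) (β → Fin k) F} (h : ∀ y z, Commute R (E l y z))
    (A : Matrix (Fin k) (Fin k) F) : Commute R (sl l A) := by
  induction A using Matrix.induction_on' with
  | h_zero => rw [sl_zero]; exact Commute.zero_right R
  | h_add p q hp hq => rw [sl_add]; exact hp.add_right hq
  | h_std_basis i j x =>
    rw [show Matrix.single i j x = x • Matrix.single i j (1 : F) by rw [Matrix.smul_single, smul_eq_mul, mul_one],
      sl_smul]
    exact (h i j).smul_right x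

theorem part_commute (l : β) (a b : Fin k) (c : Matrix (β → Fin k) (β → Fin k) F) (A : Matrix (Fin k) (Fin k) F) :
    Commute (part l a b c) (sl l A) :=
  commute_of_units l (fun y z => by
    show _ = _
    rw [part, Finset.sum_mul, Finset.mul_sum,
      Finset.sum_eq_single y (fun x _ hx => by rw [mul_assoc, E_mul_ne l a z hx, mul_zero])
        (fun h => absurd (Finset.mem_univ y) h),
      Finset.sum_eq_single z (fun x _ hx => by
        rw [← mul_assoc, ← mul_assoc, E_mul_ne l y b (Ne.symm hx), zero_mul, zero_mul])
        (fun h => absurd (Finset.mem_univ z) h),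
      mul_assoc, E_mul_same, ← mul_assoc, ← mul_assoc, E_mul_same]) A

/-- if all sandwiches of an element and of its deltas vanish it commutes with the slot -/
theorem commute_of_no_sandwich (hk : 2 ≤ k) (l : β) {c : Matrix (β → Fin k) (β → Fin k) F}
    (h1 : ∀ a b : Fin k, a ≠ b → E l a b * c * E l a b = 0)
    (h2 : ∀ a b : Fin k, a ≠ b → E l b a * (E l a b * c - c * E l a b) * E l b a = 0)
    (A : Matrix (Fin k) (Fin k) F) : Commute c (sl l A) := by
  have hz : ∀ x y : Fin k, x ≠ y → (E l y y : Matrix (β → Fin k) (β → Fin k) F) * c * E l x x = 0 := fun x y hxy => by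
    calc (E l y y : Matrix (β → Fin k) (β → Fin k) F) * c * E l x x
        = E l y x * E l x y * c * (E l x y * E l y x) := by rw [E_mul_same, E_mul_same]
      _ = E l y x * (E l x y * c * E l x y) * E l y x := by simp only [mul_assoc]
      _ = 0 := by rw [h1 x y hxy, mul_zero, zero_mul]
  have hoff : ∀ a b : Fin k, a ≠ b → Commute c (E l b a) := fun a b hab => by
    show c * E l b a = E l b a * c
    have hl : c * E l b a = E l b b * c * E l b a := by
      conv_lhs => rw [← one_mul c, ← sum_E (F := F) (k := k) l, Finset.sum_mul, Finset.sum_mul]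
      refine Finset.sum_eq_single b (fun x _ hx => ?_) (fun h => absurd (Finset.mem_univ b) h)
      rw [← E_mul_same l b b a, ← mul_assoc (E l x x * c), hz b x (Ne.symm hx), zero_mul]
    have hr : E l b a * c = E l b a * c * E l a a := by
      conv_lhs => rw [← mul_one (E l b a * c), ← sum_E (F := F) (k := k) l, Finset.mul_sum]
      refine Finset.sum_eq_single a (fun x _ hx => ?_) (fun h => absurd (Finset.mem_univ a) h)
      rw [← E_mul_same l b a a]
      simp only [mul_assoc]
      rw [← mul_assoc (E l a a) c, hz x a hx, mul_zero]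
    have h3 := h2 a b hab
    simp only [mul_sub, sub_mul, ← mul_assoc, E_mul_same, sub_eq_zero] at h3
    rw [hl, hr, h3, mul_assoc _ (E l a b), E_mul_same]
  refine commute_of_units l (fun y z => ?_) A
  rcases eq_or_ne y z with rfl | hyz
  · obtain ⟨x, hx⟩ : ∃ x : Fin k, x ≠ y := by
      haveI : Nontrivial (Fin k) := Fin.nontrivial_iff_two_le.2 hk
      exact exists_ne y
    rw [← E_mul_same l y x y]
    exact (hoff x y hx).mul_right (hoff y x (Ne.symm hx))
  · exact hoff z y (Ne.symm hyz)

/-- matrix units on a set of slots -/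
def pat (S : Finset β) (a b : β → Fin k) : Matrix (β → Fin k) (β → Fin k) F :=
  tens (S.piecewise (fun j => Matrix.single (a j) (b j) (1 : F)) 1)

theorem pat_insert {S : Finset β} {l : β} (hl : l ∉ S) (a b : β → Fin k) :
    (pat (insert l S) a b : Matrix (β → Fin k) (β → Fin k) F) = E l (a l) (b l) * pat S a b := by
  rw [pat, pat, E, sl, tens_mul]
  congr 1
  funext j
  rcases eq_or_ne j l with rfl | hj
  · simp [hl]
  · simp [Finset.piecewise, hj]

theorem pat_congr {S : Finset β} {a b a' b' : β → Fin k} (ha : ∀ j ∈ S, a j = a' j) (hb : ∀ j ∈ S, b j = b' j) :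
    (pat S a b : Matrix (β → Fin k) (β → Fin k) F) = pat S a' b' := by
  rw [pat, pat]
  congr 1
  funext j
  by_cases hj : j ∈ S
  · simp [hj, ha j hj, hb j hj]
  · simp [hj]

theorem pat_commute {S : Finset β} {l : β} (hl : l ∉ S) (a b : β → Fin k) (A : Matrix (Fin k) (Fin k) F) :
    Commute (pat S a b) (sl l A) :=
  sl_commute_of_one (Finset.piecewise_eq_of_notMem S _ _ hl) A

theorem pat_mul (S : Finset β) (a b d : β → Fin k) :
    (pat S a b : Matrix (β → Fin k) (β → Fin k) F) * pat S b d = pat S a d := by
  rw [pat, pat, pat, tens_mul]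
  congr 1
  funext j
  by_cases hj : j ∈ S <;> simp [hj, single_mul_single_same]

theorem pat_rec {S : Finset β} {l : β} (hl : l ∈ S) (a b : β → Fin k) :
    (pat S a b : Matrix (β → Fin k) (β → Fin k) F) = E l (a l) (b l) * pat (S.erase l) a b := by
  conv_lhs => rw [← Finset.insert_erase hl]
  rw [pat_insert (Finset.notMem_erase l S)]

theorem sum_pat {S : Finset β} {l : β} (hl : l ∈ S) (a b : β → Fin k) :
    ∑ x, pat S (Function.update a l x) (Function.update b l x) =
      (pat (S.erase l) a b : Matrix (β → Fin k) (β → Fin k) F) := by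
  have e : ∀ x, (pat S (Function.update a l x) (Function.update b l x) : Matrix (β → Fin k) (β → Fin k) F) =
      E l x x * pat (S.erase l) a b := fun x => by
    rw [pat_rec hl, Function.update_self, Function.update_self]
    congr 1
    exact pat_congr (fun j hj => Function.update_of_ne (Finset.ne_of_mem_erase hj) _ _)
      (fun j hj => Function.update_of_ne (Finset.ne_of_mem_erase hj) _ _)
  simp only [e, ← Finset.sum_mul, sum_E, one_mul]

/-- a non-scalar element gives all the matrices of one slot -/
theorem Inv.exists_slot {P : Matrix (β → Fin k) (β → Fin k) F → Prop} (hP : Inv P) (hk : 3 ≤ k)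
    {c : Matrix (β → Fin k) (β → Fin k) F} (hc : P c)
    (hns : ∀ κ : F, c ≠ κ • (1 : Matrix (β → Fin k) (β → Fin k) F)) : ∃ l, ∀ A, P (sl l A) := by
  classical
  haveI : Nonempty (Fin k) := ⟨⟨0, by omega⟩⟩
  suffices hmain : ∀ s : Finset β, ∃ (S : Finset β) (a b : β → Fin k) (R : Matrix (β → Fin k) (β → Fin k) F),
      S ⊆ s ∧ (∀ j ∈ S, a j ≠ b j) ∧ P (pat S a b * R) ∧ R ≠ 0 ∧ (∀ j ∈ s, ∀ A, Commute R (sl j A)) ∧
      (S = ∅ → R = c) by
    obtain ⟨S, a, b, R, -, hab, hPR, hR0, hRc, hSc⟩ := hmain Finset.univ
    obtain ⟨κ, hκ⟩ := eq_smul_one_of_commute R fun j A => (hRc j (Finset.mem_univ j) A).eq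
    have hκ0 : κ ≠ 0 := fun e => hR0 (by rw [hκ, e, zero_smul])
    have hpat : P (pat S a b) := by
      have := hP.smul _ hPR κ⁻¹
      rwa [hκ, mul_smul_comm, mul_one, inv_smul_smul₀ hκ0] at this
    obtain ⟨l₀, hl₀⟩ : S.Nonempty := Finset.nonempty_iff_ne_empty.2 fun e => hns κ ((hSc e).symm.trans hκ)
    -- rows and columns
    have hall : ∀ s : Finset β, s ⊆ S → ∀ a' b' : β → Fin k, (∀ j ∈ S, a' j ≠ b' j) →
        (∀ j ∈ S, j ∉ s → a' j = a j ∧ b' j = b j) → P (pat S a' b') := by
      intro s
      induction s using Finset.induction_on with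
      | empty =>
        intro _ a' b' _ h
        rw [pat_congr (fun j hj => (h j hj (Finset.notMem_empty j)).1) (fun j hj => (h j hj (Finset.notMem_empty j)).2)]
        exact hpat
      | insert l s hls ih =>
        intro hsub a' b' hne hagree
        have hlS : l ∈ S := hsub (Finset.mem_insert_self l s)
        have start : P (pat S (Function.update a' l (a l)) (Function.update b' l (b l))) := by
          refine ih (fun j hj => hsub (Finset.mem_insert_of_mem hj)) _ _ (fun j hj => ?_) fun j hj hjs => ?_
          · rcases eq_or_ne j l with rfl | h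
            · simpa using hab j hj
            · simpa [h] using hne j hj
          · rcases eq_or_ne j l with rfl | h
            · simp
            · simpa [h] using hagree j hj (by simp [h, hjs])
        have row : ∀ x y x', x ≠ y → x' ≠ y → P (pat S (Function.update a' l x) (Function.update b' l y)) →
            P (pat S (Function.update a' l x') (Function.update b' l y)) := fun x y x' hxy hx'y h => by
          rcases eq_or_ne x' x with rfl | hx
          · exact h
          have h2 := hP.adj_left hk h l hx
          have e : ∀ z, pat (S.erase l) (Function.update a' l z) (Function.update b' l y) =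
              (pat (S.erase l) a' b' : Matrix (β → Fin k) (β → Fin k) F) := fun z =>
            pat_congr (fun j hj => Function.update_of_ne (Finset.ne_of_mem_erase hj) _ _)
              (fun j hj => Function.update_of_ne (Finset.ne_of_mem_erase hj) _ _)
          rw [pat_rec hlS, e, Function.update_self, Function.update_self] at h2 ⊢
          rw [← mul_assoc, E_mul_same, mul_assoc,
            show pat (S.erase l) a' b' * E l x' x = E l x' x * pat (S.erase l) a' b' from
              (pat_commute (Finset.notMem_erase l S) a' b' _).eq, ← mul_assoc, E_mul_ne l x x (Ne.symm hx'y), zero_mul, sub_zero] at h2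
          exact h2
        have col : ∀ x y y', x ≠ y → x ≠ y' → P (pat S (Function.update a' l x) (Function.update b' l y)) →
            P (pat S (Function.update a' l x) (Function.update b' l y')) := fun x y y' hxy hxy' h => by
          rcases eq_or_ne y' y with rfl | hy
          · exact h
          have h2 := hP.smul _ (hP.adj_left hk h l (Ne.symm hy)) (-1 : F)
          have e : ∀ z, pat (S.erase l) (Function.update a' l x) (Function.update b' l z) =
              (pat (S.erase l) a' b' : Matrix (β → Fin k) (β → Fin k) F) := fun z =>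
            pat_congr (fun j hj => Function.update_of_ne (Finset.ne_of_mem_erase hj) _ _)
              (fun j hj => Function.update_of_ne (Finset.ne_of_mem_erase hj) _ _)
          rw [pat_rec hlS, e, Function.update_self, Function.update_self] at h2 ⊢
          rw [← mul_assoc, E_mul_ne l y y (Ne.symm hxy'), zero_mul, mul_assoc,
            show pat (S.erase l) a' b' * E l y y' = E l y y' * pat (S.erase l) a' b' from
              (pat_commute (Finset.notMem_erase l S) a' b' _).eq, ← mul_assoc, E_mul_same, zero_sub, smul_neg,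
            neg_one_smul, neg_neg] at h2
          exact h2
        have hA := hne l hlS
        have habl := hab l hlS
        have fin : P (pat S (Function.update a' l (a' l)) (Function.update b' l (b' l))) := by
          by_cases h : a' l = b l
          · obtain ⟨d, hd1, hd2⟩ := exists_third hk (a l) (b l)
            refine col _ d _ (by rw [h]; exact Ne.symm hd2) hA (row (a l) d _ (Ne.symm hd1) (by rw [h]; exact Ne.symm hd2) ?_)
            exact col _ _ _ habl (Ne.symm hd1) start
          · exact col _ _ _ h hA (row _ _ _ habl h start)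
        simpa only [Function.update_eq_self] using fin
    have hall' : ∀ a' b' : β → Fin k, P (pat S a' b') := fun a' b' => by
      choose d hd1 hd2 using fun j => exists_third hk (a' j) (b' j)
      rw [← pat_mul S a' d b']
      exact hP.mul _ _ (hall S le_rfl a' d (fun j _ => Ne.symm (hd1 j)) fun j hj hj' => absurd hj hj')
        (hall S le_rfl d b' (fun j _ => hd2 j) fun j hj hj' => absurd hj hj')
    have hsum : ∀ s : Finset β, s ⊆ S.erase l₀ → ∀ a' b' : β → Fin k, P (pat (S \ s) a' b') := by
      intro s
      induction s using Finset.induction_on with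
      | empty => intro _ a' b'; rw [Finset.sdiff_empty]; exact hall' a' b'
      | insert j s hj ih =>
        intro hsub a' b'
        have hjS : j ∈ S \ s := Finset.mem_sdiff.2 ⟨Finset.mem_of_mem_erase (hsub (Finset.mem_insert_self j s)), hj⟩
        rw [Finset.sdiff_insert, ← sum_pat hjS]
        exact Finset.sum_induction _ P hP.add hP.zero fun x _ =>
          ih (fun i hi => hsub (Finset.mem_insert_of_mem hi)) _ _
    refine ⟨l₀, fun A => ?_⟩
    induction A using Matrix.induction_on' with
    | h_zero => rw [sl_zero]; exact hP.zero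
    | h_add p q hp hq => rw [sl_add]; exact hP.add _ _ hp hq
    | h_std_basis x y z =>
      rw [show Matrix.single x y z = z • Matrix.single x y (1 : F) by rw [Matrix.smul_single, smul_eq_mul, mul_one],
        sl_smul]
      refine hP.smul _ (cast (congrArg P ?_) (hsum (S.erase l₀) le_rfl (fun _ => x) (fun _ => y))) z
      rw [show S \ S.erase l₀ = insert l₀ ∅ by simp [Finset.sdiff_erase hl₀], pat_insert (Finset.notMem_empty l₀), pat,
        Finset.piecewise_empty, tens_one, mul_one]
      rfl
  intro s
  induction s using Finset.induction_on with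
  | empty =>
    refine ⟨∅, fun _ => ⟨0, by omega⟩, fun _ => ⟨0, by omega⟩, c, le_rfl, fun j hj => absurd hj (Finset.notMem_empty j),
      ?_, fun e => hns 0 (by rw [e, zero_smul]), fun j hj => absurd hj (Finset.notMem_empty j), fun _ => rfl⟩
    rw [pat, Finset.piecewise_empty, tens_one, one_mul]
    exact hc
  | insert l s hls ih =>
    obtain ⟨S, a, b, R, hS, hab, hPR, hR0, hRc, hSc⟩ := ih
    by_cases hcom : ∀ A, Commute R (sl l A)
    · refine ⟨S, a, b, R, hS.trans (Finset.subset_insert l s), hab, hPR, hR0, fun j hj => ?_, hSc⟩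
      rcases Finset.mem_insert.1 hj with rfl | hj
      · exact hcom
      · exact hRc j hj
    have hlS : l ∉ S := fun h => hls (hS h)
    have hEc : ∀ x y, Commute (pat S a b : Matrix (β → Fin k) (β → Fin k) F) (E l x y) := fun x y =>
      pat_commute hlS a b _
    obtain ⟨x, y, hxy, R', hPR', hR'c, hne⟩ : ∃ x y, x ≠ y ∧ ∃ R', P (pat S a b * R') ∧
        (∀ j ∈ s, ∀ A, Commute R' (sl j A)) ∧ E l x y * R' * E l x y ≠ 0 := by
      by_contra! h
      refine hcom (commute_of_no_sandwich (by omega) l (fun x y hxy => h x y hxy R hPR hRc) fun x y hxy => ?_)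
      refine h y x hxy.symm _ ?_ fun j hj A => ?_
      · have := hP.adj_left hk hPR l hxy
        rwa [← mul_assoc, ← (hEc x y).eq, mul_assoc, mul_assoc, ← mul_sub] at this
      · have hjl : j ≠ l := fun e => hls (e ▸ hj)
        have hEj : Commute (E l x y : Matrix (β → Fin k) (β → Fin k) F) (sl j A) := sl_commute (Ne.symm hjl) _ _
        exact (hEj.mul_left (hRc j hj A)).sub_left ((hRc j hj A).mul_left hEj)
    refine ⟨insert l S, Function.update a l x, Function.update b l y, part l x y R', Finset.insert_subset_insert l hS,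
      fun j hj => ?_, ?_, fun e => hne (by rw [← part_spec, e, mul_zero]), fun j hj A => ?_,
      fun e => absurd e (Finset.insert_ne_empty l S)⟩
    · rcases eq_or_ne j l with rfl | h
      · simpa using hxy
      · simpa [h] using hab j (Finset.mem_of_mem_insert_of_ne hj h)
    · have h2 := hP.sandwich hk hPR' l hxy
      rw [pat_insert hlS, Function.update_self, Function.update_self,
        pat_congr (a' := a) (b' := b) (fun j hj => Function.update_of_ne (fun e => hlS (by rw [← e]; exact hj)) _ _)
          (fun j hj => Function.update_of_ne (fun e => hlS (by rw [← e]; exact hj)) _ _),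
        ← (hEc x y).eq, mul_assoc, part_spec]
      rwa [← mul_assoc, ← (hEc x y).eq, mul_assoc (pat S a b), mul_assoc (pat S a b)] at h2
    · rcases Finset.mem_insert.1 hj with rfl | hj'
      · exact part_commute _ x y R' A
      · have hjl : j ≠ l := fun e => hls (e ▸ hj')
        exact Commute.sum_left _ _ _ fun z _ =>
          ((sl_commute (Ne.symm hjl) _ _).mul_left (hR'c j hj' A)).mul_left (sl_commute (Ne.symm hjl) _ _)

end Cfsg.Agent.ClassicalMax.LWreath
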