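import Cfsg.Agent.ClassicalMax.TPow.Slot
import Cfsg.Agent.ClassicalMax.TPow.Wreath

/-!
Subgroups of the general linear group of a tensor power containing the slot root elements and the slot permutations:
inclusions and contractions of a slot, and the operators `c` such that all `1 + (u φ) ⊗ c` lie in the group.
-/

set_option autoImplicit false
set_option linter.unusedSectionVars false

namespace Cfsg.Agent.ClassicalMax.LWreath

open Matrix Cfsg.Agent.ClassicalMax.TPow

variable {F : Type*} [Field F] {k t : ℕ}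

/-- one chosen slot -/
abbrev at1 (i : Fin t) : Fin 1 → Fin t := fun _ => i

theorem at1_inj (i : Fin t) : Function.Injective (at1 i) := fun _ _ _ => Subsingleton.elim _ _

/-- the indices of the other slots -/
abbrev Rst (k : ℕ) (i : Fin t) : Type := Rest (at1 i) → Fin k

/-- a vector as a tensor on one slot -/
def fu (u : Fin k → F) : (Fin 1 → Fin k) → F := fun x => u (x 0)

/-- the slot inclusion `w ↦ u ⊗ w` -/
noncomputable def inL (i : Fin t) (u : Fin k → F) : Matrix (Fin t → Fin k) (Rst k i) F := inM (at1_inj i) (fu u)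

/-- the slot contraction `v ⊗ w ↦ φ(v) w` -/
noncomputable def outL (i : Fin t) (φ : Fin k → F) : Matrix (Rst k i) (Fin t → Fin k) F :=
  outM (at1_inj i) (1 : Matrix (Fin 1 → Fin k) (Fin 1 → Fin k) F) (fu φ)

/-- the operator acting on the other slots -/
noncomputable def ext (i : Fin t) (N : Matrix (Rst k i) (Rst k i) F) : Matrix (Fin t → Fin k) (Fin t → Fin k) F :=
  emb (at1_inj i) 1 N

theorem inL_apply (i : Fin t) (u : Fin k → F) (x : Fin t → Fin k) (y : Rst k i) :
    inL i u x y = if (split (at1_inj i) x).2 = y then u (x i) else 0 := rfl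

theorem outL_apply (i : Fin t) (φ : Fin k → F) (x : Fin t → Fin k) (y : Rst k i) :
    outL i φ y x = if (split (at1_inj i) x).2 = y then φ (x i) else 0 := by
  simp only [outL, outM, Matrix.of_apply, vecMul_one]
  rfl

theorem inL_add (i : Fin t) (u v : Fin k → F) : inL i (u + v) = inL i u + inL i v := by
  ext x y
  simp only [inL_apply, Matrix.add_apply, Pi.add_apply]
  split_ifs <;> simp

theorem inL_smul (i : Fin t) (c : F) (u : Fin k → F) : inL i (c • u) = c • inL i u := by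
  ext x y
  simp only [inL_apply, Matrix.smul_apply, Pi.smul_apply, smul_eq_mul]
  split_ifs <;> simp

theorem inL_zero (i : Fin t) : inL i (0 : Fin k → F) = 0 := by
  rw [← zero_smul F (0 : Fin k → F), inL_smul, zero_smul]

theorem outL_add (i : Fin t) (φ ψ : Fin k → F) : outL i (φ + ψ) = outL i φ + outL i ψ := by
  ext y x
  simp only [outL_apply, Matrix.add_apply, Pi.add_apply]
  split_ifs <;> simp

theorem outL_smul (i : Fin t) (c : F) (φ : Fin k → F) : outL i (c • φ) = c • outL i φ := by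
  ext y x
  simp only [outL_apply, Matrix.smul_apply, Pi.smul_apply, smul_eq_mul]
  split_ifs <;> simp

theorem outL_zero (i : Fin t) : outL i (0 : Fin k → F) = 0 := by
  rw [← zero_smul F (0 : Fin k → F), outL_smul, zero_smul]

theorem bf_fu_one (u v : Fin k → F) :
    bf (1 : Matrix (Fin 1 → Fin k) (Fin 1 → Fin k) F) (fu u) (fu v) = u ⬝ᵥ v := by
  rw [bf, one_mulVec]
  exact Equiv.sum_comp (Equiv.funUnique (Fin 1) (Fin k)) fun a => u a * v a

theorem outL_inL (i : Fin t) (u φ : Fin k → F) :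
    outL i φ * inL i u = (φ ⬝ᵥ u) • (1 : Matrix (Rst k i) (Rst k i) F) := by
  rw [inL, outL, outM_mul_inM, bf_fu_one]

theorem rk_fu (u φ : Fin k → F) :
    rk (1 : Matrix (Fin 1 → Fin k) (Fin 1 → Fin k) F) (fu u) (fu φ) = sl (0 : Fin 1) (vecMulVec u φ) := by
  ext x y
  rw [rk, vecMul_one, sl_apply, if_pos fun j hj => absurd (Subsingleton.elim j 0) hj]
  rfl

theorem emb_sl0 (i : Fin t) (A : Matrix (Fin k) (Fin k) F) : emb (at1_inj i) (sl (0 : Fin 1) A) 1 = sl i A := by
  rw [sl, sl, ← emb_tens (at1_inj i) (Function.update 1 i A)]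
  congr 1
  · congr 1
    funext a
    rw [Subsingleton.elim a 0]
    simp
  · rw [← tens_one]
    congr 1
    funext j
    rw [Function.update_of_ne fun h => j.2 0 h.symm]
    rfl

theorem inL_mul_outL (i : Fin t) (u φ : Fin k → F) (N : Matrix (Rst k i) (Rst k i) F) :
    inL i u * N * outL i φ = sl i (vecMulVec u φ) * ext i N := by
  rw [inL, outL, inM_mul_outM, rk_fu, ext, ← emb_sl0 i, emb_mul, mul_one, one_mul]

theorem inL_outL (i : Fin t) (u φ : Fin k → F) : inL i u * outL i φ = sl i (vecMulVec u φ) := by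
  rw [← Matrix.mul_one (inL i u), inL_mul_outL, ext, emb_one, mul_one]

theorem ext_mul (i : Fin t) (M N : Matrix (Rst k i) (Rst k i) F) : ext i (M * N) = ext i M * ext i N := by
  rw [ext, ext, ext, emb_mul, one_mul]

theorem ext_one (i : Fin t) : ext i (1 : Matrix (Rst k i) (Rst k i) F) = 1 := emb_one _

theorem ext_add (i : Fin t) (M N : Matrix (Rst k i) (Rst k i) F) : ext i (M + N) = ext i M + ext i N :=
  emb_add_right _ _ _ _

theorem ext_smul (i : Fin t) (c : F) (M : Matrix (Rst k i) (Rst k i) F) : ext i (c • M) = c • ext i M :=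
  emb_smul_right _ _ _ _

theorem ext_commute (i : Fin t) (N : Matrix (Rst k i) (Rst k i) F) (A : Matrix (Fin k) (Fin k) F) :
    Commute (ext i N) (sl i A) := by
  show _ = _
  rw [ext, ← emb_sl0 i A, emb_mul, emb_mul, one_mul, mul_one, mul_one, one_mul]

theorem split_symm_at1 (i : Fin t) (a : Fin 1 → Fin k) (x : Fin t → Fin k) :
    (split (at1_inj i)).symm (a, (split (at1_inj i) x).2) = Function.update x i (a 0) := by
  apply (split (at1_inj i)).injective
  rw [Equiv.apply_symm_apply]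
  refine Prod.ext (funext fun b => ?_) (funext fun j => ?_)
  · show a b = Function.update x i (a 0) i
    rw [Function.update_self, Subsingleton.elim b 0]
  · exact (Function.update_of_ne (fun h => j.2 0 h.symm) _ _).symm

theorem ext_mul_inL (i : Fin t) (N : Matrix (Rst k i) (Rst k i) F) (u : Fin k → F) :
    ext i N * inL i u = inL i u * N := by
  ext x y
  rw [inL, mul_inM_apply]
  simp only [ext, emb, Matrix.submatrix_apply, Equiv.apply_symm_apply, Matrix.kroneckerMap_apply, Matrix.one_apply,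
    ite_mul, one_mul, zero_mul, Finset.sum_ite_eq, Finset.mem_univ, if_true]
  rw [Matrix.mul_apply]
  simp only [inM, Matrix.of_apply, ite_mul, zero_mul, Finset.sum_ite_eq, Finset.mem_univ, if_true]
  exact mul_comm _ _

theorem outL_mul_ext (i : Fin t) (N : Matrix (Rst k i) (Rst k i) F) (φ : Fin k → F) :
    outL i φ * ext i N = N * outL i φ := by
  ext y x
  rw [outL, outM_mul_apply]
  simp only [ext, emb, Matrix.submatrix_apply, Equiv.apply_symm_apply, Matrix.kroneckerMap_apply, Matrix.one_apply,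
    ite_mul, one_mul, zero_mul, mul_ite, mul_zero, Finset.sum_ite_eq', Finset.mem_univ, if_true]
  rw [Matrix.mul_apply]
  simp only [outM, Matrix.of_apply, mul_ite, mul_zero, Finset.sum_ite_eq, Finset.mem_univ, if_true]
  exact mul_comm _ _

theorem sl_mul_inL (i : Fin t) (A : Matrix (Fin k) (Fin k) F) (u : Fin k → F) :
    sl i A * inL i u = inL i (A *ᵥ u) := by
  ext x y
  rw [inL, mul_inM_apply]
  obtain rfl | h := eq_or_ne ((split (at1_inj i) x).2) y
  · simp only [split_symm_at1, sl_apply, Function.update_self, inL_apply, if_true]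
    rw [← Equiv.sum_comp (Equiv.funUnique (Fin 1) (Fin k)).symm, mulVec, dotProduct]
    refine Finset.sum_congr rfl fun a _ => ?_
    rw [if_pos fun j hj => by simp [hj]]
    rfl
  · rw [inL_apply, if_neg h]
    refine Finset.sum_eq_zero fun a _ => ?_
    rw [sl_apply, if_neg, zero_mul]
    intro hx
    refine h (funext fun j => ?_)
    have h1 := hx j.1 (fun e => j.2 0 e.symm)
    rw [show ((split (at1_inj i)).symm (a, y)) j.1 = y j from
      congrFun (congrArg Prod.snd ((split (at1_inj i)).apply_symm_apply (a, y))) j] at h1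
    exact h1

theorem outL_mul_sl (i : Fin t) (A : Matrix (Fin k) (Fin k) F) (φ : Fin k → F) :
    outL i φ * sl i A = outL i (φ ᵥ* A) := by
  ext y x
  rw [outL, outM_mul_apply]
  obtain rfl | h := eq_or_ne ((split (at1_inj i) x).2) y
  · simp only [split_symm_at1, sl_apply, Function.update_self, outM, Matrix.of_apply, if_true, vecMul_one]
    rw [← Equiv.sum_comp (Equiv.funUnique (Fin 1) (Fin k)).symm]
    rw [outL_apply, if_pos rfl]
    refine Finset.sum_congr rfl fun a _ => ?_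
    rw [if_pos fun j hj => by simp [hj]]
    rfl
  · show _ = outM _ _ _ y x
    simp only [outM, Matrix.of_apply, if_neg h]
    refine Finset.sum_eq_zero fun a _ => ?_
    rw [sl_apply, if_neg, mul_zero]
    intro hx
    refine h (funext fun j => ?_)
    have h1 := hx j.1 (fun e => j.2 0 e.symm)
    rw [show ((split (at1_inj i)).symm (a, y)) j.1 = y j from
      congrFun (congrArg Prod.snd ((split (at1_inj i)).apply_symm_apply (a, y))) j] at h1
    exact h1.symm

/-- a slot as one of the other slots -/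
def rs {i j : Fin t} (h : j ≠ i) : Rest (at1 i) := ⟨j, fun _ e => h e.symm⟩

theorem sl_eq_ext {i j : Fin t} (h : j ≠ i) (A : Matrix (Fin k) (Fin k) F) :
    sl j A = ext i (sl (rs h) A) := by
  show tens (Function.update 1 j A) = emb (at1_inj i) 1
    (tens (Function.update 1 (rs h) A))
  rw [← emb_tens (at1_inj i) (Function.update 1 j A)]
  congr 1
  · rw [← tens_one]
    congr 1
    funext a
    rw [Function.comp_apply, Function.update_of_ne h.symm]
    rfl
  · congr 1
    funext l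
    rcases eq_or_ne l.1 j with e | e
    · obtain rfl : l = rs h := Subtype.ext e
      rw [Function.update_self]
      show Function.update (1 : Fin t → Matrix (Fin k) (Fin k) F) j A j = A
      rw [Function.update_self]
    · rw [Function.update_of_ne e, Function.update_of_ne (fun e' : l = rs h => e (congrArg Subtype.val e'))]
      rfl

theorem outL_mul_inL_cancel (i : Fin t) {u : Fin k → F} {φ : Fin k → F} (h : φ ⬝ᵥ u = 1) :
    outL i φ * inL i u = (1 : Matrix (Rst k i) (Rst k i) F) := by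
  rw [outL_inL, h, one_smul]

/-- the sum over a basis -/
theorem sum_inL_outL (i : Fin t) :
    ∑ a : Fin k, inL i (Pi.single a (1 : F)) * outL i (Pi.single a (1 : F)) =
      (1 : Matrix (Fin t → Fin k) (Fin t → Fin k) F) := by
  simp only [inL_outL]
  let f : Matrix (Fin k) (Fin k) F →+ Matrix (Fin t → Fin k) (Fin t → Fin k) F := AddMonoidHom.mk' (sl i) (sl_add i)
  refine (map_sum f (fun a : Fin k => vecMulVec (Pi.single a (1 : F)) (Pi.single a (1 : F))) Finset.univ).symm.trans ?_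
  rw [show (∑ a : Fin k, vecMulVec (Pi.single a (1 : F)) (Pi.single a (1 : F))) = 1 from ?_]
  · exact sl_one i
  ext a b
  simp [Matrix.sum_apply, vecMulVec_apply, Pi.single_apply, Matrix.one_apply]

/-- existence of a vector separating two functionals -/
theorem exists_dot {φ ψ : Fin k → F} (h : ∀ c : F, φ ≠ c • ψ) : ∃ v, ψ ⬝ᵥ v = 0 ∧ φ ⬝ᵥ v = 1 := by
  have h' : φ ∉ Submodule.span F {ψ} := fun hm => by
    obtain ⟨c, hc⟩ := Submodule.mem_span_singleton.1 hm
    exact h c hc.symm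
  obtain ⟨f, hf, hW⟩ := (Submodule.span F {ψ}).exists_le_ker_of_notMem h'
  set v : Fin k → F := fun a => f (Pi.single a 1) with hv
  have hfv : ∀ x : Fin k → F, x ⬝ᵥ v = f x := fun x => by
    conv_rhs => rw [← Finset.univ_sum_single x]
    rw [map_sum]
    refine Finset.sum_congr rfl fun a _ => ?_
    rw [show Pi.single a (x a) = x a • (Pi.single a 1 : Fin k → F) by rw [← Pi.single_smul, smul_eq_mul, mul_one],
      map_smul, smul_eq_mul]
  refine ⟨(f φ)⁻¹ • v, ?_, ?_⟩
  · rw [dotProduct_smul, hfv, LinearMap.mem_ker.1 (hW (Submodule.mem_span_singleton_self ψ)), smul_zero]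
  · rw [dotProduct_smul, hfv, smul_eq_mul, inv_mul_cancel₀ hf]

/-- a functional killing two vectors, off a given line -/
theorem exists_perp (hk : 3 ≤ k) (u v : Fin k → F) : ∃ φ : Fin k → F, φ ≠ 0 ∧ φ ⬝ᵥ u = 0 ∧ φ ⬝ᵥ v = 0 := by
  obtain ⟨φ, hφ, h⟩ : ∃ φ : Fin k → F, φ ≠ 0 ∧ (Matrix.of ![u, v] : Matrix (Fin 2) (Fin k) F) *ᵥ φ = 0 := by
    by_contra! h
    have hinj : Function.Injective (Matrix.of ![u, v] : Matrix (Fin 2) (Fin k) F).mulVecLin :=
      (injective_iff_map_eq_zero _).2 fun φ hφ => by_contra fun h0 => h φ h0 hφ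
    have := LinearMap.finrank_le_finrank_of_injective hinj
    rw [Module.finrank_fintype_fun_eq_card, Module.finrank_fintype_fun_eq_card, Fintype.card_fin, Fintype.card_fin]
      at this
    omega
  refine ⟨φ, hφ, ?_, ?_⟩
  · rw [dotProduct_comm]; exact congrFun h 0
  · rw [dotProduct_comm]; exact congrFun h 1

/-- a functional killing a vector, off a given line -/
theorem exists_perp_off (hk : 3 ≤ k) (u ψ : Fin k → F) :
    ∃ φ : Fin k → F, φ ⬝ᵥ u = 0 ∧ φ ≠ 0 ∧ ∀ c : F, φ ≠ c • ψ := by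
  by_cases hψ : ψ = 0
  · obtain ⟨φ, h1, h2, -⟩ := exists_perp hk u u
    exact ⟨φ, h2, h1, fun c => by rw [hψ, smul_zero]; exact h1⟩
  obtain ⟨a, ha⟩ := Function.ne_iff.1 hψ
  obtain ⟨φ, h1, h2, h3⟩ := exists_perp hk u (Pi.single a 1)
  refine ⟨φ, h2, h1, fun c e => ?_⟩
  rw [e, dotProduct_single_one, Pi.smul_apply, smul_eq_mul] at h3
  exact h1 (by rw [e, (mul_eq_zero.1 h3).resolve_right ha, zero_smul])

/-- the matrix is that of an element of the group -/
def InH (H : Subgroup (GL (Fin t → Fin k) F)) (X : Matrix (Fin t → Fin k) (Fin t → Fin k) F) : Prop :=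
  ∃ h ∈ H, (h : Matrix (Fin t → Fin k) (Fin t → Fin k) F) = X

/-- the unit `1 + X` of a square-zero matrix -/
def uni {ν : Type} [Fintype ν] [DecidableEq ν] (X : Matrix ν ν F) (h : X * X = 0) : GL ν F :=
  ⟨1 + X, 1 - X, by rw [mul_sub, mul_one, add_mul, one_mul, h]; abel,
    by rw [sub_mul, one_mul, mul_add, mul_one, h]; abel⟩

theorem inv_val_eq {ν : Type} [Fintype ν] [DecidableEq ν] {g : GL ν F} {X : Matrix ν ν F}
    (hg : (g : Matrix ν ν F) = 1 + X) (h : X * X = 0) : ((g⁻¹ : GL ν F) : Matrix ν ν F) = 1 - X := by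
  rw [show g = uni X h from Units.ext hg]
  rfl

variable {H : Subgroup (GL (Fin t → Fin k) F)}

theorem InH.add {X Y : Matrix (Fin t → Fin k) (Fin t → Fin k) F} (hX : InH H (1 + X)) (hY : InH H (1 + Y))
    (h : X * Y = 0) : InH H (1 + (X + Y)) := by
  obtain ⟨a, ha, ea⟩ := hX
  obtain ⟨b, hb, eb⟩ := hY
  exact ⟨a * b, mul_mem ha hb, by rw [Units.val_mul, ea, eb, add_mul, one_mul, mul_add, mul_one, h]; abel⟩

theorem InH.comm {X Y : Matrix (Fin t → Fin k) (Fin t → Fin k) F} (hX : InH H (1 + X)) (hY : InH H (1 + Y))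
    (hXX : X * X = 0) (hYY : Y * Y = 0) (hYX : Y * X = 0) : InH H (1 + X * Y) := by
  obtain ⟨a, ha, ea⟩ := hX
  obtain ⟨b, hb, eb⟩ := hY
  refine ⟨a * b * a⁻¹ * b⁻¹, mul_mem (mul_mem (mul_mem ha hb) (inv_mem ha)) (inv_mem hb), ?_⟩
  rw [Units.val_mul, Units.val_mul, Units.val_mul, ea, eb, inv_val_eq ea hXX, inv_val_eq eb hYY]
  simp only [mul_add, add_mul, mul_sub, sub_mul, one_mul, mul_one, mul_assoc, hXX, hYY, hYX, mul_zero, zero_mul,
    add_zero, sub_zero]
  abel

theorem InH.conj {X : Matrix (Fin t → Fin k) (Fin t → Fin k) F} (hX : InH H (1 + X)) {g : GL (Fin t → Fin k) F}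
    (hg : g ∈ H) : InH H (1 + (g : Matrix (Fin t → Fin k) (Fin t → Fin k) F) * X *
      ((g⁻¹ : GL (Fin t → Fin k) F) : Matrix (Fin t → Fin k) (Fin t → Fin k) F)) := by
  obtain ⟨a, ha, ea⟩ := hX
  refine ⟨g * a * g⁻¹, mul_mem (mul_mem hg ha) (inv_mem hg), ?_⟩
  rw [Units.val_mul, Units.val_mul, ea, mul_add, add_mul, mul_one, ← Units.val_mul, mul_inv_cancel, Units.val_one]

/-- a group with the slot root elements and permutations of the slots -/
structure Setting (H : Subgroup (GL (Fin t → Fin k) F)) : Prop where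
  dim : 3 ≤ k
  root : ∀ (i : Fin t) (u φ : Fin k → F), φ ⬝ᵥ u = 0 → InH H (1 + sl i (vecMulVec u φ))
  perm : ∀ a b : Equiv.Perm (Fin t), a * a = 1 → (Asch.permU (a * (b * a * b⁻¹)) : GL (Fin t → Fin k) F) ∈ H

/-- `1 + (u φ) ⊗ c` is in the group -/
def Pc (H : Subgroup (GL (Fin t → Fin k) F)) (i : Fin t) (u φ : Fin k → F) (c : Matrix (Rst k i) (Rst k i) F) : Prop :=
  InH H (1 + inL i u * c * outL i φ)

/-- `1 + (u φ) ⊗ c` is in the group for all pairs -/
def Lc (H : Subgroup (GL (Fin t → Fin k) F)) (i : Fin t) (c : Matrix (Rst k i) (Rst k i) F) : Prop :=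
  ∀ u φ : Fin k → F, φ ⬝ᵥ u = 0 → Pc H i u φ c

theorem out_in_mul (i : Fin t) (u φ : Fin k → F) {ν : Type} (P : Matrix (Rst k i) ν F) :
    outL i φ * (inL i u * P) = (φ ⬝ᵥ u) • P := by
  rw [← Matrix.mul_assoc, outL_inL, Matrix.smul_mul, Matrix.one_mul]

theorem pc_mul (i : Fin t) {u φ v ψ : Fin k → F} (c d : Matrix (Rst k i) (Rst k i) F) :
    inL i u * c * outL i φ * (inL i v * d * outL i ψ) = (φ ⬝ᵥ v) • (inL i u * (c * d) * outL i ψ) := by
  simp only [Matrix.mul_assoc, out_in_mul, Matrix.mul_smul]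

theorem Pc.add {i : Fin t} {u φ : Fin k → F} {c d : Matrix (Rst k i) (Rst k i) F} (h : φ ⬝ᵥ u = 0)
    (hc : Pc H i u φ c) (hd : Pc H i u φ d) : Pc H i u φ (c + d) := by
  rw [Pc, Matrix.mul_add, Matrix.add_mul]
  exact InH.add hc hd (by rw [pc_mul, h, zero_smul])

theorem Pc.of_zero {i : Fin t} {u φ : Fin k → F} {c : Matrix (Rst k i) (Rst k i) F} (h : u = 0 ∨ φ = 0) :
    Pc H i u φ c := by
  refine ⟨1, one_mem H, ?_⟩
  rcases h with rfl | rfl <;> simp [inL_zero, outL_zero]

namespace Setting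

variable (hS : Setting H)
include hS

theorem pc_one (i : Fin t) {u φ : Fin k → F} (h : φ ⬝ᵥ u = 0) : Pc H i u φ 1 := by
  rw [Pc, Matrix.mul_one, inL_outL]
  exact hS.root i u φ h

omit hS in
theorem pc_comm {i : Fin t} {u φ v ψ : Fin k → F} {c d : Matrix (Rst k i) (Rst k i) F} (hc : Pc H i u φ c)
    (hd : Pc H i v ψ d) (hu : φ ⬝ᵥ u = 0) (hv : ψ ⬝ᵥ v = 0) (huv : φ ⬝ᵥ v = 1) (hvu : ψ ⬝ᵥ u = 0) :
    Pc H i u ψ (c * d) := by
  have h := InH.comm hc hd (by rw [pc_mul, hu, zero_smul]) (by rw [pc_mul, hv, zero_smul])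
    (by rw [pc_mul, hvu, zero_smul])
  rwa [pc_mul, huv, one_smul] at h

/-- change of the functional -/
theorem pc_right {i : Fin t} {u φ ψ : Fin k → F} {c : Matrix (Rst k i) (Rst k i) F} (hφ : φ ≠ 0)
    (hu : φ ⬝ᵥ u = 0) (hψ : ψ ⬝ᵥ u = 0) (hc : Pc H i u φ c) : Pc H i u ψ c := by
  have step : ∀ φ ψ : Fin k → F, φ ⬝ᵥ u = 0 → ψ ⬝ᵥ u = 0 → (∀ a : F, φ ≠ a • ψ) → Pc H i u φ c → Pc H i u ψ c :=
    fun φ ψ hu hψ hne hc => by
      obtain ⟨v, hv1, hv2⟩ := exists_dot hne
      have h := pc_comm hc (hS.pc_one i hv1) hu hv1 hv2 hψ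
      rwa [mul_one] at h
  obtain ⟨χ, hχu, hχ0, hχ⟩ := exists_perp_off hS.dim u φ
  by_cases h : ∀ a : F, φ ≠ a • ψ
  · exact step φ ψ hu hψ h hc
  push Not at h
  obtain ⟨a, ha⟩ := h
  have ha0 : a ≠ 0 := fun e => hφ (by rw [ha, e, zero_smul])
  refine step χ ψ hχu hψ (fun b e => hχ (b * a⁻¹) (by rw [e, ha, smul_smul, mul_assoc, inv_mul_cancel₀ ha0, mul_one]))
    (step φ χ hu hχu (fun b e => ?_) hc)
  have hb : b ≠ 0 := fun e0 => hφ (by rw [e, e0, zero_smul])
  exact hχ b⁻¹ (by rw [e, inv_smul_smul₀ hb])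

/-- change of the vector -/
theorem pc_left {i : Fin t} {u v φ : Fin k → F} {c : Matrix (Rst k i) (Rst k i) F} (hu0 : u ≠ 0)
    (hu : φ ⬝ᵥ u = 0) (hv : φ ⬝ᵥ v = 0) (hc : Pc H i u φ c) : Pc H i v φ c := by
  have step : ∀ u v : Fin k → F, φ ⬝ᵥ u = 0 → φ ⬝ᵥ v = 0 → (∀ a : F, u ≠ a • v) → Pc H i u φ c → Pc H i v φ c :=
    fun u v hu hv hne hc => by
      obtain ⟨ψ, h1, h2⟩ := exists_dot hne
      rw [dotProduct_comm] at h1 h2
      have h := pc_comm (hS.pc_one i h1) hc h1 hu h2 hv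
      rwa [one_mul] at h
  obtain ⟨w, hwφ, hw0, hw⟩ := exists_perp_off hS.dim φ u
  rw [dotProduct_comm] at hwφ
  by_cases h : ∀ a : F, u ≠ a • v
  · exact step u v hu hv h hc
  push Not at h
  obtain ⟨a, ha⟩ := h
  have ha0 : a ≠ 0 := fun e => hu0 (by rw [ha, e, zero_smul])
  refine step w v hwφ hv (fun b e => hw (b * a⁻¹) (by rw [e, ha, smul_smul, mul_assoc, inv_mul_cancel₀ ha0, mul_one]))
    (step u w hu hwφ (fun b e => ?_) hc)
  have hb : b ≠ 0 := fun e0 => hu0 (by rw [e, e0, zero_smul])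
  exact hw b⁻¹ (by rw [e, inv_smul_smul₀ hb])

theorem lc_of_pc {i : Fin t} {u φ : Fin k → F} {c : Matrix (Rst k i) (Rst k i) F} (hu0 : u ≠ 0) (hφ : φ ≠ 0)
    (h : φ ⬝ᵥ u = 0) (hc : Pc H i u φ c) : Lc H i c := fun u' φ' h' => by
  by_cases hu' : u' = 0
  · exact Pc.of_zero (Or.inl hu')
  obtain ⟨ψ, hψ0, hψu, hψu'⟩ := exists_perp hS.dim u u'
  exact hS.pc_right hψ0 hψu' h' (hS.pc_left hu0 hψu hψu' (hS.pc_right hφ h hψu hc))

theorem lc_one (i : Fin t) : Lc H i 1 := fun _ _ h => hS.pc_one i h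

omit hS in
theorem lc_add {i : Fin t} {c d : Matrix (Rst k i) (Rst k i) F} (hc : Lc H i c) (hd : Lc H i d) : Lc H i (c + d) :=
  fun u φ h => (hc u φ h).add h (hd u φ h)

omit hS in
theorem lc_smul {i : Fin t} {c : Matrix (Rst k i) (Rst k i) F} (hc : Lc H i c) (s : F) : Lc H i (s • c) :=
  fun u φ h => by
    have h1 := hc (s • u) φ (by rw [dotProduct_smul, h, smul_zero])
    rw [Pc, inL_smul, Matrix.smul_mul, Matrix.smul_mul] at h1
    rwa [Pc, Matrix.mul_smul, Matrix.smul_mul]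

theorem lc_mul {i : Fin t} {c d : Matrix (Rst k i) (Rst k i) F} (hc : Lc H i c) (hd : Lc H i d) : Lc H i (c * d) :=
  fun u ψ h => by
    obtain ⟨φ, hφu, -, hφ⟩ := exists_perp_off hS.dim u ψ
    obtain ⟨v, hv1, hv2⟩ := exists_dot hφ
    exact pc_comm (hc u φ hφu) (hd v ψ hv1) hφu hv1 hv2 h

/-- conjugation by a root element of another slot -/
theorem lc_delta {i : Fin t} {c : Matrix (Rst k i) (Rst k i) F} (hc : Lc H i c) (l : Rest (at1 i)) {v ψ : Fin k → F}
    (h : ψ ⬝ᵥ v = 0) : Lc H i (sl l (vecMulVec v ψ) * c - c * sl l (vecMulVec v ψ) -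
      sl l (vecMulVec v ψ) * c * sl l (vecMulVec v ψ)) := by
  have hl : l.1 ≠ i := fun e => l.2 0 e.symm
  set N := sl l (vecMulVec v ψ) with hN
  have hNN : N * N = 0 := by rw [hN, sl_mul, vecMulVec_mul_vecMulVec, h, zero_smul, vecMulVec_zero, sl_zero]
  obtain ⟨g, hg, ge⟩ := hS.root l.1 v ψ h
  rw [sl_eq_ext hl, show rs hl = l from rfl, ← hN] at ge
  have hgi := inv_val_eq ge (by rw [← ext_mul, hNN, ← zero_smul F (0 : Matrix (Rst k i) (Rst k i) F), ext_smul,
    zero_smul])
  suffices Lc H i ((1 + N) * c * (1 - N)) by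
    have h1 := lc_add this (lc_smul hc (-1))
    refine cast (congrArg (Lc H i) ?_) h1
    simp only [add_mul, mul_sub, one_mul, mul_one, neg_smul, one_smul, mul_assoc]
    abel
  intro u φ hu
  have h1 := InH.conj (hc u φ hu) hg
  rw [Pc]
  refine cast (congrArg (fun Z => InH H (1 + Z)) ?_) h1
  have e1 : (g : Matrix (Fin t → Fin k) (Fin t → Fin k) F) * inL i u = inL i u * (1 + N) := by
    rw [ge, Matrix.add_mul, Matrix.one_mul, ext_mul_inL, Matrix.mul_add, Matrix.mul_one]
  have e2 : outL i φ * ((g⁻¹ : GL (Fin t → Fin k) F) : Matrix (Fin t → Fin k) (Fin t → Fin k) F) =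
      (1 - N) * outL i φ := by
    rw [hgi, Matrix.mul_sub, Matrix.mul_one, outL_mul_ext, Matrix.sub_mul, Matrix.one_mul]
  rw [Matrix.mul_assoc, Matrix.mul_assoc, e2, ← Matrix.mul_assoc (g : Matrix (Fin t → Fin k) (Fin t → Fin k) F),
    ← Matrix.mul_assoc (g : Matrix (Fin t → Fin k) (Fin t → Fin k) F), e1]
  simp only [Matrix.mul_assoc]

end Setting

end Cfsg.Agent.ClassicalMax.LWreath
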