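import Cfsg.Agent.ClassicalMax.LWreath.Basic
import Cfsg.Agent.ClassicalMax.LWreath.Alg

/-!
A non-scalar operator gives all elementary transvections.
-/

set_option autoImplicit false
set_option linter.unusedSectionVars false

namespace Cfsg.Agent.ClassicalMax.LWreath

open Matrix Cfsg.Agent.ClassicalMax.TPow

variable {F : Type*} [Field F] {k t : ℕ} {H : Subgroup (GL (Fin t → Fin k) F)}

theorem lc_cond (hk : 2 ≤ k) : ∃ u φ : Fin k → F, u ≠ 0 ∧ φ ≠ 0 ∧ φ ⬝ᵥ u = 0 :=
  ⟨Pi.single ⟨0, by omega⟩ 1, Pi.single ⟨1, by omega⟩ 1, by simp, by simp, by simp [Pi.single_apply]⟩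

theorem vecMulVec_conj (A B : Matrix (Fin k) (Fin k) F) (u φ : Fin k → F) :
    A * vecMulVec u φ * B = vecMulVec (A *ᵥ u) (φ ᵥ* B) := by
  rw [mul_vecMulVec, vecMulVec_mul]

namespace Setting

variable (hS : Setting H)
include hS

theorem lc_inv (i : Fin t) : Inv (Lc H i) :=
  { one := hS.lc_one i
    add := fun _ _ hc hd => Setting.lc_add hc hd
    smul := fun _ hc s => Setting.lc_smul hc s
    mul := fun _ _ hc hd => hS.lc_mul hc hd
    delta := fun _ hc l _ _ h => hS.lc_delta hc l h }

/-- transport along a permutation of the slots in the group -/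
theorem transfer {σ : Equiv.Perm (Fin t)} (hσ : (Asch.permU σ : GL (Fin t → Fin k) F) ∈ H) {i j : Fin t} (hj : j ≠ i)
    {A : Matrix (Fin k) (Fin k) F} (hA : Lc H i (sl (rs hj) A)) : Lc H (σ i) (sl (rs (σ.injective.ne hj)) A) := by
  obtain ⟨u, φ, hu, hφ, huφ⟩ := lc_cond (F := F) (k := k) (le_trans (by omega) hS.dim)
  refine hS.lc_of_pc hu hφ huφ ?_
  have h := InH.conj (hA u φ huφ) hσ
  rw [Pc]
  refine cast (congrArg (fun Z => InH H (1 + Z)) ?_) h
  rw [inL_mul_outL, inL_mul_outL, ← sl_eq_ext hj A, ← sl_eq_ext (σ.injective.ne hj)]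
  set G : Matrix (Fin t → Fin k) (Fin t → Fin k) F := ((Asch.permU σ : GL (Fin t → Fin k) F) : Matrix (Fin t → Fin k) (Fin t → Fin k) F)
  set G' : Matrix (Fin t → Fin k) (Fin t → Fin k) F := (((Asch.permU σ)⁻¹ : GL (Fin t → Fin k) F) : Matrix (Fin t → Fin k) (Fin t → Fin k) F)
  have hG : G' * G = 1 := by rw [← Units.val_mul, inv_mul_cancel, Units.val_one]
  calc G * (sl i (vecMulVec u φ) * sl j A) * G' = G * sl i (vecMulVec u φ) * G' * (G * sl j A * G') := by
        simp only [mul_assoc, ← mul_assoc G' G, hG, one_mul]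
    _ = _ := by rw [permU_conj, permU_conj]

/-- a slot algebra over a slot gives the reverse one -/
theorem lc_symm {i j : Fin t} (hj : j ≠ i) (h : ∀ A, Lc H i (sl (rs hj) A)) (A : Matrix (Fin k) (Fin k) F) :
    Lc H j (sl (rs hj.symm) A) := by
  classical
  have hP := hS.lc_inv j
  have hk := hS.dim
  have hoff : ∀ a b : Fin k, a ≠ b → Lc H j (sl (rs hj.symm) (Matrix.single a b (1 : F))) := fun a b hab => by
    obtain ⟨u, φ, hu, hφ, huφ⟩ := lc_cond (F := F) (k := k) (le_trans (by omega) hS.dim)
    refine hS.lc_of_pc hu hφ huφ ?_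
    have h1 := h (vecMulVec u φ) (Pi.single a 1) (Pi.single b 1) (by rw [dotProduct_single_one, Pi.single_eq_of_ne hab])
    rw [Pc] at h1 ⊢
    refine cast (congrArg (fun Z => InH H (1 + Z)) ?_) h1
    rw [inL_mul_outL, inL_mul_outL, ← sl_eq_ext hj, ← sl_eq_ext hj.symm, ← single_eq, (sl_commute hj.symm _ _).eq]
  induction A using Matrix.induction_on' with
  | h_zero => rw [sl_zero]; exact hP.zero
  | h_add p q hp hq => rw [sl_add]; exact hP.add _ _ hp hq
  | h_std_basis a b x =>
    rw [show Matrix.single a b x = x • Matrix.single a b (1 : F) by rw [Matrix.smul_single, smul_eq_mul, mul_one],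
      sl_smul]
    refine hP.smul _ ?_ x
    rcases eq_or_ne a b with rfl | hab
    · obtain ⟨d, hd, -⟩ := exists_third hk a a
      rw [show Matrix.single a a (1 : F) = Matrix.single a d 1 * Matrix.single d a 1 by
        rw [single_mul_single_same, mul_one], ← sl_mul]
      exact hP.mul _ _ (hoff a d (Ne.symm hd)) (hoff d a hd)
    · exact hoff a b hab

theorem lc_slot (i : Fin t) {j : Fin t} (hj : j ≠ i) (h : ∀ A, Lc H i (sl (rs hj) A)) {l : Fin t} (hl : l ≠ i)
    (A : Matrix (Fin k) (Fin k) F) : Lc H i (sl (rs hl) A) := by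
  rcases eq_or_ne l j with rfl | hlj
  · exact h A
  set σ := Equiv.swap i l * (Equiv.swap i j * Equiv.swap i l * (Equiv.swap i j)⁻¹) with hσ
  have hmem : (Asch.permU σ : GL (Fin t → Fin k) F) ∈ H := hS.perm _ _ (Equiv.swap_mul_self i l)
  have h1 := hS.transfer hmem hj.symm (hS.lc_symm hj h A)
  have e1 : σ j = i := by
    simp [hσ, Equiv.swap_apply_def, hj, Ne.symm hj, hl, Ne.symm hl, hlj, Ne.symm hlj]
  have e2 : σ i = l := by
    simp [hσ, Equiv.swap_apply_def, hj, Ne.symm hj, hl, Ne.symm hl, hlj, Ne.symm hlj]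
  have key : ∀ (i' l' : Fin t) (h' : l' ≠ i'), i' = i → l' = l → Lc H i' (sl (rs h') A) → Lc H i (sl (rs hl) A) := by
    rintro i' l' h' rfl rfl hh
    exact hh
  exact key _ _ _ e1 e2 h1

theorem lc_everything (i : Fin t) {j : Fin t} (hj : j ≠ i) (h : ∀ A, Lc H i (sl (rs hj) A))
    (c : Matrix (Rst k i) (Rst k i) F) : Lc H i c := by
  classical
  have hP := hS.lc_inv i
  have ht : ∀ (s : Finset (Rest (at1 i))) (T : Rest (at1 i) → Matrix (Fin k) (Fin k) F),
      Lc H i (tens (s.piecewise T 1)) := fun s T => by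
    induction s using Finset.induction_on with
    | empty => rw [Finset.piecewise_empty, tens_one]; exact hP.one
    | insert l s hl ih =>
      have e : tens ((insert l s).piecewise T 1) = sl l (T l) * tens (s.piecewise T 1) := by
        rw [sl, tens_mul]
        congr 1
        funext j
        rcases eq_or_ne j l with rfl | hj
        · simp [hl]
        · simp [hj, Finset.piecewise]
      rw [e]
      exact hP.mul _ _ (hS.lc_slot i hj h (fun e => l.2 0 e.symm) (T l)) ih
  induction c using Matrix.induction_on' with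
  | h_zero => exact hP.zero
  | h_add p q hp hq => exact hP.add _ _ hp hq
  | h_std_basis x y z =>
    have e : Matrix.single x y z = z • tens fun l => Matrix.single (x l) (y l) (1 : F) := by
      ext a b
      simp only [Matrix.single_apply, Matrix.smul_apply, tens_apply, smul_eq_mul, Finset.prod_boole, Finset.mem_univ,
        true_implies, mul_ite, mul_one, mul_zero]
      exact if_congr ⟨fun hab l => ⟨congrFun hab.1 l, congrFun hab.2 l⟩,
        fun hab => ⟨funext fun l => (hab l).1, funext fun l => (hab l).2⟩⟩ rfl rfl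
    rw [e]
    have h1 := ht Finset.univ fun l => Matrix.single (x l) (y l) (1 : F)
    rw [Finset.piecewise_univ] at h1
    exact hP.smul _ h1 z

/-- all elementary transvections -/
theorem transvections {i : Fin t} {c : Matrix (Rst k i) (Rst k i) F} (hc : Lc H i c)
    (hns : ∀ κ : F, c ≠ κ • (1 : Matrix (Rst k i) (Rst k i) F)) {x z : Fin t → Fin k} (hxz : x ≠ z) (s : F) :
    InH H (1 + Matrix.single x z s) := by
  classical
  obtain ⟨l, hl⟩ := (hS.lc_inv i).exists_slot hS.dim hc hns
  have hli : l.1 ≠ i := fun e => l.2 0 e.symm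
  have hl' : ∀ A, Lc H i (sl (rs hli) A) := fun A => hl A
  have hall : ∀ c : Matrix (Rst k i) (Rst k i) F, Lc H i c := hS.lc_everything _ hli hl'
  have key : ∀ (x z : Fin t → Fin k) (s : F), x i ≠ z i → InH H (1 + Matrix.single x z s) := by
    intro x z s hi
    have h := hall (Matrix.single (split (at1_inj i) x).2 (split (at1_inj i) z).2 s) (Pi.single (x i) 1)
      (Pi.single (z i) 1) (by rw [dotProduct_single_one, Pi.single_eq_of_ne hi])
    refine cast (congrArg (fun Z => InH H (1 + Z)) ?_) h
    ext a b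
    simp only [Matrix.mul_apply, inL_apply, outL_apply, Matrix.single_apply, ite_mul, zero_mul, mul_ite, mul_zero,
      Finset.sum_ite_eq, Finset.mem_univ, if_true, Pi.single_apply, one_mul, mul_one]
    have hsplit : ∀ u v : Fin t → Fin k, u = v ↔ u i = v i ∧ (split (at1_inj i) u).2 = (split (at1_inj i) v).2 :=
      fun u v => ⟨fun e => by rw [e]; exact ⟨rfl, rfl⟩, fun ⟨h1, h2⟩ => (split (at1_inj i)).injective
        (Prod.ext (funext fun a => by show u (at1 i a) = v (at1 i a); exact h1) h2)⟩
    simp only [hsplit x a, hsplit z b, ite_and, Finset.sum_ite_eq, Finset.sum_ite_eq', Finset.mem_univ, if_true,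
      ite_self]
    split_ifs <;> first | rfl | grind
  by_cases hi : x i = z i
  swap
  · exact key x z s hi
  obtain ⟨a, ha, -⟩ := exists_third hS.dim (x i) (x i)
  set w := Function.update x i a with hw
  have hwi : w i = a := Function.update_self ..
  have hxw : x i ≠ w i := by rw [hwi]; exact ha.symm
  have hwz : w i ≠ z i := by rw [hwi, ← hi]; exact ha
  have h := InH.comm (key x w s hxw) (key w z 1 hwz) (single_mul_single_of_ne _ _ _ _ (fun e => hxw (by rw [e])) _)
    (single_mul_single_of_ne _ _ _ _ (fun e => hwz (by rw [e])) _) (single_mul_single_of_ne _ _ _ _ (Ne.symm hxz) _)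
  rwa [single_mul_single_same, mul_one] at h

end Setting

end Cfsg.Agent.ClassicalMax.LWreath
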