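import Cfsg.Agent.ClassicalMax.LWreath.Rigid

/-!
If all compressed operators are scalar the group lies in the wreath group.
-/

set_option autoImplicit false
set_option linter.unusedSectionVars false

namespace Cfsg.Agent.ClassicalMax.LWreath

open Matrix Cfsg.Geo Cfsg.Agent.ClassicalMax.TPow

variable {F : Type*} [Field F] {k t : ℕ} {H : Subgroup (GL (Fin t → Fin k) F)}

/-- all compressed operators are scalar -/
def Scal (H : Subgroup (GL (Fin t → Fin k) F)) : Prop :=
  ∀ g ∈ H, ∀ (i : Fin t) (u φ v ψ : Fin k → F), φ ⬝ᵥ u = 0 → ψ ⬝ᵥ v = 0 → ∃ κ : F,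
    outL i φ * (g : Matrix (Fin t → Fin k) (Fin t → Fin k) F) * inL i v *
      (outL i ψ * ((g⁻¹ : GL (Fin t → Fin k) F) : Matrix (Fin t → Fin k) (Fin t → Fin k) F) * inL i u) =
    κ • (1 : Matrix (Rst k i) (Rst k i) F)

/-- all compressed operators are scalar, also after a permutation of the slots -/
def ScalP (H : Subgroup (GL (Fin t → Fin k) F)) : Prop :=
  ∀ g ∈ H, ∀ (σ : Equiv.Perm (Fin t)) (i : Fin t) (u φ v ψ : Fin k → F), φ ⬝ᵥ u = 0 → ψ ⬝ᵥ v = 0 → ∃ κ : F,
    outL i φ * ((g * Asch.permU σ : GL (Fin t → Fin k) F) : Matrix (Fin t → Fin k) (Fin t → Fin k) F) * inL i v *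
      (outL i ψ * (((g * Asch.permU σ)⁻¹ : GL (Fin t → Fin k) F) : Matrix (Fin t → Fin k) (Fin t → Fin k) F) * inL i u) =
    κ • (1 : Matrix (Rst k i) (Rst k i) F)

theorem Scal.scalP (hK : Scal H) (hp : ∀ σ : Equiv.Perm (Fin t), (Asch.permU σ : GL (Fin t → Fin k) F) ∈ H) :
    ScalP H :=
  fun g hg σ i u φ v ψ hu hv => hK _ (mul_mem hg (hp σ)) i u φ v ψ hu hv

theorem outL_mul_inL_apply (i : Fin t) (φ u : Fin k → F) (Y : Matrix (Fin t → Fin k) (Fin t → Fin k) F)
    (x y : Fin t → Fin k) :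
    (outL i φ * Y * inL i u) (split (at1_inj i) x).2 (split (at1_inj i) y).2 = φ ⬝ᵥ slice' Y i x y *ᵥ u := by
  rw [inL, outL, mul_inM_apply]
  simp only [outM_mul_apply, split_symm_at1, Finset.sum_mul, vecMul_one]
  rw [← Equiv.sum_comp (Equiv.funUnique (Fin 1) (Fin k)).symm, dotProduct_mulVec, dotProduct]
  refine Finset.sum_congr rfl fun b _ => ?_
  simp only [vecMul, dotProduct, Finset.sum_mul, slice', Matrix.of_apply]
  rw [← Equiv.sum_comp (Equiv.funUnique (Fin 1) (Fin k)).symm]
  rfl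

theorem scalar_of_perp {M : Matrix (Fin k) (Fin k) F} (h : ∀ u φ : Fin k → F, φ ⬝ᵥ u = 0 → φ ⬝ᵥ M *ᵥ u = 0) :
    ∃ c : F, M = c • (1 : Matrix (Fin k) (Fin k) F) := by
  rcases Nat.eq_zero_or_pos k with rfl | hk
  · exact ⟨0, Matrix.ext fun a => a.elim0⟩
  have hoff : ∀ a b, a ≠ b → M a b = 0 := fun a b hab => by
    have h1 := h (Pi.single b 1) (Pi.single a 1) (by simp [Ne.symm hab])
    simpa using h1
  refine ⟨M ⟨0, hk⟩ ⟨0, hk⟩, Matrix.ext fun a b => ?_⟩
  rcases eq_or_ne a b with rfl | hab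
  · rw [Matrix.smul_apply, Matrix.one_apply_eq, smul_eq_mul, mul_one]
    rcases eq_or_ne a ⟨0, hk⟩ with rfl | ha
    · rfl
    have h1 := h (Pi.single a 1 - Pi.single ⟨0, hk⟩ 1) (Pi.single a 1 + Pi.single ⟨0, hk⟩ 1) (by
      simp [dotProduct_sub, add_dotProduct, ha, Ne.symm ha])
    simp only [mulVec_sub, mulVec_single_one, dotProduct_sub, add_dotProduct, single_one_dotProduct, col_apply,
      hoff a _ ha, hoff _ a (Ne.symm ha), add_zero, zero_add, sub_eq_zero] at h1
    exact h1
  · rw [hoff a b hab, Matrix.smul_apply, Matrix.one_apply_ne hab, smul_zero]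

/-- the bracket with a slot -/
def br (a : Fin t) (X : Matrix (Fin k) (Fin k) F) (Z : Matrix (Fin t → Fin k) (Fin t → Fin k) F) :
    Matrix (Fin t → Fin k) (Fin t → Fin k) F := Z * sl a X - sl a X * Z

/-- the bracket in one slot -/
def br₁ (A X : Matrix (Fin k) (Fin k) F) : Matrix (Fin k) (Fin k) F := A * X - X * A

/-- sum of terms in single slots -/
def IsSum (A : Fin t → Matrix (Fin k) (Fin k) F) (Z : Matrix (Fin t → Fin k) (Fin t → Fin k) F) : Prop :=
  ∀ l (X : Matrix (Fin k) (Fin k) F), br l X Z = sl l (br₁ (A l) X)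

theorem sl_sub (i : Fin t) (A B : Matrix (Fin k) (Fin k) F) : sl i (A - B) = sl i A - sl i B :=
  by rw [eq_sub_iff_add_eq, ← sl_add, sub_add_cancel]

theorem br_self (l : Fin t) (X A : Matrix (Fin k) (Fin k) F) : br l X (sl l A) = sl l (br₁ A X) := by
  rw [br, br₁, sl_mul, sl_mul, sl_sub]

theorem br_other {l j : Fin t} (h : j ≠ l) (X A : Matrix (Fin k) (Fin k) F) : br l X (sl j A) = 0 := by
  rw [br, (sl_commute h A X).eq, sub_self]

theorem two_slot_entry {a b : Fin t} (hab : a ≠ b) (P Q : Matrix (Fin k) (Fin k) F) (p p' q q' : Fin k)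
    (z : Fin t → Fin k) :
    (sl a P * sl b Q) (Function.update (Function.update z a p) b q) (Function.update (Function.update z a p') b q') =
      P p p' * Q q q' := by
  classical
  have hs : Disjoint ({a} : Finset (Fin t)) {b} := by simpa using hab
  rw [sl, sl, tens_mul, tens_apply, ← Finset.prod_subset (Finset.subset_univ ({a} ∪ {b})) (fun l _ hl => by
    simp only [Finset.mem_union, Finset.mem_singleton, not_or] at hl
    simp [hl.1, hl.2]), Finset.prod_union hs, Finset.prod_singleton, Finset.prod_singleton]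
  simp [hab, Ne.symm hab]

/-- the mixed identity of a product of sums that is again a sum -/
theorem mixed {A B C : Fin t → Matrix (Fin k) (Fin k) F} {P Q : Matrix (Fin t → Fin k) (Fin t → Fin k) F}
    (hP : IsSum A P) (hQ : IsSum B Q) (hPQ : IsSum C (P * Q)) {a b : Fin t} (hab : a ≠ b)
    (X Z : Matrix (Fin k) (Fin k) F) (p p' q q' : Fin k) :
    br₁ (A a) X p p' * br₁ (B b) Z q q' + br₁ (B a) X p p' * br₁ (A b) Z q q' = 0 := by
  have e0 : ∀ {W : Matrix (Fin t → Fin k) (Fin t → Fin k) F} (Y : Matrix (Fin k) (Fin k) F) (l : Fin t)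
      (R : Matrix (Fin t → Fin k) (Fin t → Fin k) F), br l Y (W * R) = br l Y W * R + W * br l Y R := fun Y l R => by
    simp only [br, mul_sub, sub_mul, mul_assoc]; abel
  have e1 : br b Z (br a X (P * Q)) = 0 := by rw [hPQ, br_other hab]
  have e2 : br b Z (br a X (P * Q)) = sl a (br₁ (A a) X) * sl b (br₁ (B b) Z) +
      sl a (br₁ (B a) X) * sl b (br₁ (A b) Z) := by
    have hlin : ∀ U V, br b Z (U + V) = br b Z U + br b Z V := fun U V => by
      simp only [br, mul_add, add_mul]; abel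
    rw [e0 X a Q, hlin, e0 Z b Q, e0 Z b (br a X Q), hP, hQ, hP, hQ, br_other hab, br_other hab, zero_mul, zero_add,
      mul_zero, add_zero, (sl_commute (Ne.symm hab) (br₁ (A b) Z) (br₁ (B a) X)).eq]
  rcases Nat.eq_zero_or_pos k with rfl | hk
  · exact p.elim0
  have h := congrFun (congrFun (e2.symm.trans e1) (Function.update (Function.update (fun _ => p) a p) b q))
    (Function.update (Function.update (fun _ => p) a p') b q')
  rwa [Matrix.add_apply, two_slot_entry hab, two_slot_entry hab, Matrix.zero_apply] at h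

namespace Setting

variable (hS : Setting H)
include hS

theorem sum_of_scal (hK : ScalP H) {g : GL (Fin t → Fin k) F} (hg : g ∈ H) (j : Fin t) {v ψ : Fin k → F}
    (hv : ψ ⬝ᵥ v = 0) : ∃ A, IsSum A ((g : Matrix (Fin t → Fin k) (Fin t → Fin k) F) * sl j (vecMulVec v ψ) *
      ((g⁻¹ : GL (Fin t → Fin k) F) : Matrix (Fin t → Fin k) (Fin t → Fin k) F)) := by
  classical
  have hk : 0 < k := le_trans (by omega) hS.dim
  haveI : Nonempty (Fin k) := ⟨⟨0, hk⟩⟩
  set Y := (g : Matrix (Fin t → Fin k) (Fin t → Fin k) F) * sl j (vecMulVec v ψ) *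
      ((g⁻¹ : GL (Fin t → Fin k) F) : Matrix (Fin t → Fin k) (Fin t → Fin k) F) with hY
  have hY1 : ∀ (i : Fin t) (u φ : Fin k → F), φ ⬝ᵥ u = 0 → ∃ κ : F,
      outL i φ * Y * inL i u = κ • (1 : Matrix (Rst k i) (Rst k i) F) := fun i u φ hu => by
    obtain ⟨κ, hκ⟩ := hK g hg (Equiv.swap i j) i u φ v ψ hu hv
    refine ⟨κ, ?_⟩
    have e := permU_conj (F := F) (Equiv.swap i j) i (vecMulVec v ψ)
    rw [Equiv.swap_apply_left, ← inL_outL] at e
    rw [← hκ, hY, ← e]
    simp only [_root_.mul_inv_rev, Units.val_mul, Matrix.mul_assoc]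
  let z : Fin t → Fin k := fun _ => ⟨0, hk⟩
  have hsc : ∀ (l : Fin t) (B : Matrix (Fin k) (Fin k) F), Commute (Y - sl l (slice' Y l z z)) (sl l B) := fun l B => by
    refine commute_of_slice_scalar l (fun x y => scalar_of_perp fun u φ hu => ?_) B
    obtain ⟨κ, hκ⟩ := hY1 l u φ hu
    have hval : ∀ x y, φ ⬝ᵥ slice' Y l x y *ᵥ u = if ∀ m, m ≠ l → x m = y m then κ else 0 := fun x y => by
      rw [← outL_mul_inL_apply, hκ, Matrix.smul_apply, Matrix.one_apply, smul_eq_mul, mul_ite, mul_one, mul_zero]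
      exact if_congr ⟨fun h m hm => congrFun h ⟨m, fun _ e => hm e.symm⟩, fun h => funext fun m => h m.1
        fun e => m.2 0 e.symm⟩ rfl rfl
    have e : slice' (Y - sl l (slice' Y l z z)) l x y =
        slice' Y l x y - if ∀ m, m ≠ l → x m = y m then slice' Y l z z else 0 := by
      ext a b
      rw [slice', Matrix.of_apply, Matrix.sub_apply, Matrix.sub_apply, sl_apply, slice', Matrix.of_apply,
        Function.update_self, Function.update_self]
      simp only [← slice'.eq_def]
      congr 1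
      by_cases hxy : ∀ m, m ≠ l → x m = y m
      · rw [if_pos hxy, if_pos fun m hm => by simp [hm, hxy m hm]]
        rfl
      · rw [if_neg hxy, if_neg fun h => hxy fun m hm => by simpa [hm] using h m hm, Matrix.zero_apply]
    rw [e, sub_mulVec, dotProduct_sub, hval]
    split_ifs with hxy
    · rw [hval, if_pos fun _ _ => rfl, sub_self]
    · rw [zero_mulVec, dotProduct_zero, sub_zero]
  refine ⟨fun l => slice' Y l z z, fun l X => ?_⟩
  have h := (hsc l X).eq
  rw [sub_mul, mul_sub, sub_eq_sub_iff_sub_eq_sub] at h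
  rw [← br_self, br, br, h]

/-- the group lies in the wreath group -/
theorem mem_standard (hK : ScalP H) {g : GL (Fin t → Fin k) F} (hg : g ∈ H) (ht : 0 < t) :
    g ∈ tensorWreathStandard k t F := by
  classical
  have hk : 2 ≤ k := le_trans (by omega) hS.dim
  haveI : Nonempty (Fin k) := ⟨⟨0, by omega⟩⟩
  set G : Matrix (Fin t → Fin k) (Fin t → Fin k) F := (g : Matrix (Fin t → Fin k) (Fin t → Fin k) F)
  set G' : Matrix (Fin t → Fin k) (Fin t → Fin k) F :=
    ((g⁻¹ : GL (Fin t → Fin k) F) : Matrix (Fin t → Fin k) (Fin t → Fin k) F)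
  have hG'G : G' * G = 1 := by rw [← Units.val_mul, inv_mul_cancel, Units.val_one]
  have hGG' : G * G' = 1 := by rw [← Units.val_mul, mul_inv_cancel, Units.val_one]
  have hmul : ∀ j (A B : Matrix (Fin k) (Fin k) F), G * sl j A * G' * (G * sl j B * G') = G * sl j (A * B) * G' :=
    fun j A B => by
      simp only [mul_assoc, ← mul_assoc G' G, hG'G, one_mul, ← mul_assoc (sl j A) (sl j B), sl_mul]
  have hinj : ∀ j (A B : Matrix (Fin k) (Fin k) F), G * sl j A * G' = G * sl j B * G' → A = B := fun j A B h =>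
    sl_injective j (by
      have h1 := congrArg (fun Z => G' * Z * G) h
      simp only [mul_assoc, hG'G, mul_one, ← mul_assoc G' G, one_mul] at h1
      exact h1)
  have hscal : ∀ (Z : Matrix (Fin t → Fin k) (Fin t → Fin k) F), (∀ l X, br l X Z = 0) →
      ∃ c : F, Z = c • (1 : Matrix (Fin t → Fin k) (Fin t → Fin k) F) := fun Z h =>
    eq_smul_one_of_commute Z fun l X => sub_eq_zero.1 (h l X)
  have hone : ∀ (j : Fin t) (a b : Fin k), a ≠ b → ∃ l B, (∀ c : F, B ≠ c • (1 : Matrix (Fin k) (Fin k) F)) ∧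
      G * sl j (Matrix.single a b 1) * G' = sl l B := by
    intro j a b hab
    obtain ⟨c, hca, hcb⟩ : ∃ c : Fin k, c ≠ a ∧ c ≠ b := by
      obtain ⟨d, -, hd⟩ := Finset.exists_mem_notMem_of_card_lt_card (s := ({a, b} : Finset (Fin k))) (t := Finset.univ)
        (lt_of_le_of_lt Finset.card_le_two (by rw [Finset.card_univ, Fintype.card_fin]; have := hS.dim; omega))
      simp only [Finset.mem_insert, Finset.mem_singleton, not_or] at hd
      exact ⟨d, hd⟩
    have hsum : ∀ x y : Fin k, x ≠ y → ∃ A, IsSum A (G * sl j (Matrix.single x y 1) * G') := fun x y hxy => by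
      obtain ⟨A, hA⟩ := hS.sum_of_scal hK hg j (v := Pi.single x 1) (ψ := Pi.single y 1)
        (by rw [single_dotProduct, one_mul, Pi.single_eq_of_ne (Ne.symm hxy)])
      refine ⟨A, ?_⟩
      rw [show Matrix.single x y (1 : F) = vecMulVec (Pi.single x (1 : F)) (Pi.single y (1 : F)) by
        ext p q; simp only [Matrix.single_apply, vecMulVec_apply, Pi.single_apply]; split_ifs <;> grind]
      exact hA
    obtain ⟨A, hA⟩ := hsum a b hab
    obtain ⟨B, hB⟩ := hsum b c (Ne.symm hcb)
    obtain ⟨C, hC⟩ := hsum a c (Ne.symm hca)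
    set Yp := G * sl j (Matrix.single a b 1) * G' with hYp
    set Yq := G * sl j (Matrix.single b c 1) * G' with hYq
    have hprod : Yp * Yq = G * sl j (Matrix.single a c 1) * G' := by
      rw [hmul, single_mul_single_same, mul_one]
    have hnot : ∀ c' : F, Yp ≠ c' • (1 : Matrix (Fin t → Fin k) (Fin t → Fin k) F) := fun c' e => by
      have h1 : G * sl j (c' • (1 : Matrix (Fin k) (Fin k) F)) * G' = c' • 1 := by
        rw [sl_smul, sl_one, mul_smul_comm, mul_one, smul_mul_assoc, hGG']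
      have h2 := congrFun (congrFun (hinj j _ _ (e.trans h1.symm)) a) b
      rw [Matrix.single_apply_same, Matrix.smul_apply, Matrix.one_apply_ne hab, smul_zero] at h2
      exact one_ne_zero h2
    obtain ⟨l₀, hl₀⟩ : ∃ l, ∃ X, br₁ (A l) X ≠ 0 := by
      by_contra! h
      obtain ⟨c', hc'⟩ := hscal Yp fun l X => by rw [hA, h l X, sl_zero]
      exact hnot c' hc'
    have honly : ∀ m, m ≠ l₀ → ∀ X, br₁ (A m) X = 0 := by
      intro m hm X₁
      by_contra hX₁
      obtain ⟨X₀, hX₀⟩ := hl₀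
      obtain ⟨p, p', hp⟩ : ∃ p p', br₁ (A l₀) X₀ p p' ≠ 0 := by
        by_contra! h; exact hX₀ (Matrix.ext h)
      obtain ⟨q, q', hq⟩ : ∃ q q', br₁ (A m) X₁ q q' ≠ 0 := by
        by_contra! h; exact hX₁ (Matrix.ext h)
      have hm' := Ne.symm hm
      have hsq : Yp * Yp = 0 := by
        rw [hmul, single_mul_single_of_ne _ _ _ _ (Ne.symm hab), sl_zero, mul_zero, zero_mul]
      have h2 : (2 : F) = 0 := by
        have h := mixed hA hA (C := 0) (fun l X => by rw [hsq]; simp [br, br₁, sl_zero]) hm' X₀ X₁ p p' q q'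
        exact (mul_eq_zero.1 (show (2 : F) * (br₁ (A l₀) X₀ p p' * br₁ (A m) X₁ q q') = 0 by
          linear_combination h)).resolve_right (mul_ne_zero hp hq)
      have hPQ : IsSum C (Yp * Yq) := by rw [hprod]; exact hC
      set r := br₁ (B l₀) X₀ p p' / br₁ (A l₀) X₀ p p' with hr
      have hoth : ∀ n, n ≠ l₀ → ∀ Z s s', br₁ (B n) Z s s' = r * br₁ (A n) Z s s' := fun n hn Z s s' => by
        have h := mixed hA hB hPQ (Ne.symm hn) X₀ Z p p' s s'
        rw [hr, div_mul_eq_mul_div, eq_div_iff hp]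
        linear_combination h - br₁ (B l₀) X₀ p p' * br₁ (A n) Z s s' * h2
      have hself : ∀ Z s s', br₁ (B l₀) Z s s' = r * br₁ (A l₀) Z s s' := fun Z s s' => by
        have h := mixed hA hB hPQ hm' Z X₁ s s' q q'
        rw [hoth m hm] at h
        refine mul_right_cancel₀ hq ?_
        linear_combination h - r * br₁ (A l₀) Z s s' * br₁ (A m) X₁ q q' * h2
      obtain ⟨c', hc'⟩ := hscal (Yq - r • Yp) fun l X => by
        have e : br₁ (B l) X = r • br₁ (A l) X := Matrix.ext fun s s' => by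
          rcases eq_or_ne l l₀ with rfl | hl
          · exact hself X s s'
          · exact hoth l hl X s s'
        have e1 : br l X (Yq - r • Yp) = br l X Yq - r • br l X Yp := by
          simp only [br, sub_mul, mul_sub, smul_mul_assoc, mul_smul_comm, smul_sub]; abel
        rw [e1, hA, hB, e, sl_smul, sub_self]
      have h1 : G * sl j (Matrix.single b c (1 : F) - r • Matrix.single a b 1) * G' =
          G * sl j (c' • (1 : Matrix (Fin k) (Fin k) F)) * G' := by
        have hr1 : G * sl j (c' • (1 : Matrix (Fin k) (Fin k) F)) * G' = c' • 1 := by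
          rw [sl_smul, sl_one, mul_smul_comm, mul_one, smul_mul_assoc, hGG']
        rw [hr1, ← hc', sl_sub, sl_smul, mul_sub, sub_mul, mul_smul_comm, smul_mul_assoc]
      have h3 := congrFun (congrFun (hinj j _ _ h1) b) c
      simp [Ne.symm hcb, hab] at h3
    obtain ⟨c', hc'⟩ := hscal (Yp - sl l₀ (A l₀)) fun l X => by
      have e1 : br l X (Yp - sl l₀ (A l₀)) = br l X Yp - br l X (sl l₀ (A l₀)) := by
        simp only [br, sub_mul, mul_sub]; abel
      rw [e1, hA]
      rcases eq_or_ne l l₀ with rfl | hl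
      · rw [br_self, sub_self]
      · rw [honly l hl, sl_zero, br_other (Ne.symm hl), sub_self]
    refine ⟨l₀, A l₀ + c' • 1, fun d hd => ?_, ?_⟩
    · obtain ⟨X₀, hX₀⟩ := hl₀
      refine hX₀ ?_
      rw [show A l₀ = (d - c') • (1 : Matrix (Fin k) (Fin k) F) by rw [sub_smul, ← hd, add_sub_cancel_right], br₁,
        smul_mul_assoc, mul_smul_comm, one_mul, mul_one, sub_self]
    · rw [sl_add, sl_smul, sl_one, ← hc', add_sub_cancel]
  choose π₀ B₀ hB₀ hY₀ using hone
  have hchain : ∀ j a b c (hab : a ≠ b) (hbc : b ≠ c) (hac : a ≠ c),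
      π₀ j a b hab = π₀ j a c hac ∧ π₀ j b c hbc = π₀ j a c hac := by
    intro j a b c hab hbc hac
    have e : sl (π₀ j a b hab) (B₀ j a b hab) * sl (π₀ j b c hbc) (B₀ j b c hbc) = sl (π₀ j a c hac) (B₀ j a c hac) := by
      rw [← hY₀, ← hY₀, ← hY₀, hmul, single_mul_single_same, mul_one]
    have hne : ∀ {B : Matrix (Fin k) (Fin k) F}, (∀ c : F, B ≠ c • (1 : Matrix (Fin k) (Fin k) F)) →
        ∃ X, br₁ B X ≠ 0 := fun {B} hB => by
      by_contra! h
      obtain ⟨c, hc⟩ := Matrix.mem_range_scalar_of_commute_single (M := B) fun x y _ => (sub_eq_zero.1 (h _)).symm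
      exact hB c (by rw [← hc, Matrix.scalar_apply, Matrix.smul_one_eq_diagonal])
    have h12 : π₀ j a b hab = π₀ j b c hbc := by
      by_contra hpq
      obtain ⟨X, hX⟩ := hne (hB₀ j a b hab)
      obtain ⟨Z, hZ⟩ := hne (hB₀ j b c hbc)
      obtain ⟨s, s', hs⟩ : ∃ s s', br₁ (B₀ j a b hab) X s s' ≠ 0 := by by_contra! h; exact hX (Matrix.ext h)
      obtain ⟨q, q', hq⟩ : ∃ q q', br₁ (B₀ j b c hbc) Z q q' ≠ 0 := by by_contra! h; exact hZ (Matrix.ext h)
      have hsl : ∀ l B, IsSum (Function.update (0 : Fin t → Matrix (Fin k) (Fin k) F) l B) (sl l B) := fun l B m X => by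
        rcases eq_or_ne m l with rfl | h
        · rw [br_self, Function.update_self]
        · rw [br_other (Ne.symm h), Function.update_of_ne h]; simp [br₁, sl_zero]
      have h := mixed (hsl (π₀ j a b hab) (B₀ j a b hab)) (hsl (π₀ j b c hbc) (B₀ j b c hbc))
        (by rw [e]; exact hsl _ (B₀ j a c hac)) hpq X Z s s' q q'
      rw [Function.update_self, Function.update_self, Function.update_of_ne (Ne.symm hpq),
        Function.update_of_ne hpq] at h
      simp [br₁] at h
      rcases h with h | h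
      · exact hs h
      · exact hq h
    have h13 : π₀ j a b hab = π₀ j a c hac := by
      by_contra hpr
      rw [← h12, sl_mul] at e
      obtain ⟨X, hX⟩ := hne (hB₀ j a c hac)
      refine hX (sl_injective (π₀ j a c hac) ?_)
      rw [sl_zero, ← br_self, ← e, br_other hpr]
    exact ⟨h13, h12.symm.trans h13⟩
  let a₀ : Fin k := ⟨0, by omega⟩
  let a₁ : Fin k := ⟨1, by omega⟩
  have h01 : a₀ ≠ a₁ := by simp [a₀, a₁]
  let π : Fin t → Fin t := fun j => π₀ j a₀ a₁ h01
  have hpi : ∀ j a b (hab : a ≠ b), π₀ j a b hab = π j := by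
    intro j
    have same_row : ∀ a b c (hab : a ≠ b) (hac : a ≠ c), π₀ j a b hab = π₀ j a c hac := fun a b c hab hac => by
      rcases eq_or_ne b c with rfl | hbc
      · rfl
      · exact (hchain j a b c hab hbc hac).1
    have same_col : ∀ a b c (hac : a ≠ c) (hbc : b ≠ c), π₀ j a c hac = π₀ j b c hbc := fun a b c hac hbc => by
      rcases eq_or_ne a b with rfl | hab
      · rfl
      · exact (hchain j a b c hab hbc hac).2.symm
    intro a b hab
    by_cases h : a₀ = b
    · subst h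
      obtain ⟨d, hd1, hd2⟩ : ∃ d : Fin k, d ≠ a ∧ d ≠ a₀ := by
        obtain ⟨d, -, hd⟩ := Finset.exists_mem_notMem_of_card_lt_card (s := ({a, a₀} : Finset (Fin k))) (t := Finset.univ)
          (lt_of_le_of_lt Finset.card_le_two (by rw [Finset.card_univ, Fintype.card_fin]; have := hS.dim; omega))
        simp only [Finset.mem_insert, Finset.mem_singleton, not_or] at hd
        exact ⟨d, hd⟩
      exact ((same_row a a₀ d hab (Ne.symm hd1)).trans (same_col a a₀ d (Ne.symm hd1) (Ne.symm hd2))).trans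
        (same_row a₀ d a₁ (Ne.symm hd2) h01)
    · exact (same_col a a₀ b hab h).trans (same_row a₀ b a₁ h h01)
  refine mem_wreath hk ht π fun j A => ?_
  let P : Matrix (Fin k) (Fin k) F → Prop := fun A => ∃ B, G * sl j A = sl (π j) B * G
  have hP0 : P 0 := ⟨0, by rw [sl_zero, sl_zero, mul_zero, zero_mul]⟩
  have hPa : ∀ A A', P A → P A' → P (A + A') := fun A A' ⟨B, hB⟩ ⟨B', hB'⟩ =>
    ⟨B + B', by rw [sl_add, sl_add, mul_add, hB, hB', add_mul]⟩
  have hPs : ∀ (c : F) A, P A → P (c • A) := fun c A ⟨B, hB⟩ =>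
    ⟨c • B, by rw [sl_smul, sl_smul, mul_smul_comm, hB, smul_mul_assoc]⟩
  have hPm : ∀ A A', P A → P A' → P (A * A') := fun A A' ⟨B, hB⟩ ⟨B', hB'⟩ =>
    ⟨B * B', by rw [← sl_mul, ← sl_mul, ← mul_assoc, hB, mul_assoc, hB', mul_assoc]⟩
  have hoff : ∀ a b, a ≠ b → P (Matrix.single a b 1) := fun a b hab => ⟨B₀ j a b hab, by
    rw [← hpi j a b hab, ← hY₀]
    simp only [mul_assoc, hG'G, mul_one]⟩
  induction A using Matrix.induction_on' with
  | h_zero => exact hP0
  | h_add p q hp hq => exact hPa p q hp hq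
  | h_std_basis a b x =>
    rw [show Matrix.single a b x = x • Matrix.single a b (1 : F) by rw [Matrix.smul_single, smul_eq_mul, mul_one]]
    refine hPs x _ ?_
    rcases eq_or_ne a b with rfl | hab
    · haveI : Nontrivial (Fin k) := Fin.nontrivial_iff_two_le.2 hk
      obtain ⟨d, hd⟩ := exists_ne a
      rw [show Matrix.single a a (1 : F) = Matrix.single a d 1 * Matrix.single d a 1 by
        rw [single_mul_single_same, mul_one]]
      exact hPm _ _ (hoff a d (Ne.symm hd)) (hoff d a hd)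
    · exact hoff a b hab

end Setting

end Cfsg.Agent.ClassicalMax.LWreath
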