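import Cfsg.Agent.ClassicalMax.LWreath.SwapThree
import Cfsg.Agent.ClassicalMax.LWreath.Struct

/-!
Characteristic two: in a rigid group all compressed operators are scalar. Two conjugate root involutions generate a
dihedral group; a central involution of it would be a slot root element, so the product has odd order and the root
involutions of a slot are conjugate by elements whose action on the other slots satisfies a quadratic equation.
-/

set_option autoImplicit false
set_option linter.unusedSectionVars false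

namespace Cfsg.Agent.ClassicalMax.LWreath

open Matrix Polynomial Cfsg.Agent.ClassicalMax.TPow

variable {F : Type*} [Field F] {k t : ℕ} {H : Subgroup (GL (Fin t → Fin k) F)} {i : Fin t}

/-- the elements differing from one by maps into two images -/
def spanSub {ν μ : Type} [Fintype ν] [DecidableEq ν] [Fintype μ] (U V : Matrix ν μ F) : Subgroup (GL ν F) where
  carrier := {h | ∃ P Q : Matrix μ ν F, (h : Matrix ν ν F) = 1 + U * P + V * Q}
  one_mem' := ⟨0, 0, by simp⟩
  mul_mem' := by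
    rintro a b ⟨P, Q, ha⟩ ⟨P', Q', hb⟩
    refine ⟨P * (b : Matrix ν ν F) + P', Q * (b : Matrix ν ν F) + Q', ?_⟩
    rw [Units.val_mul, ha, Matrix.add_mul, Matrix.add_mul, Matrix.one_mul, Matrix.mul_add, Matrix.mul_add,
      ← Matrix.mul_assoc, ← Matrix.mul_assoc]
    conv_lhs => arg 1; arg 1; rw [hb]
    abel
  inv_mem' := by
    rintro a ⟨P, Q, ha⟩
    refine ⟨-(P * ((a⁻¹ : GL ν F) : Matrix ν ν F)), -(Q * ((a⁻¹ : GL ν F) : Matrix ν ν F)), ?_⟩
    have h1 : (a : Matrix ν ν F) * ((a⁻¹ : GL ν F) : Matrix ν ν F) = 1 := by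
      rw [← Units.val_mul, mul_inv_cancel, Units.val_one]
    generalize ((a⁻¹ : GL ν F) : Matrix ν ν F) = b at h1 ⊢
    rw [ha, Matrix.add_mul, Matrix.add_mul, Matrix.one_mul, Matrix.mul_assoc, Matrix.mul_assoc] at h1
    rw [Matrix.mul_neg, Matrix.mul_neg, ← h1]
    abel

theorem dihedral {G : Type*} [Group G] [Finite G] (K : Subgroup G) {x y : G} (hxK : x ∈ K) (hyK : y ∈ K)
    (hx : x * x = 1) (hy : y * y = 1) :
    (∃ z ∈ K, z ≠ 1 ∧ z * z = 1 ∧ Commute z x ∧ Commute z y) ∨ ∃ n ∈ K, n * x = y * n := by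
  have hxi : x⁻¹ = x := inv_eq_of_mul_eq_one_right hx
  have hyi : y⁻¹ = y := inv_eq_of_mul_eq_one_right hy
  set p := x * y with hp
  have hpK : p ∈ K := mul_mem hxK hyK
  have hpi : p⁻¹ = y * x := by rw [hp, _root_.mul_inv_rev, hxi, hyi]
  have h1 : SemiconjBy x p p⁻¹ := by
    show x * p = p⁻¹ * x
    rw [hpi, hp, ← mul_assoc, hx, one_mul, mul_assoc, hx, mul_one]
  have h3 : y = x * p := by rw [hp, ← mul_assoc, hx, one_mul]
  obtain ⟨l, hl⟩ | ⟨l, hl⟩ := Nat.even_or_odd (orderOf p)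
  · left
    have hpo : p ^ (l + l) = 1 := by rw [← hl]; exact pow_orderOf_eq_one p
    have hz2 : p ^ l * p ^ l = 1 := by rw [← pow_add, hpo]
    have hzi : (p ^ l)⁻¹ = p ^ l := inv_eq_of_mul_eq_one_right hz2
    have hcx : Commute (p ^ l) x := by
      have h := (h1.pow_right l).eq
      rw [inv_pow, hzi] at h
      exact h.symm
    refine ⟨p ^ l, pow_mem hpK l, fun e => ?_, hz2, hcx, ?_⟩
    · have hpos := orderOf_pos p
      exact pow_ne_one_of_lt_orderOf (x := p) (n := l) (by omega) (by omega) e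
    · rw [h3]
      exact hcx.mul_right ((Commute.refl p).pow_left l)
  · right
    refine ⟨p ^ l, pow_mem hpK l, ?_⟩
    have hpo : p ^ (2 * l + 1) = 1 := by rw [← hl]; exact pow_orderOf_eq_one p
    have hs := (h1.pow_right (l + 1)).eq
    rw [inv_pow] at hs
    have hi : (p ^ (l + 1))⁻¹ = p ^ l := inv_eq_of_mul_eq_one_right (by rw [← pow_add, ← hpo]; ring_nf)
    rw [hi] at hs
    rw [h3, mul_assoc, ← pow_succ', hs]

theorem even_card_of_quadratic {ν : Type} [Fintype ν] [DecidableEq ν] {a : Matrix ν ν F} {α β : F} (hα : α ≠ 0)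
    (h : α • (a * a) + β • a + 1 = 0) (hroot : ∀ c : F, α * c * c + β * c + 1 ≠ 0) : Even (Fintype.card ν) := by
  classical
  set q : F[X] := X ^ 2 + C (β / α) * X + C α⁻¹ with hq
  have hdeg : q.natDegree = 2 := by rw [hq]; compute_degree!
  have hmon : q.Monic := by rw [hq]; monicity!
  have hirr : Irreducible q := by
    rw [hmon.irreducible_iff_roots_eq_zero_of_degree_le_three (by omega) (by omega)]
    refine Multiset.eq_zero_of_forall_notMem fun c hc => hroot c ?_
    have h1 : c ^ 2 + β / α * c + α⁻¹ = 0 := by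
      simpa [hq] using (mem_roots hmon.ne_zero).1 hc
    field_simp at h1
    linear_combination h1
  haveI : Fact (Irreducible q) := ⟨hirr⟩
  set T := Matrix.toLinAlgEquiv' (R := F) (n := ν) a with hT
  have hq0 : aeval T q = 0 := by
    have h1 : aeval a q = 0 := by
      have h2 : α • aeval a q = 0 := by
        simp only [hq, map_add, map_pow, map_mul, aeval_X, aeval_C, Algebra.algebraMap_eq_smul_one, smul_add,
          smul_mul_assoc, one_mul, smul_smul, mul_div_cancel₀ _ hα, mul_inv_cancel₀ hα, one_smul, pow_two]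
        exact h
      exact (smul_eq_zero.1 h2).resolve_left hα
    rw [hT, aeval_algEquiv, AlgHom.comp_apply, h1, map_zero]
  let Φ : AdjoinRoot q →+* Module.End F (ν → F) := Ideal.Quotient.lift (Ideal.span {q}) (aeval T).toRingHom fun f hf => by
    obtain ⟨g, rfl⟩ := Ideal.mem_span_singleton'.1 hf
    show aeval T (g * q) = 0
    rw [map_mul, hq0, mul_zero]
  letI : Module (AdjoinRoot q) (ν → F) := Module.compHom (ν → F) Φ
  haveI : IsScalarTower F (AdjoinRoot q) (ν → F) := ⟨fun s z v => by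
    show Φ (s • z) v = s • Φ z v
    induction z using AdjoinRoot.induction_on with
    | ih f =>
      rw [AdjoinRoot.smul_mk]
      show aeval T (s • f) v = s • aeval T f v
      rw [map_smul]
      rfl⟩
  have h3 := Module.finrank_mul_finrank F (AdjoinRoot q) (ν → F)
  rw [(AdjoinRoot.powerBasis hmon.ne_zero).finrank, AdjoinRoot.powerBasis_dim, hdeg,
    Module.finrank_fintype_fun_eq_card] at h3
  exact ⟨_, h3.symm.trans (two_mul _)⟩

/-- a functional killing three vectors -/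
theorem exists_perp_three (hk : 4 ≤ k) (u v w : Fin k → F) :
    ∃ φ : Fin k → F, φ ≠ 0 ∧ φ ⬝ᵥ u = 0 ∧ φ ⬝ᵥ v = 0 ∧ φ ⬝ᵥ w = 0 := by
  obtain ⟨φ, hφ, h⟩ : ∃ φ : Fin k → F, φ ≠ 0 ∧ (Matrix.of ![u, v, w] : Matrix (Fin 3) (Fin k) F) *ᵥ φ = 0 := by
    by_contra! h
    have hinj : Function.Injective (Matrix.of ![u, v, w] : Matrix (Fin 3) (Fin k) F).mulVecLin :=
      (injective_iff_map_eq_zero _).2 fun φ hφ => by_contra fun h0 => h φ h0 hφ
    have := LinearMap.finrank_le_finrank_of_injective hinj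
    rw [Module.finrank_fintype_fun_eq_card, Module.finrank_fintype_fun_eq_card, Fintype.card_fin, Fintype.card_fin]
      at this
    omega
  refine ⟨φ, hφ, ?_, ?_, ?_⟩
  · rw [dotProduct_comm]; exact congrFun h 0
  · rw [dotProduct_comm]; exact congrFun h 1
  · rw [dotProduct_comm]; exact congrFun h 2

theorem ker_of_rank {ν : Type} [Fintype ν] [DecidableEq ν] {M C : Matrix ν ν F} (h : C.rank ≤ (M * C).rank) {μ : Type}
    {Z : Matrix ν μ F} (hZ : M * C * Z = 0) : C * Z = 0 := by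
  have hle : LinearMap.ker C.mulVecLin ≤ LinearMap.ker (M * C).mulVecLin := fun v hv => by
    rw [LinearMap.mem_ker, mulVecLin_apply] at hv ⊢
    rw [← mulVec_mulVec, hv, mulVec_zero]
  have h1 := LinearMap.finrank_range_add_finrank_ker C.mulVecLin
  have h3 := LinearMap.finrank_range_add_finrank_ker (M * C).mulVecLin
  have h4 : C.rank = Module.finrank F (LinearMap.range C.mulVecLin) := rfl
  have h5 : (M * C).rank = Module.finrank F (LinearMap.range (M * C).mulVecLin) := rfl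
  have heq := Submodule.eq_of_le_of_finrank_le hle (by omega)
  ext x y
  have hv : (fun z => Z z y) ∈ LinearMap.ker (M * C).mulVecLin := by
    rw [LinearMap.mem_ker, mulVecLin_apply]
    funext w
    exact congrFun (congrFun hZ w) y
  rw [← heq, LinearMap.mem_ker, mulVecLin_apply] at hv
  exact congrFun hv x

/-- the impossible involution -/
theorem false_of_involution [Finite F] (hS : Setting H) (hR : Rigid H) (h2 : (2 : F) = 0)
    {γ : GL (Fin t → Fin k) F} (hγ : γ ∈ H) (hγγ : γ * γ = 1) {u φ : Fin k → F} (hu0 : u ≠ 0) (hφ0 : φ ≠ 0)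
    (hu : φ ⬝ᵥ u = 0)
    (hker : ∀ χ : Fin k → F, χ ≠ 0 → χ ⬝ᵥ u = 0 → ∀ {ν : Type} (Z : Matrix (Rst k i) ν F),
      outL i χ * (γ : Matrix (Fin t → Fin k) (Fin t → Fin k) F) * inL i u * Z = 0 →
        (γ : Matrix (Fin t → Fin k) (Fin t → Fin k) F) * inL i u * Z = inL i u * Z)
    (hne : ∀ χ : Fin k → F, χ ≠ 0 → χ ⬝ᵥ u = 0 →
      outL i χ * (γ : Matrix (Fin t → Fin k) (Fin t → Fin k) F) * inL i u *
        (outL i φ * (γ : Matrix (Fin t → Fin k) (Fin t → Fin k) F) * inL i u) ≠ 0) : False := by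
  classical
  haveI := nonempty_rst (k := k) (le_trans (by omega) hS.dim) i
  set G : Matrix (Fin t → Fin k) (Fin t → Fin k) F := (γ : Matrix (Fin t → Fin k) (Fin t → Fin k) F) with hG
  have hGG : G * G = 1 := by rw [hG, ← Units.val_mul, hγγ, Units.val_one]
  let A : (Fin k → F) → Matrix (Rst k i) (Rst k i) F := fun χ => outL i χ * G * inL i u
  set U : Matrix (Fin t → Fin k) (Rst k i) F := inL i u with hU
  set K := H ⊓ spanSub U (G * U) with hK
  -- root involutions
  have hroot : ∀ χ : Fin k → F, χ ⬝ᵥ u = 0 → ∃ x ∈ K, x * x = 1 ∧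
      (x : Matrix (Fin t → Fin k) (Fin t → Fin k) F) = 1 + U * outL i χ := fun χ hχ => by
    obtain ⟨x, hx, ex⟩ := hS.root i u χ hχ
    rw [← inL_outL] at ex
    refine ⟨x, Subgroup.mem_inf.2 ⟨hx, outL i χ, 0, by rw [ex, Matrix.mul_zero, add_zero]⟩, Units.ext ?_, ex⟩
    rw [Units.val_mul, ex, Units.val_one]
    refine mem_of_sq_one h2 ?_
    rw [Matrix.mul_assoc, out_in_mul, hχ, zero_smul, Matrix.mul_zero]
  obtain ⟨x₁, hx₁, hx₁₁, ex₁⟩ := hroot φ hu
  set Y := G * U * (outL i φ * G) with hY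
  obtain ⟨y, hyK, hyy, ey⟩ : ∃ y ∈ K, y * y = 1 ∧ (y : Matrix (Fin t → Fin k) (Fin t → Fin k) F) = 1 + Y := by
    have e : ((γ * x₁ * γ : GL (Fin t → Fin k) F) : Matrix (Fin t → Fin k) (Fin t → Fin k) F) = 1 + Y := by
      rw [Units.val_mul, Units.val_mul, ex₁, ← hG, Matrix.mul_add, Matrix.add_mul, Matrix.mul_one, hGG, hY]
      simp only [Matrix.mul_assoc]
    refine ⟨γ * x₁ * γ, Subgroup.mem_inf.2 ⟨mul_mem (mul_mem hγ (Subgroup.mem_inf.1 hx₁).1) hγ, 0, outL i φ * G,
      by rw [e, Matrix.mul_zero, add_zero]⟩, ?_, e⟩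
    rw [mul_assoc, ← mul_assoc γ (γ * x₁), ← mul_assoc γ γ, hγγ, one_mul, mul_assoc γ x₁,
      ← mul_assoc x₁, hx₁₁, one_mul, hγγ]
  -- the product of a root involution with the moved one has odd order
  have hodd : ∀ χ : Fin k → F, χ ≠ 0 → χ ⬝ᵥ u = 0 → ∀ x ∈ K, x * x = 1 →
      (x : Matrix (Fin t → Fin k) (Fin t → Fin k) F) = 1 + U * outL i χ → ∃ n ∈ K, n * x = y * n := by
    intro χ hχ0 hχ x hxK hxx ex
    rcases dihedral K hxK hyK hxx hyy with ⟨z, hz, hz1, hzz, hzx, hzy⟩ | h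
    swap
    · exact h
    exfalso
    obtain ⟨hzH, P, Q, ez⟩ := Subgroup.mem_inf.1 hz
    set Z : Matrix (Fin t → Fin k) (Fin t → Fin k) F := (z : Matrix (Fin t → Fin k) (Fin t → Fin k) F)
    obtain ⟨w, hw⟩ := exists_right hχ0
    have hcm : Z * (U * outL i χ) = U * outL i χ * Z := by
      have h1 := congrArg Units.val hzx.eq
      rw [Units.val_mul, Units.val_mul, ex, Matrix.mul_add, Matrix.add_mul, Matrix.mul_one, Matrix.one_mul] at h1
      exact add_left_cancel h1
    set a : Matrix (Rst k i) (Rst k i) F := outL i χ * Z * inL i w with ha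
    have hzu : Z * U = U * a := by
      have h1 := congrArg (fun M : Matrix (Fin t → Fin k) (Fin t → Fin k) F => M * inL i w) hcm
      simpa only [Matrix.mul_assoc, outL_inL, hw, one_smul, Matrix.mul_one, ha] using h1
    have hχz : outL i χ * Z = a * outL i χ :=
      inL_cancel (i := i) hu0 (by rw [← hU, ← Matrix.mul_assoc, ← hcm, ← Matrix.mul_assoc, hzu, Matrix.mul_assoc])
    have hAQ : A χ * Q = a * outL i χ - outL i χ := by
      rw [← hχz, ez, Matrix.mul_add, Matrix.mul_add, Matrix.mul_one, hU, out_in_mul, hχ, zero_smul, add_zero,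
        add_sub_cancel_left]
      simp only [A, Matrix.mul_assoc]
    obtain ⟨κ, hκ⟩ := hS.scalar_of_ker hR (i := i) (φ := χ) hu0 hzH hzu fun w' hw' => by
      have h1 : A χ * (Q * inL i w') = 0 := by
        rw [← Matrix.mul_assoc, hAQ, Matrix.sub_mul, Matrix.mul_assoc, outL_inL, hw', zero_smul, Matrix.mul_zero,
          sub_zero]
      refine ⟨P * inL i w' + Q * inL i w', ?_⟩
      show Z * inL i w' = _
      rw [ez, Matrix.add_mul, Matrix.add_mul, Matrix.one_mul, Matrix.mul_assoc U, Matrix.mul_assoc (G * U),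
        hker χ hχ0 hχ _ h1, add_assoc, ← Matrix.mul_add]
    have haa : a * a = 1 := inL_cancel (i := i) hu0 (by
      rw [← hU, ← Matrix.mul_assoc, ← hzu, Matrix.mul_assoc, ← hzu, ← Matrix.mul_assoc, ← Units.val_mul, hzz,
        Units.val_one, Matrix.one_mul, Matrix.mul_one])
    have ha1 : a = 1 := by
      have h1 := congrFun (congrFun haa (Classical.arbitrary _)) (Classical.arbitrary _)
      rw [hκ, smul_mul_smul_comm, Matrix.one_mul, Matrix.smul_apply, Matrix.one_apply_eq, smul_eq_mul, mul_one] at h1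
      have h3 : (κ - 1) * (κ - 1) = 0 := by linear_combination h1 + (1 - κ) * h2
      rw [hκ, sub_eq_zero.1 ((mul_eq_zero.1 h3).elim id id), one_smul]
    have hQ : G * U * Q = U * Q := hker χ hχ0 hχ Q (by
      show A χ * Q = 0
      rw [hAQ, ha1, Matrix.one_mul, sub_self])
    have ez' : Z = 1 + U * (P + Q) := by rw [ez, hQ, Matrix.mul_add, add_assoc]
    have hΛu : (P + Q) * U = 0 := inL_cancel (i := i) hu0 (by
      rw [← hU, Matrix.mul_zero]
      have h1 : Z * U = U := by rw [hzu, ha1, Matrix.mul_one]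
      rw [ez', Matrix.add_mul, Matrix.one_mul, Matrix.mul_assoc, add_eq_left] at h1
      exact h1)
    obtain ⟨σ, hσ, hσe⟩ := hS.translation hR (i := i) hu0 (Λ := P + Q) hΛu ⟨z, hzH, ez'⟩
    rw [hσe] at ez'
    by_cases hσ0 : σ = 0
    · exact hz1 (Units.ext (by rw [Units.val_one]; exact ez'.trans (by rw [hσ0, outL_zero, Matrix.mul_zero, add_zero])))
    refine hne σ hσ0 hσ (inL_cancel (i := i) hu0 ?_)
    have h1 := congrArg Units.val hzy.eq
    rw [Units.val_mul, Units.val_mul, ey, Matrix.mul_add, Matrix.add_mul, Matrix.mul_one, Matrix.one_mul,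
      add_right_inj] at h1
    change Z * Y = Y * Z at h1
    rw [ez', Matrix.add_mul, Matrix.mul_add, Matrix.one_mul, Matrix.mul_one, add_right_inj] at h1
    have h3 := congrArg (fun M : Matrix (Fin t → Fin k) (Fin t → Fin k) F => M * U) h1
    rw [← hU, Matrix.mul_zero]
    calc U * (outL i σ * G * U * (outL i φ * G * U)) = U * outL i σ * Y * U := by
          rw [hY]; simp only [Matrix.mul_assoc]
      _ = 0 := by
        rw [h3, Matrix.mul_assoc, Matrix.mul_assoc U, hU, outL_inL, hσ, zero_smul, Matrix.mul_zero, Matrix.mul_zero]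
  -- two root involutions of the slot are conjugate
  obtain ⟨χ, hχ, hχ0, hχφ⟩ := exists_perp_off hS.dim u φ
  have hφχ : ∀ c : F, φ ≠ c • χ := fun c e => by
    rcases eq_or_ne c 0 with rfl | hc
    · exact hφ0 (by rw [e, zero_smul])
    · exact hχφ c⁻¹ (by rw [e, inv_smul_smul₀ hc])
  obtain ⟨x₂, hx₂, hx₂₂, ex₂⟩ := hroot χ hχ
  obtain ⟨n₁, hn₁, e₁⟩ := hodd φ hφ0 hu x₁ hx₁ hx₁₁ ex₁
  obtain ⟨n₂, hn₂, e₂⟩ := hodd χ hχ0 hχ x₂ hx₂ hx₂₂ ex₂
  obtain ⟨n, hn, en⟩ : ∃ n ∈ K, n * x₁ = x₂ * n := by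
    refine ⟨n₂⁻¹ * n₁, mul_mem (inv_mem hn₂) hn₁, ?_⟩
    rw [mul_assoc, e₁, ← mul_assoc, ← mul_assoc x₂]
    congr 1
    rw [eq_mul_inv_iff_mul_eq, mul_assoc, ← e₂, inv_mul_cancel_left]
  obtain ⟨hnH, P, Q, eN⟩ := Subgroup.mem_inf.1 hn
  set N : Matrix (Fin t → Fin k) (Fin t → Fin k) F := (n : Matrix (Fin t → Fin k) (Fin t → Fin k) F)
  obtain ⟨w, hw⟩ := exists_right hφ0
  set a : Matrix (Rst k i) (Rst k i) F := outL i χ * N * inL i w with ha
  have hcm : N * (U * outL i φ) = U * outL i χ * N := by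
    have h1 := congrArg Units.val en
    rw [Units.val_mul, Units.val_mul, ex₁, ex₂, Matrix.mul_add, Matrix.add_mul, Matrix.mul_one, Matrix.one_mul] at h1
    exact add_left_cancel h1
  have hnu : N * U = U * a := by
    have h1 := congrArg (fun M : Matrix (Fin t → Fin k) (Fin t → Fin k) F => M * inL i w) hcm
    simpa only [Matrix.mul_assoc, outL_inL, hw, one_smul, Matrix.mul_one, ha] using h1
  have hχn : outL i χ * N = a * outL i φ :=
    inL_cancel (i := i) hu0 (by rw [← hU, ← Matrix.mul_assoc, ← hcm, ← Matrix.mul_assoc, hnu, Matrix.mul_assoc])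
  have haU : IsUnit a.det := (stab_unit (i := i) hu0 hnu).1
  have hout : ∀ ω f : Fin k → F, ω ⬝ᵥ u = 0 →
      A ω * (Q * inL i f) = outL i ω * N * inL i f - (ω ⬝ᵥ f) • (1 : Matrix (Rst k i) (Rst k i) F) := fun ω f hω => by
    rw [eN, Matrix.mul_add, Matrix.mul_add, Matrix.mul_one, hU, out_in_mul, hω, zero_smul, add_zero, Matrix.add_mul,
      outL_inL, add_sub_cancel_left]
    simp only [A, Matrix.mul_assoc]
  obtain ⟨f, hf0, hf1⟩ := exists_dot hφχ
  have hAM : A χ * (Q * inL i f) = a := by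
    rw [hout χ f hχ, hχn, hf0, zero_smul, sub_zero, Matrix.mul_assoc, outL_inL, hf1, one_smul, Matrix.mul_one]
  rcases Nat.lt_or_ge k 4 with hk | hk
  swap
  · obtain ⟨b, hb⟩ := Function.ne_iff.1 hχ0
    obtain ⟨ω, hω0, hωu, hωf, hωb⟩ := exists_perp_three hk u f (Pi.single b 1)
    obtain ⟨ω', -, eω⟩ := hS.stab hR (i := i) (φ := ω) hu0 hωu hnH hnu
    set c := ω' ⬝ᵥ f
    have hξ : A (ω + (-c) • χ) * (Q * inL i f) = 0 := by
      show outL i (ω + (-c) • χ) * G * U * _ = 0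
      rw [outL_add, outL_smul, Matrix.add_mul, Matrix.add_mul, Matrix.add_mul, Matrix.smul_mul, Matrix.smul_mul,
        Matrix.smul_mul]
      show A ω * _ + (-c) • (A χ * _) = 0
      rw [hout ω f hωu, hAM, eω, hωf, zero_smul, sub_zero, Matrix.mul_assoc, outL_inL, Matrix.mul_smul, Matrix.mul_one,
        neg_smul, add_neg_cancel]
    have hMu : IsUnit (Q * inL i f).det := (unit_of_mul haU hAM).2
    have hz : A (ω + (-c) • χ) = 0 := by
      calc A (ω + (-c) • χ) = A (ω + (-c) • χ) * (Q * inL i f) * (Q * inL i f)⁻¹ := by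
            rw [Matrix.mul_assoc _ (Q * inL i f), mul_nonsing_inv _ hMu, Matrix.mul_one]
        _ = 0 := by rw [hξ, Matrix.zero_mul]
    refine hne (ω + (-c) • χ) (fun e => ?_) ?_ ?_
    · have hc : (ω + (-c) • χ) b = 0 := by rw [e]; rfl
      rw [dotProduct_single_one] at hωb
      rw [Pi.add_apply, Pi.smul_apply, hωb, zero_add, smul_eq_mul, mul_eq_zero] at hc
      rw [hc.resolve_right hb, zero_smul, add_zero] at e
      exact hω0 e
    · rw [add_dotProduct, smul_dotProduct, hωu, hχ, smul_zero, add_zero]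
    · show A (ω + (-c) • χ) * _ = 0
      rw [hz, Matrix.zero_mul]
  obtain rfl : k = 3 := le_antisymm (by omega) hS.dim
  obtain ⟨f', hf'0, hf'1⟩ := exists_dot hχφ
  obtain ⟨φ', hφ'u, eφ⟩ := hS.stab hR (i := i) (φ := φ) hu0 hu hnH hnu
  set α := φ' ⬝ᵥ f'
  set β := φ' ⬝ᵥ f
  have hM' : A χ * (Q * inL i f') = 1 := by
    rw [hout χ f' hχ, hχn, hf'1, one_smul, Matrix.mul_assoc, outL_inL, hf'0, zero_smul, Matrix.mul_zero, zero_sub,
      neg_eq' h2]
  have hφf' : A φ * (Q * inL i f') = α • a := by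
    rw [hout φ f' hu, eφ, hf'0, zero_smul, sub_zero, Matrix.mul_assoc, outL_inL, Matrix.mul_smul, Matrix.mul_one]
  have hAφ : A φ = α • a * A χ := by
    rw [← hφf', Matrix.mul_assoc, mul_eq_one_comm.1 hM', Matrix.mul_one]
  have hα : α ≠ 0 := fun e => hne φ hφ0 hu (by
    show A φ * A φ = 0
    rw [hAφ, e, zero_smul, Matrix.zero_mul, Matrix.zero_mul])
  have hquad : α • (a * a) + β • a + 1 = 0 := by
    have h1 : A φ * (Q * inL i f) = β • a + 1 := by
      rw [hout φ f hu, eφ, hf1, one_smul, Matrix.mul_assoc, outL_inL, Matrix.mul_smul, Matrix.mul_one, sub_eq_add_neg,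
        neg_eq' h2]
    rw [hAφ, Matrix.mul_assoc, hAM, Matrix.smul_mul] at h1
    rw [add_assoc, ← h1, dbl h2]
  have hregular : ∀ (c : F) (W : Matrix (Rst 3 i) (Rst 3 i) F), (a + c • 1) * W = 0 → W = 0 := by
    intro c W hW
    have hω0 : φ + (α * c) • χ ≠ 0 := fun e => hφχ (-(α * c)) (by rw [neg_smul]; exact eq_neg_of_add_eq_zero_left e)
    have hωu : (φ + (α * c) • χ) ⬝ᵥ u = 0 := by rw [add_dotProduct, smul_dotProduct, hu, hχ, smul_zero, add_zero]
    set Z := (Q * inL i f') * W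
    have hZ : A (φ + (α * c) • χ) * Z = 0 := by
      show outL i (φ + (α * c) • χ) * G * U * _ = 0
      rw [outL_add, outL_smul, Matrix.add_mul, Matrix.add_mul, Matrix.add_mul, Matrix.smul_mul, Matrix.smul_mul,
        Matrix.smul_mul]
      show A φ * Z + (α * c) • (A χ * Z) = 0
      have e1 : A φ * Z = α • (a * W) := by rw [← Matrix.mul_assoc, hφf', Matrix.smul_mul]
      have e3 : A χ * Z = W := by rw [← Matrix.mul_assoc, hM', Matrix.one_mul]
      have e4 : a * W + c • W = 0 := by rwa [Matrix.add_mul, Matrix.smul_mul, Matrix.one_mul] at hW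
      rw [e1, e3, mul_smul, ← smul_add, e4, smul_zero]
    have h1 := congrArg (fun M : Matrix (Fin t → Fin 3) (Rst 3 i) F => outL i χ * M) (hker _ hω0 hωu Z hZ)
    have h3 : A χ * Z = 0 := by
      show outL i χ * G * U * Z = 0
      simp only [Matrix.mul_assoc] at h1 ⊢
      rw [h1, hU, out_in_mul, hχ, zero_smul]
    rw [show A χ * Z = W by rw [← Matrix.mul_assoc, hM', Matrix.one_mul]] at h3
    exact h3
  by_cases hroot' : ∀ c : F, α * c * c + β * c + 1 ≠ 0
  · have heven := even_card_of_quadratic hα hquad hroot'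
    rw [Fintype.card_fun, Fintype.card_fin] at heven
    exact Nat.not_even_iff_odd.2 (Odd.pow (by decide)) heven
  · push Not at hroot'
    obtain ⟨c, hc⟩ := hroot'
    have hfac : (a + c • 1) * (α • a + (α * c + β) • 1) = 0 := by
      calc (a + c • (1 : Matrix (Rst 3 i) (Rst 3 i) F)) * (α • a + (α * c + β) • 1)
          = (α • (a * a) + β • a + 1) + (α * c + α * c) • a + (α * c * c + β * c - 1) • 1 := by
            simp only [Matrix.add_mul, Matrix.mul_add, Matrix.smul_mul, Matrix.mul_smul, Matrix.one_mul, Matrix.mul_one]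
            module
        _ = 0 := by
            rw [hquad, show α * c + α * c = 0 by linear_combination α * c * h2,
              show α * c * c + β * c - 1 = 0 by linear_combination hc - h2, zero_smul, zero_smul, add_zero, add_zero]
    have h1 := hregular c _ hfac
    have h3 : (a + (α⁻¹ * (α * c + β)) • 1) * 1 = 0 := by
      have := congrArg (α⁻¹ • ·) h1
      simpa [smul_add, smul_smul, inv_mul_cancel₀ hα] using this
    exact one_ne_zero (hregular _ _ h3)

theorem exists_min_nonscalar {ν : Type} [Fintype ν] [DecidableEq ν] [Nonempty ν] {S : Matrix ν ν F → Prop}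
    {C : Matrix ν ν F} (hC : S C) (hns : ∀ κ : F, C ≠ κ • (1 : Matrix ν ν F)) :
    ∃ D, S D ∧ (∀ κ : F, D ≠ κ • (1 : Matrix ν ν F)) ∧ ∀ E, S E → E ≠ 0 → D.rank ≤ E.rank := by
  classical
  by_cases h : ∃ E, S E ∧ E ≠ 0 ∧ E.rank < Fintype.card ν
  · obtain ⟨D, hD, hmin⟩ : ∃ D, (S D ∧ D ≠ 0) ∧ ∀ E, S E ∧ E ≠ 0 → D.rank ≤ E.rank := by
      have hex : ∃ r, ∃ E, (S E ∧ E ≠ 0) ∧ E.rank = r := by
        obtain ⟨E, h1, h2, -⟩ := h; exact ⟨_, E, ⟨h1, h2⟩, rfl⟩
      obtain ⟨D, hD, hr⟩ := Nat.find_spec hex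
      exact ⟨D, hD, fun E hE => hr ▸ Nat.find_min' hex ⟨E, hE, rfl⟩⟩
    obtain ⟨E, hE, hE0, hlt⟩ := h
    refine ⟨D, hD.1, fun κ e => ?_, fun E h1 h2 => hmin E ⟨h1, h2⟩⟩
    have hκ : κ ≠ 0 := fun e0 => hD.2 (by rw [e, e0, zero_smul])
    have := hmin E ⟨hE, hE0⟩
    rw [e, rank_of_isUnit _ ((isUnit_iff_isUnit_det _).2 (by
      rw [det_smul, det_one, mul_one]; exact (isUnit_iff_ne_zero.2 hκ).pow _))] at this
    omega
  · push Not at h
    exact ⟨C, hC, hns, fun E h1 h2 => le_trans (rank_le_card_width C) (h E h1 h2)⟩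

/-- in characteristic two all compressed operators of a rigid group are scalar -/
theorem Setting.scal_two [Finite F] (hS : Setting H) (hR : Rigid H) (h2 : (2 : F) = 0) : Scal H := by
  classical
  intro g hg i u φ v ψ hu hv
  by_contra! hns
  haveI := nonempty_rst (k := k) (le_trans (by omega) hS.dim) i
  let S : Matrix (Rst k i) (Rst k i) F → Prop := fun K => ∃ g ∈ H, ∃ u φ v ψ : Fin k → F, φ ⬝ᵥ u = 0 ∧ ψ ⬝ᵥ v = 0 ∧
    K = outL i φ * (g : Matrix (Fin t → Fin k) (Fin t → Fin k) F) * inL i v *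
      (outL i ψ * ((g⁻¹ : GL (Fin t → Fin k) F) : Matrix (Fin t → Fin k) (Fin t → Fin k) F) * inL i u)
  obtain ⟨C, hSC, hCns, hmin⟩ := exists_min_nonscalar (S := S) ⟨g, hg, u, φ, v, ψ, hu, hv, rfl⟩ hns
  clear hns hu hv hg g u φ v ψ
  obtain ⟨g, hg, u, φ, v, ψ, hu, hv, hC⟩ := hSC
  have hC0 : C ≠ 0 := fun e => hCns 0 (by rw [e, zero_smul])
  have hu0 : u ≠ 0 := fun e => hC0 (by rw [hC, e, inL_zero, Matrix.mul_zero, Matrix.mul_zero])
  have hφ0 : φ ≠ 0 := fun e => hC0 (by rw [hC, e, outL_zero, Matrix.zero_mul, Matrix.zero_mul, Matrix.zero_mul])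
  set Y := (g : Matrix (Fin t → Fin k) (Fin t → Fin k) F) * inL i v *
      (outL i ψ * ((g⁻¹ : GL (Fin t → Fin k) F) : Matrix (Fin t → Fin k) (Fin t → Fin k) F)) with hY
  obtain ⟨y, hy, ey⟩ := hS.moved (i := i) hg hv
  rw [← hY] at ey
  have hyy : y * y = 1 := Units.ext (by rw [Units.val_mul, ey, mem_of_sq_one h2 (moved_sq g hv), Units.val_one])
  have hyi : y⁻¹ = y := inv_eq_of_mul_eq_one_right hyy
  set G : Matrix (Fin t → Fin k) (Fin t → Fin k) F := (y : Matrix (Fin t → Fin k) (Fin t → Fin k) F) with hG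
  have hc : ∀ χ : Fin k → F, χ ⬝ᵥ u = 0 → outL i χ * G * inL i u =
      outL i χ * (g : Matrix (Fin t → Fin k) (Fin t → Fin k) F) * inL i v *
        (outL i ψ * ((g⁻¹ : GL (Fin t → Fin k) F) : Matrix (Fin t → Fin k) (Fin t → Fin k) F) * inL i u) := fun χ hχ => by
    rw [ey, Matrix.mul_add, Matrix.add_mul, Matrix.mul_one, outL_inL, hχ, zero_smul, zero_add, hY]
    simp only [Matrix.mul_assoc]
  have hCy : outL i φ * G * inL i u = C := by rw [hc φ hu, hC]
  have hCC : C * C ≠ 0 := fun e => hC0 (nil_zero hS hR h2 hg hu hv hC e)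
  have hc0 : ∀ χ : Fin k → F, χ ≠ 0 → χ ⬝ᵥ u = 0 → outL i χ * G * inL i u ≠ 0 := fun χ hχ0 hχ e => by
    rw [hc χ hχ] at e
    obtain ⟨κ, hκ⟩ := (comm0 hS hR h2 hg hu0 hχ0 hχ hv (X := inL i u * outL i χ) rfl rfl e).1 φ hu
    exact hCns κ (hC.trans hκ)
  have hd0 : ∀ χ : Fin k → F, χ ≠ 0 → χ ⬝ᵥ u = 0 → outL i χ * G * inL i u * C ≠ 0 := fun χ hχ0 hχ e => by
    have h1 := ((comm0 hS hR h2 hy hu0 hχ0 hχ hu (X := inL i u * outL i χ) rfl rfl
      (by rw [hyi, ← hG, hCy]; exact e)).2 (hc0 χ hχ0 hχ)).1 φ hu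
    rw [hyi, ← hG, hCy] at h1
    exact hCC h1
  obtain ⟨x, hx, ex⟩ := hS.root i u φ hu
  rw [← inL_outL] at ex
  have hxx : x * x = 1 := Units.ext (by
    rw [Units.val_mul, ex, mem_of_sq_one h2 (by rw [Matrix.mul_assoc, out_in_mul, hu, zero_smul, Matrix.mul_zero]),
      Units.val_one])
  set γ := y * x * y with hγd
  have hγγ : γ * γ = 1 := by
    rw [hγd, mul_assoc, ← mul_assoc y (y * x), ← mul_assoc y y, hyy, one_mul, mul_assoc y x,
      ← mul_assoc x, hxx, one_mul, hyy]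
  have hγH : γ ∈ H := mul_mem (mul_mem hy hx) hy
  have hγu : (γ : Matrix (Fin t → Fin k) (Fin t → Fin k) F) * inL i u = inL i u + G * inL i u * C := by
    have hGG : G * G = 1 := by rw [hG, ← Units.val_mul, hyy, Units.val_one]
    rw [hγd, Units.val_mul, Units.val_mul, ex, ← hG, Matrix.mul_add, Matrix.add_mul, Matrix.mul_one, hGG,
      Matrix.add_mul, Matrix.one_mul, ← hCy]
    simp only [Matrix.mul_assoc]
  have hA2 : ∀ χ : Fin k → F, χ ⬝ᵥ u = 0 →
      outL i χ * (γ : Matrix (Fin t → Fin k) (Fin t → Fin k) F) * inL i u = outL i χ * G * inL i u * C := fun χ hχ => by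
    rw [Matrix.mul_assoc, hγu, Matrix.mul_add, outL_inL, hχ, zero_smul, zero_add]
    simp only [Matrix.mul_assoc]
  have hrank : ∀ χ : Fin k → F, χ ≠ 0 → χ ⬝ᵥ u = 0 → C.rank ≤ (outL i χ * G * inL i u * C).rank := fun χ hχ0 hχ =>
    hmin _ ⟨y, hy, u, χ, u, φ, hχ, hu, by rw [hyi, ← hG, hCy]⟩ (hd0 χ hχ0 hχ)
  refine false_of_involution (i := i) hS hR h2 hγH hγγ hu0 hφ0 hu ?_ ?_
  · intro χ hχ0 hχ ν Z hZ
    rw [hA2 χ hχ] at hZ
    have hCZ : C * Z = 0 := ker_of_rank (hrank χ hχ0 hχ) hZ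
    rw [hγu, Matrix.add_mul, Matrix.mul_assoc (G * inL i u) C, hCZ, Matrix.mul_zero, add_zero]
  · intro χ hχ0 hχ e
    have hγi : γ⁻¹ = γ := inv_eq_of_mul_eq_one_right hγγ
    have h1 := ((comm0 hS hR h2 hγH hu0 hχ0 hχ hu (X := inL i u * outL i χ) rfl rfl
      (by rw [hγi]; exact e)).2 (by rw [hA2 χ hχ]; exact hd0 χ hχ0 hχ)).1 φ hu
    rw [hγi, hA2 φ hu, hCy] at h1
    exact hCC (nil_zero hS hR h2 hy hu hu (K := C * C) (by rw [hyi, ← hG, hCy]) h1)

end Cfsg.Agent.ClassicalMax.LWreath
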