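import Cfsg.Agent.ClassicalMax.LWreath.Odd
import Cfsg.Agent.ClassicalMax.LWreath.Full
import Cfsg.Agent.ClassicalMax.LWreath.Inv2
import Cfsg.Agent.Asch.Proper
import Cfsg.Agent.Asch.Transport

/-!
The stabiliser of a decomposition into tensor factors of dimension at least three is maximal in the special linear group.
-/

set_option autoImplicit false
set_option linter.unusedSectionVars false

namespace Cfsg.Agent.ClassicalMax.LWreath

open Matrix Cfsg.Geo Cfsg.Agent.ClassicalMax.TPow
open scoped MatrixGroups

variable {F : Type*} [Field F] {k t : ℕ}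

/-- the permutations of the slots as a homomorphism -/
noncomputable def permHom : Equiv.Perm (Fin t) →* GL (Fin t → Fin k) F :=
  MonoidHom.mk' (fun σ => Asch.permU σ) fun σ τ => Units.ext (Asch.permM_mul σ τ).symm

theorem permU_mem_standard (σ : Equiv.Perm (Fin t)) :
    (Asch.permU σ : GL (Fin t → Fin k) F) ∈ tensorWreathStandard k t F := by
  have h := Asch.pureU_mul_permU_mem (F := F) (fun _ : Fin t => (1 : GL (Fin k) F)) σ
  have e : Asch.pureU (fun _ : Fin t => (1 : GL (Fin k) F)) = 1 := Units.ext (by
    show tens (fun _ : Fin t => ((1 : GL (Fin k) F) : Matrix (Fin k) (Fin k) F)) = 1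
    exact tens_one)
  rwa [e, one_mul] at h

theorem det_perm_sq {a b : Equiv.Perm (Fin t)} (ha : a * a = 1) :
    Matrix.GeneralLinearGroup.det (Asch.permU (a * (b * a * b⁻¹)) : GL (Fin t → Fin k) F) = 1 := by
  set f := (Matrix.GeneralLinearGroup.det).comp (permHom (F := F) (k := k) (t := t)) with hf
  show f (a * (b * a * b⁻¹)) = 1
  rw [map_mul, map_mul, map_mul, map_inv, mul_comm (f b), mul_inv_cancel_right, ← map_mul, ha, map_one]

theorem det_perm_two (h2 : (2 : F) = 0) (σ : Equiv.Perm (Fin t)) :
    Matrix.GeneralLinearGroup.det (Asch.permU σ : GL (Fin t → Fin k) F) = 1 := by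
  set f := (Matrix.GeneralLinearGroup.det).comp (permHom (F := F) (k := k) (t := t)) with hf
  show f σ = 1
  induction σ using Equiv.Perm.swap_induction_on with
  | one => exact map_one f
  | swap_mul g x y hxy ih =>
    rw [map_mul, ih, mul_one]
    have h1 : (f (Equiv.swap x y) : F) * (f (Equiv.swap x y) : F) = 1 := by
      rw [← Units.val_mul, ← map_mul, Equiv.swap_mul_self, map_one, Units.val_one]
    set c := (f (Equiv.swap x y) : F) with hc
    have h3 : (c - 1) * (c - 1) = 0 := by linear_combination h1 + (1 - c) * h2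
    exact Units.ext (hc ▸ sub_eq_zero.1 ((mul_eq_zero.1 h3).elim id id))

theorem det_fr {ι : Type} [Fintype ι] [DecidableEq ι] (e : ι ≃ (Fin t → Fin k)) (P : GL ι F)
    (g : GL (Fin t → Fin k) F) : Asch.fr e P g ∈ specialLinear ι F ↔ g ∈ specialLinear (Fin t → Fin k) F := by
  have h : Matrix.GeneralLinearGroup.det (Asch.fr e P g) = Matrix.GeneralLinearGroup.det g := by
    show Matrix.GeneralLinearGroup.det (P * glReindex e.symm g * P⁻¹) = _
    rw [map_mul, map_mul, map_inv, mul_comm (Matrix.GeneralLinearGroup.det P), mul_inv_cancel_right]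
    exact Units.ext (Matrix.det_submatrix_equiv_self e _)
  rw [specialLinear, specialLinear, MonoidHom.mem_ker, MonoidHom.mem_ker, h]

/-- maximality -/
theorem isMaximalIn [Finite F] {ι : Type} [Fintype ι] [DecidableEq ι] (hk : 3 ≤ k) (ht : 2 ≤ t)
    (e : ι ≃ (Fin t → Fin k)) (P : GL ι F) :
    IsMaximalIn (specialLinear ι F) (tensorWreathSubgroup k t e P ⊓ specialLinear ι F) := by
  classical
  refine ⟨lt_of_le_of_ne inf_le_right fun heq => Asch.sl_not_wreath (by omega) ht e P fun x hx => ?_, fun M hM1 hM2 => ?_⟩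
  · rw [← heq] at hx
    exact hx.1
  by_cases hle : M ≤ tensorWreathSubgroup k t e P
  · exact Or.inl (le_antisymm (le_inf hle hM2) hM1)
  refine Or.inr (le_antisymm hM2 ?_)
  obtain ⟨x, hxM, hxK⟩ := SetLike.not_le_iff_exists.1 hle
  let H : Subgroup (GL (Fin t → Fin k) F) := M.comap (Asch.fr e P).toMonoidHom
  have hmem : ∀ g ∈ tensorWreathStandard k t F, Matrix.GeneralLinearGroup.det g = 1 → g ∈ H := fun g hg hd =>
    hM1 ⟨by rw [← Asch.map_fr_eq_wreath]; exact Subgroup.mem_map_of_mem _ hg, (det_fr e P g).2 hd⟩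
  have hS : Setting H :=
    { dim := hk
      root := fun i u φ h => by
        have hsq : vecMulVec u φ * vecMulVec u φ = (0 : Matrix (Fin k) (Fin k) F) := by
          rw [vecMulVec_mul_vecMulVec, h, zero_smul, vecMulVec_zero]
        have hval : ((Asch.pureU (Function.update (1 : Fin t → GL (Fin k) F) i (uni _ hsq)) :
            GL (Fin t → Fin k) F) : Matrix (Fin t → Fin k) (Fin t → Fin k) F) = 1 + sl i (vecMulVec u φ) := by
          rw [← sl_one i, ← sl_add]
          show tens (fun j => ((Function.update (1 : Fin t → GL (Fin k) F) i (uni _ hsq) j : GL (Fin k) F) :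
            Matrix (Fin k) (Fin k) F)) = tens _
          congr 1
          funext j
          rcases eq_or_ne j i with rfl | hj
          · rw [Function.update_self, Function.update_self]; rfl
          · rw [Function.update_of_ne hj, Function.update_of_ne hj]; rfl
        refine ⟨_, hmem _ ?_ (Units.ext ?_), hval⟩
        · exact Subgroup.subset_closure (Or.inl ⟨_, fun _ _ => rfl⟩)
        · show Matrix.det _ = (1 : F)
          rw [hval, ← inL_outL, Matrix.det_one_add_mul_comm, outL_inL, h, zero_smul, add_zero, det_one]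
      perm := fun a b ha => hmem _ (permU_mem_standard _) (det_perm_sq ha) }
  obtain ⟨g, rfl⟩ := (Asch.fr e P).surjective x
  have hgK : g ∉ tensorWreathStandard k t F := fun h => hxK (by
    rw [← Asch.map_fr_eq_wreath]; exact Subgroup.mem_map_of_mem _ h)
  have hne : ¬ Rigid H := fun hR => by
    refine hgK (hS.mem_standard ?_ hxM (by omega))
    by_cases h2 : (2 : F) = 0
    · exact (hS.scal_two hR h2).scalP fun σ => hmem _ (permU_mem_standard σ) (det_perm_two h2 σ)
    · exact hS.scal_odd hR h2
  simp only [Rigid, not_forall, not_exists] at hne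
  obtain ⟨i, c, hc, hns⟩ := hne
  have htop : H.comap (Matrix.SpecialLinearGroup.toGL : Matrix.SpecialLinearGroup (Fin t → Fin k) F →* _) = ⊤ := by
    refine Classical.sl_eq_top_of_transvection _ fun a b hab s => ?_
    obtain ⟨h, hh, he⟩ := hS.transvections hc hns hab s
    rw [Subgroup.mem_comap]
    convert hh using 1
    exact Units.ext he.symm
  intro y hy
  obtain ⟨z, rfl⟩ := (Asch.fr e P).surjective y
  have hz : (z : Matrix (Fin t → Fin k) (Fin t → Fin k) F).det = 1 :=
    congrArg Units.val (MonoidHom.mem_ker.1 ((det_fr e P z).1 hy))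
  let S : Matrix.SpecialLinearGroup (Fin t → Fin k) F := ⟨(z : Matrix (Fin t → Fin k) (Fin t → Fin k) F), hz⟩
  have hS' : S ∈ H.comap (Matrix.SpecialLinearGroup.toGL : Matrix.SpecialLinearGroup (Fin t → Fin k) F →* _) :=
    htop ▸ Subgroup.mem_top S
  rw [Subgroup.mem_comap, show Matrix.SpecialLinearGroup.toGL S = z from Units.ext rfl] at hS'
  exact hS'

end Cfsg.Agent.ClassicalMax.LWreath
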