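import Cfsg.Agent.ClassicalMax.OTensor.Words
import Cfsg.Agent.ClassicalMax.Transvection

/-!
Words in two one-parameter groups of square-zero elements `1 + s ι ιT`, `1 + s j jT`: either some element of the group
preserves the image of `ι` with non-scalar action, or the product of the two compressed maps is scalar.
-/

set_option autoImplicit false
set_option linter.unusedSectionVars false
set_option linter.style.haveILetI false

namespace Cfsg.Agent.ClassicalMax.LWreath

open Module Polynomial Cfsg.Agent.ClassicalMax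
open Cfsg.Agent.ClassicalMax.OTensor (Exact exists_good)
open Cfsg.Agent.RootSub.Dickson (upR lowR wordGroup coe_upR coe_lowR upR_inv lowR_inv)
open scoped MatrixGroups Polynomial

variable {F V W : Type*} [Field F] [AddCommGroup V] [Module F V] [AddCommGroup W] [Module F W]

/-- the compressed operator of a moved pair on a pair -/
noncomputable def kK (i : W →ₗ[F] V) (iT : V →ₗ[F] W) (g : V ≃ₗ[F] V) (i' : W →ₗ[F] V) (iT' : V →ₗ[F] W) :
    Module.End F W :=
  (iT ∘ₗ g.toLinearMap ∘ₗ i') ∘ₗ (iT' ∘ₗ (g⁻¹ : V ≃ₗ[F] V).toLinearMap ∘ₗ i)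

/-- a square-zero pair whose one-parameter group is in the group -/
structure Pair (H : Subgroup (V ≃ₗ[F] V)) (i : W →ₗ[F] V) (iT : V →ₗ[F] W) : Prop where
  zero : ∀ w, iT (i w) = 0
  inj : Function.Injective i
  root : ∀ s : F, ∃ h ∈ H, ∀ z, h z = z + s • i (iT z)

/-- the word is realised by the element -/
def Rep (i : W →ₗ[F] V) (iT : V →ₗ[F] W) (j : W →ₗ[F] V) (jT : V →ₗ[F] W) (M : SL(2, F[X])) (h : V ≃ₗ[F] V) :
    Prop :=
  ∃ (a p q r1 : F[X]) (r0 : F), M 0 0 = 1 + X * p ∧ M 0 1 = a ∧ M 1 1 = 1 + X * q ∧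
    M 1 0 = X * (C r0 + X * r1) ∧
    ∀ z, h z = z + i (aeval ((iT ∘ₗ j) ∘ₗ (jT ∘ₗ i)) a (iT z)) +
      i (aeval ((iT ∘ₗ j) ∘ₗ (jT ∘ₗ i)) p (iT (j (jT z)))) +
      j (jT (i (aeval ((iT ∘ₗ j) ∘ₗ (jT ∘ₗ i)) q (iT z)))) +
      j (r0 • jT z + jT (i (aeval ((iT ∘ₗ j) ∘ₗ (jT ∘ₗ i)) r1 (iT (j (jT z))))))

variable {i j : W →ₗ[F] V} {iT jT : V →ₗ[F] W} {H : Subgroup (V ≃ₗ[F] V)}

theorem rep_one : Rep i iT j jT 1 1 :=
  ⟨0, 0, 0, 0, 0, by simp, by simp, by simp, by simp, fun z => by simp⟩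

theorem Rep.unique {M : SL(2, F[X])} {h h' : V ≃ₗ[F] V} (hh : Rep i iT j jT M h) (hh' : Rep i iT j jT M h') :
    h = h' := by
  obtain ⟨a, p, q, r1, r0, e00, e01, e11, e10, hz⟩ := hh
  obtain ⟨a', p', q', r1', r0', f00, f01, f11, f10, hz'⟩ := hh'
  have hp : p = p' := mul_left_cancel₀ X_ne_zero (add_left_cancel (e00.symm.trans f00))
  have hq : q = q' := mul_left_cancel₀ X_ne_zero (add_left_cancel (e11.symm.trans f11))
  have hr := mul_left_cancel₀ X_ne_zero (e10.symm.trans f10)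
  have hr0 : r0 = r0' := by simpa using congrArg (fun f : F[X] => f.coeff 0) hr
  have hr1 : r1 = r1' := by
    subst hr0
    exact mul_left_cancel₀ X_ne_zero (add_left_cancel hr)
  refine LinearEquiv.ext fun z => ?_
  rw [hz, hz', ← e01, ← f01, hp, hq, hr0, hr1]

theorem Rep.up (hi : ∀ w, iT (i w) = 0) {x : V ≃ₗ[F] V} {s : F} (hx : ∀ z, x z = z + s • i (iT z))
    {N : SL(2, F[X])} {h : V ≃ₗ[F] V} (hh : Rep i iT j jT N h) : Rep i iT j jT (upR (C s) * N) (x * h) := by
  obtain ⟨a, p, q, r1, r0, e00, e01, e11, e10, hz⟩ := hh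
  refine ⟨a + C s * (1 + X * q), p + C s * (C r0 + X * r1), q, r1, r0, ?_, ?_, ?_, ?_, fun z => ?_⟩
  · simp [coe_upR, Matrix.SpecialLinearGroup.coe_mul, Matrix.mul_apply, Fin.sum_univ_two, e00, e10]; ring
  · simp [coe_upR, Matrix.SpecialLinearGroup.coe_mul, Matrix.mul_apply, Fin.sum_univ_two, e01, e11]
  · simp [coe_upR, Matrix.SpecialLinearGroup.coe_mul, Matrix.mul_apply, Fin.sum_univ_two, e11]
  · simp [coe_upR, Matrix.SpecialLinearGroup.coe_mul, Matrix.mul_apply, Fin.sum_univ_two, e10]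
  set K := (iT ∘ₗ j) ∘ₗ (jT ∘ₗ i) with hK
  have hKe : ∀ w, iT (j (jT (i w))) = K w := fun w => rfl
  have e1 : iT (h z) = iT z + K (aeval K q (iT z)) + r0 • iT (j (jT z)) + K (aeval K r1 (iT (j (jT z)))) := by
    rw [hz]
    simp only [map_add, hi, map_smul, hKe, add_zero]
    abel
  rw [LinearEquiv.mul_apply, hx, e1, hz]
  simp only [map_add, map_mul, map_smul, map_one, aeval_C, aeval_X, LinearMap.add_apply, Module.End.mul_apply,
    Module.End.one_apply, Module.algebraMap_end_apply, smul_add]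
  module

theorem Rep.low (hj : ∀ w, jT (j w) = 0) {y : V ≃ₗ[F] V} {s : F} (hy : ∀ z, y z = z + s • j (jT z))
    {N : SL(2, F[X])} {h : V ≃ₗ[F] V} (hh : Rep i iT j jT N h) : Rep i iT j jT (lowR (C s * X) * N) (y * h) := by
  obtain ⟨a, p, q, r1, r0, e00, e01, e11, e10, hz⟩ := hh
  refine ⟨a, p, q + C s * a, r1 + C s * p, r0 + s, ?_, ?_, ?_, ?_, fun z => ?_⟩
  · simp [coe_lowR, Matrix.SpecialLinearGroup.coe_mul, Matrix.mul_apply, Fin.sum_univ_two, e00]
  · simp [coe_lowR, Matrix.SpecialLinearGroup.coe_mul, Matrix.mul_apply, Fin.sum_univ_two, e01]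
  · simp [coe_lowR, Matrix.SpecialLinearGroup.coe_mul, Matrix.mul_apply, Fin.sum_univ_two, e01, e11]; ring
  · simp [coe_lowR, Matrix.SpecialLinearGroup.coe_mul, Matrix.mul_apply, Fin.sum_univ_two, e00, e10]; ring
  set K := (iT ∘ₗ j) ∘ₗ (jT ∘ₗ i) with hK
  have e1 : jT (h z) = jT z + jT (i (aeval K a (iT z))) + jT (i (aeval K p (iT (j (jT z))))) := by
    rw [hz]
    simp only [map_add, hj, add_zero]
  rw [LinearEquiv.mul_apply, hy, e1, hz]
  simp only [map_add, map_mul, map_smul, aeval_C, LinearMap.add_apply, Module.End.mul_apply,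
    Module.algebraMap_end_apply, add_smul, smul_add]
  module

theorem rep_all (hi : ∀ w, iT (i w) = 0) (hj : ∀ w, jT (j w) = 0)
    (hx : ∀ s : F, ∃ h ∈ H, ∀ z, h z = z + s • i (iT z)) (hy : ∀ s : F, ∃ h ∈ H, ∀ z, h z = z + s • j (jT z))
    {M : SL(2, F[X])} (hM : M ∈ wordGroup F) :
    ∃ h ∈ H, ∀ N h', Rep i iT j jT N h' → Rep i iT j jT (M * N) (h * h') := by
  have hup : ∀ (s : F) (L : SL(2, F[X])),
      (∃ h ∈ H, ∀ N h', Rep i iT j jT N h' → Rep i iT j jT (L * N) (h * h')) →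
      ∃ h ∈ H, ∀ N h', Rep i iT j jT N h' → Rep i iT j jT (upR (C s) * L * N) (h * h') := fun s L => by
    rintro ⟨h, hh, hr⟩
    obtain ⟨x, hxH, hxz⟩ := hx s
    refine ⟨x * h, mul_mem hxH hh, fun N h' hN => ?_⟩
    rw [mul_assoc, mul_assoc]
    exact (hr N h' hN).up hi hxz
  have hlow : ∀ (s : F) (L : SL(2, F[X])),
      (∃ h ∈ H, ∀ N h', Rep i iT j jT N h' → Rep i iT j jT (L * N) (h * h')) →
      ∃ h ∈ H, ∀ N h', Rep i iT j jT N h' → Rep i iT j jT (lowR (C s * X) * L * N) (h * h') := fun s L => by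
    rintro ⟨h, hh, hr⟩
    obtain ⟨y, hyH, hyz⟩ := hy s
    refine ⟨y * h, mul_mem hyH hh, fun N h' hN => ?_⟩
    rw [mul_assoc, mul_assoc]
    exact (hr N h' hN).low hj hyz
  refine Subgroup.closure_induction_left
    (p := fun L _ => ∃ h ∈ H, ∀ N h', Rep i iT j jT N h' → Rep i iT j jT (L * N) (h * h'))
    ⟨1, one_mem _, fun N h' hN => by rwa [one_mul, one_mul]⟩ ?_ ?_ hM
  · rintro _ (⟨t, rfl⟩ | ⟨t, rfl⟩) L - hL
    · exact hup t L hL
    · exact hlow t L hL
  · rintro _ (⟨t, rfl⟩ | ⟨t, rfl⟩) L - hL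
    · have := hup (-t) L hL
      rwa [C_neg, ← upR_inv] at this
    · have := hlow (-t) L hL
      rwa [C_neg, neg_mul, ← lowR_inv] at this

theorem aeval_comm (K : Module.End F W) (f : F[X]) (y : W) : aeval K f (K y) = K (aeval K f y) := by
  have := congrArg (fun f' => aeval K f' y) (mul_comm f X)
  simpa only [map_mul, aeval_X, Module.End.mul_apply] using this

theorem Rep.apply_left (hi : ∀ w, iT (i w) = 0) {M : SL(2, F[X])} {h : V ≃ₗ[F] V} (hh : Rep i iT j jT M h) :
    ∃ r : F[X], M 1 0 = X * r ∧ ∀ y, h (i y) = i (aeval ((iT ∘ₗ j) ∘ₗ (jT ∘ₗ i)) (M 0 0) y) +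
      j (jT (i (aeval ((iT ∘ₗ j) ∘ₗ (jT ∘ₗ i)) r y))) := by
  obtain ⟨a, p, q, r1, r0, e00, e01, e11, e10, hz⟩ := hh
  refine ⟨_, e10, fun y => ?_⟩
  set K := (iT ∘ₗ j) ∘ₗ (jT ∘ₗ i) with hK
  have hKe : iT (j (jT (i y))) = K y := rfl
  rw [hz, hi, hKe, e00]
  simp only [map_add, map_mul, map_one, map_zero, map_smul, aeval_C, aeval_X, LinearMap.add_apply,
    Module.End.mul_apply, Module.End.one_apply, Module.algebraMap_end_apply, add_zero, aeval_comm]

theorem compress (hi : ∀ w, iT (i w) = 0) {M : SL(2, F[X])} {h : V ≃ₗ[F] V} (hh : Rep i iT j jT M h) (y : W) :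
    iT (h (i y)) = aeval ((iT ∘ₗ j) ∘ₗ (jT ∘ₗ i)) (M 1 0) y := by
  obtain ⟨r, hr, hap⟩ := hh.apply_left hi
  set K := (iT ∘ₗ j) ∘ₗ (jT ∘ₗ i) with hK
  rw [hap, map_add, hi, zero_add, hr, map_mul, aeval_X, Module.End.mul_apply]
  rfl

variable [Finite F] [FiniteDimensional F W]

/-- an element preserving the image of a pair whose action is a good polynomial in a compressed operator -/
def Exc (H : Subgroup (V ≃ₗ[F] V)) (Φ : (W →ₗ[F] V) → (V →ₗ[F] W) → Prop) (good : Module.End F W → Prop)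
    (i : W →ₗ[F] V) (iT : V →ₗ[F] W) : Prop :=
  ∃ h ∈ H, ∃ g ∈ H, ∃ (i' : W →ₗ[F] V) (iT' : V →ₗ[F] W) (f : F[X]), Φ i' iT' ∧
    good (aeval (kK i iT g i' iT') f) ∧ Function.Surjective (aeval (kK i iT g i' iT') f) ∧
    (∀ y, h (i y) = i (aeval (kK i iT g i' iT') f y)) ∧ ∀ x, iT x = 0 → ∃ y, h x = x + i y

theorem exc_or_scalar {Φ : (W →ₗ[F] V) → (V →ₗ[F] W) → Prop} {good : Module.End F W → Prop}
    (hW : ∀ K : Module.End F W, (∀ κ : F, K ≠ algebraMap F (Module.End F W) κ) →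
      ∃ M ∈ wordGroup F, (Exact K M ∧ good (aeval K (M 0 0))) ∨
        ((∀ κ : F, -aeval K (M 1 0) ^ 2 ≠ algebraMap F (Module.End F W) κ) ∧
          finrank F (LinearMap.range ((-aeval K (M 1 0) ^ 2) ^ finrank F W)) <
            finrank F (LinearMap.range (K ^ finrank F W))))
    (hΦ : ∀ i' iT', Φ i' iT' → Pair H i' iT') (hi : Φ i iT) {g : V ≃ₗ[F] V} (hg : g ∈ H) {i' : W →ₗ[F] V}
    {iT' : V →ₗ[F] W} (hi' : Φ i' iT') :
    Exc H Φ good i iT ∨ ∃ κ : F, kK i iT g i' iT' = algebraMap F (Module.End F W) κ := by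
  have hp := hΦ _ _ hi
  suffices ∀ (n : ℕ) (g : V ≃ₗ[F] V) (i' : W →ₗ[F] V) (iT' : V →ₗ[F] W), g ∈ H → Φ i' iT' →
      finrank F (LinearMap.range (kK i iT g i' iT' ^ finrank F W)) = n →
      Exc H Φ good i iT ∨ ∃ κ : F, kK i iT g i' iT' = algebraMap F (Module.End F W) κ from this _ g i' iT' hg hi' rfl
  intro n
  induction n using Nat.strong_induction_on with
  | _ n ih =>
    intro g i' iT' hg hi' hn
    have hp' := hΦ _ _ hi'
    by_cases hns : ∃ κ : F, kK i iT g i' iT' = algebraMap F (Module.End F W) κ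
    · exact Or.inr hns
    simp only [not_exists] at hns
    obtain ⟨M, hM, hMc⟩ := hW _ hns
    set j : W →ₗ[F] V := g.toLinearMap ∘ₗ i' with hj
    set jT : V →ₗ[F] W := iT' ∘ₗ (g⁻¹ : V ≃ₗ[F] V).toLinearMap with hjT
    have hj0 : ∀ w, jT (j w) = 0 := fun w => by
      rw [hjT, hj]
      show iT' (g⁻¹ (g (i' w))) = 0
      rw [inv_apply, hp'.zero]
    have hy : ∀ s : F, ∃ h ∈ H, ∀ z, h z = z + s • j (jT z) := fun s => by
      obtain ⟨x, hx, hxz⟩ := hp'.root s
      refine ⟨g * x * g⁻¹, mul_mem (mul_mem hg hx) (inv_mem hg), fun z => ?_⟩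
      rw [LinearEquiv.mul_apply, LinearEquiv.mul_apply, hxz, map_add, apply_inv, map_smul]
      rfl
    obtain ⟨h, hh, hrep⟩ := rep_all hp.zero hj0 hp.root hy hM
    have hrM : Rep i iT j jT M h := by simpa using hrep 1 1 rep_one
    set K := (iT ∘ₗ j) ∘ₗ (jT ∘ₗ i) with hKd
    have hKk : kK i iT g i' iT' = K := rfl
    rw [hKk] at hn hns hMc
    have hKe : ∀ w, iT (j (jT (i w))) = K w := fun w => rfl
    rcases hMc with ⟨hex, hns'⟩ | ⟨hns', hlt⟩
    · left
      obtain ⟨a, p, q, r1, r0, e00, e01, e11, e10, hz⟩ := id hrM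
      obtain ⟨r, hr, hap⟩ := hrM.apply_left hp.zero
      have hreq : r = C r0 + X * r1 := mul_left_cancel₀ X_ne_zero (hr.symm.trans e10)
      have hO : ∀ x : W, r0 • x + jT (i (aeval K r1 (iT (j x)))) = 0 := by
        rcases hex with ⟨hinj, h0⟩ | ⟨r', hr', hr1⟩
        · intro x
          have hPa : Function.Surjective (jT ∘ₗ i) := LinearMap.injective_iff_surjective.1
            fun u v e => hinj (by rw [← hKe, ← hKe v, show jT (i u) = jT (i v) from e])
          obtain ⟨y, rfl⟩ := hPa x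
          have hr0 : aeval K r y = 0 := hinj (by
            have h1 := LinearMap.congr_fun h0 y
            rwa [hr, map_mul, aeval_X, Module.End.mul_apply, LinearMap.zero_apply, ← map_zero K] at h1)
          rw [show iT (j ((jT ∘ₗ i) y)) = K y from rfl, show (jT ∘ₗ i) y = jT (i y) from rfl, ← map_smul, ← map_smul,
            ← map_add jT, ← map_add i, show r0 • y + aeval K r1 (K y) = aeval K r y by
              rw [hreq, mul_comm, map_add, map_mul, LinearMap.add_apply, Module.End.mul_apply, aeval_X, aeval_C,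
                Module.algebraMap_end_apply], hr0, map_zero, map_zero]
        · intro x
          have h1 : C r0 + X * r1 = X * r' := mul_left_cancel₀ (X_ne_zero (R := F)) (by
            rw [← e10, hr', pow_two, mul_assoc])
          have hr00 : r0 = 0 := by simpa using congrArg (fun f : F[X] => f.coeff 0) h1
          have h2 : r1 = r' := mul_left_cancel₀ (X_ne_zero (R := F)) (by rw [← h1, hr00, C_0, zero_add])
          rw [hr00, h2, hr1, zero_smul, zero_add, LinearMap.zero_apply, map_zero, map_zero]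
      have hhi : ∀ y, h (i y) = i (aeval K (M 0 0) y) := fun y => by
        have h3 := hO (jT (i y))
        rw [hKe, ← map_smul, ← map_smul, ← map_add jT, ← map_add i] at h3
        rw [hap, hreq, map_add, map_mul, LinearMap.add_apply, Module.End.mul_apply, aeval_C, aeval_X,
          Module.algebraMap_end_apply, ← aeval_comm, h3, map_zero, add_zero]
      refine ⟨h, hh, g, hg, i', iT', M 0 0, hi', hns', ?_, hhi, fun x hx => ⟨aeval K p (iT (j (jT x))), ?_⟩⟩
      · show Function.Surjective (aeval K (M 0 0))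
        exact LinearMap.injective_iff_surjective.1 fun u v e =>
          hp.inj (h.injective (by rw [hhi, hhi, e]))
      · rw [hz, hx, map_zero, map_zero, map_zero, map_zero, map_zero, hO, map_zero, add_zero, add_zero, add_zero]
    · obtain ⟨h', -, hrep'⟩ := rep_all hp.zero hj0 hp.root hy (inv_mem hM)
      have hinv : h' = h⁻¹ := by
        refine eq_inv_of_mul_eq_one_left ?_
        have := hrep' M h hrM
        rw [inv_mul_cancel] at this
        exact this.unique rep_one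
      have hrI : Rep i iT j jT M⁻¹ h⁻¹ := by simpa [hinv] using hrep' 1 1 rep_one
      have hK' : kK i iT h i iT = -aeval K (M 1 0) ^ 2 := LinearMap.ext fun y => by
        have e : (M⁻¹ : SL(2, F[X])) 1 0 = -M 1 0 := by
          simp [Matrix.SpecialLinearGroup.coe_inv, Matrix.adjugate_fin_two]
        simp only [kK, LinearMap.comp_apply, LinearEquiv.coe_coe]
        rw [compress hp.zero hrI, compress hp.zero hrM, e, map_neg, LinearMap.neg_apply, map_neg, pow_two,
          LinearMap.neg_apply, Module.End.mul_apply]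
      rcases ih _ (hn ▸ hlt) h i iT hh hi (by rw [hK']) with he | ⟨κ, hκ⟩
      · exact Or.inl he
      · exact absurd (hK'.symm.trans hκ) (hns' κ)

end Cfsg.Agent.ClassicalMax.LWreath
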