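import Cfsg.Agent.ClassicalMax.LWreath.Struct
import Cfsg.Agent.ClassicalMax.LWreath.Rep

/-!
Odd characteristic: in a rigid group all compressed operators are scalar.
-/

set_option autoImplicit false
set_option linter.unusedSectionVars false

namespace Cfsg.Agent.ClassicalMax.LWreath

open Matrix Polynomial Cfsg.Agent.ClassicalMax Cfsg.Agent.ClassicalMax.TPow
open scoped MatrixGroups Polynomial

variable {F : Type*} [Field F] [Finite F] {k t : ℕ} {H : Subgroup (GL (Fin t → Fin k) F)}

theorem fu_ne {u : Fin k → F} (hu : u ≠ 0) : fu u ≠ 0 := fun h => hu (funext fun a => congrFun h fun _ => a)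

theorem Setting.scal_odd (hS : Setting H) (hR : Rigid H) (h2 : (2 : F) ≠ 0) : ScalP H := by
  classical
  intro g₀ hg₀ σ i u φ v ψ hu hv
  by_cases hu0 : u = 0
  · exact ⟨0, by rw [hu0, inL_zero, Matrix.mul_zero, Matrix.mul_zero, zero_smul]⟩
  by_cases hφ0 : φ = 0
  · exact ⟨0, by rw [hφ0, outL_zero, Matrix.zero_mul, Matrix.zero_mul, Matrix.zero_mul, zero_smul]⟩
  by_cases hv0 : v = 0
  · exact ⟨0, by rw [hv0, inL_zero, Matrix.mul_zero, Matrix.zero_mul, zero_smul]⟩
  set g := g₀ * Asch.permU σ with hg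
  set G : Matrix (Fin t → Fin k) (Fin t → Fin k) F := (g : Matrix (Fin t → Fin k) (Fin t → Fin k) F)
  set G' : Matrix (Fin t → Fin k) (Fin t → Fin k) F :=
    ((g⁻¹ : GL (Fin t → Fin k) F) : Matrix (Fin t → Fin k) (Fin t → Fin k) F)
  have hGG : G' * G = 1 := by rw [← Units.val_mul, inv_mul_cancel, Units.val_one]
  set E := glEquiv (Fin t → Fin k) F with hE
  let T := Matrix.toLinAlgEquiv' (R := F) (n := Rst k i)
  have hp : Pair (H.map E.toMonoidHom) (inL i u).mulVecLin (outL i φ).mulVecLin := by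
    refine ⟨fun z => ?_, inM_injective (fu_ne hu0), fun s => ?_⟩
    · simp [Matrix.mulVec_mulVec, outL_inL, hu]
    · obtain ⟨x, hx, hxe⟩ := hS.root i (s • u) φ (by rw [dotProduct_smul, hu, smul_zero])
      refine ⟨E x, Subgroup.mem_map_of_mem _ hx, fun z => ?_⟩
      rw [hE, glEquiv_apply, hxe, ← inL_outL, inL_smul, Matrix.smul_mul, add_mulVec, one_mulVec, smul_mulVec,
        ← mulVec_mulVec]
      rfl
  have hq : Pair (H.map E.toMonoidHom) (G * inL i v).mulVecLin (outL i ψ * G').mulVecLin := by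
    refine ⟨fun z => ?_, ?_, fun s => ?_⟩
    · show (outL i ψ * G') *ᵥ ((G * inL i v) *ᵥ z) = 0
      rw [mulVec_mulVec, Matrix.mul_assoc, ← Matrix.mul_assoc G', hGG, Matrix.one_mul, outL_inL, hv, zero_smul,
        zero_mulVec]
    · intro x y hxy
      have h1 := congrArg (G' *ᵥ ·) hxy
      simp only [mulVecLin_apply, mulVec_mulVec, ← Matrix.mul_assoc, hGG, Matrix.one_mul] at h1
      exact inM_injective (fu_ne hv0) h1
    · obtain ⟨x, hx, hxe⟩ := hS.root (σ i) (s • v) ψ (by rw [dotProduct_smul, hv, smul_zero])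
      refine ⟨E (g₀ * x * g₀⁻¹), Subgroup.mem_map_of_mem _ (mul_mem (mul_mem hg₀ hx) (inv_mem hg₀)), fun z => ?_⟩
      have e : ((g₀ * x * g₀⁻¹ : GL (Fin t → Fin k) F) : Matrix (Fin t → Fin k) (Fin t → Fin k) F) =
          1 + s • (G * inL i v * (outL i ψ * G')) := by
        rw [Units.val_mul, Units.val_mul, hxe, ← permU_conj σ i, Matrix.mul_add, Matrix.add_mul, Matrix.mul_one,
          ← Units.val_mul, mul_inv_cancel, Units.val_one, smul_vecMulVec, sl_smul, ← inL_outL]
        simp only [G, G', hg, Units.val_mul, _root_.mul_inv_rev, Matrix.mul_assoc, Matrix.mul_smul, Matrix.smul_mul]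
      rw [hE, glEquiv_apply, e, add_mulVec, one_mulVec, smul_mulVec, ← mulVec_mulVec]
      rfl
  have hKmat : kK (inL i u).mulVecLin (outL i φ).mulVecLin (1 : ((Fin t → Fin k) → F) ≃ₗ[F] ((Fin t → Fin k) → F))
      (G * inL i v).mulVecLin (outL i ψ * G').mulVecLin =
      T (outL i φ * G * inL i v * (outL i ψ * G' * inL i u)) := by
    refine LinearMap.ext fun z => ?_
    show _ = _ *ᵥ z
    simp only [← mulVec_mulVec, kK, inv_one]
    show (outL i φ *ᵥ ((G * inL i v) *ᵥ ((outL i ψ * G') *ᵥ (inL i u *ᵥ z)))) = _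
    simp only [← mulVec_mulVec]
  let good : Module.End F ((Rst k i) → F) → Prop := fun a => ∀ κ : F, a ≠ algebraMap F _ κ
  rcases exc_or_scalar (H := H.map E.toMonoidHom) (Φ := Pair (H.map E.toMonoidHom)) (good := good)
    (fun K hK => OTensor.exists_good h2 K hK) (fun _ _ h => h) hp (g := 1)
    (one_mem _) hq with he | ⟨κ, hκ⟩
  · exfalso
    obtain ⟨_, ⟨h, hh, rfl⟩, g', -, i', iT', f, -, hgood, -, hi, hker⟩ := he
    rw [MulEquiv.coe_toMonoidHom] at hi hker
    set K := aeval (kK (inL i u).mulVecLin (outL i φ).mulVecLin g' i' iT') f with hKdef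
    obtain ⟨κ, hκ⟩ := hS.scalar_of_ker hR (φ := φ) hu0 hh (a := T.symm K)
      (Matrix.toLin'.injective (LinearMap.ext fun y => by
        simp only [Matrix.toLin'_apply, ← mulVec_mulVec]
        refine (hi y).trans ?_
        show inL i u *ᵥ (K y) = inL i u *ᵥ (T (T.symm K) y)
        rw [AlgEquiv.apply_symm_apply]))
      fun z hz => by
        have hcol : ∀ b, ∃ y, (h : Matrix (Fin t → Fin k) (Fin t → Fin k) F) *ᵥ (fun x => inL i z x b) =
            (fun x => inL i z x b) + inL i u *ᵥ y := fun b => by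
          obtain ⟨y, hy⟩ := hker (fun x => inL i z x b) (by
            funext y'
            have h1 := congrFun (congrFun (outL_inL (F := F) i z φ) y') b
            rw [hz, zero_smul] at h1
            exact h1)
          exact ⟨y, hy⟩
        choose y hy using hcol
        refine ⟨Matrix.of fun r b => y b r, Matrix.ext fun x b => ?_⟩
        exact congrFun (hy b) x
    exact hgood κ (show K = _ by
      rw [← T.apply_symm_apply K, hκ, map_smul, map_one, Algebra.algebraMap_eq_smul_one])
  · exact ⟨κ, T.injective (by rw [← hKmat, hκ, map_smul, map_one, Algebra.algebraMap_eq_smul_one])⟩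

end Cfsg.Agent.ClassicalMax.LWreath
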