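import Cfsg.Agent.ClassicalMax.LWreath.Basic

/-!
Groups with only scalar operators: the stabiliser of the image of a slot inclusion.
-/

set_option autoImplicit false
set_option linter.unusedSectionVars false

namespace Cfsg.Agent.ClassicalMax.LWreath

open Matrix Cfsg.Agent.ClassicalMax.TPow

variable {F : Type*} [Field F] {k t : ℕ} {H : Subgroup (GL (Fin t → Fin k) F)} {i : Fin t}

/-- all the operators are scalar -/
def Rigid (H : Subgroup (GL (Fin t → Fin k) F)) : Prop :=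
  ∀ (i : Fin t) (c : Matrix (Rst k i) (Rst k i) F), Lc H i c → ∃ κ : F, c = κ • (1 : Matrix (Rst k i) (Rst k i) F)

theorem exists_dual {u : Fin k → F} (hu : u ≠ 0) : ∃ ω : Fin k → F, ω ⬝ᵥ u = 1 := by
  obtain ⟨a, ha⟩ := Function.ne_iff.1 hu
  exact ⟨Pi.single a (u a)⁻¹, by rw [single_dotProduct, inv_mul_cancel₀ ha]⟩

theorem sum_inL_outL' (i : Fin t) {ν : Type} (Z : Matrix (Fin t → Fin k) ν F) :
    Z = ∑ a : Fin k, inL i (Pi.single a (1 : F)) * (outL i (Pi.single a (1 : F)) * Z) := by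
  conv_lhs => rw [← Matrix.one_mul Z, ← sum_inL_outL i, Matrix.sum_mul]
  exact Finset.sum_congr rfl fun a _ => Matrix.mul_assoc _ _ _

/-- a map killed by all functionals vanishing on a vector has its image in the slot subspace -/
theorem eq_inL {u ω : Fin k → F} (hω : ω ⬝ᵥ u = 1) {ν : Type} {Z : Matrix (Fin t → Fin k) ν F}
    (h : ∀ χ : Fin k → F, χ ⬝ᵥ u = 0 → outL i χ * Z = 0) : Z = inL i u * (outL i ω * Z) := by
  have key : ∀ χ, outL i χ * Z = (χ ⬝ᵥ u) • (outL i ω * Z) := fun χ => by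
    have h1 := h (χ - (χ ⬝ᵥ u) • ω) (by rw [sub_dotProduct, smul_dotProduct, hω, smul_eq_mul, mul_one, sub_self])
    rwa [sub_eq_add_neg, ← neg_smul, outL_add, outL_smul, Matrix.add_mul, Matrix.smul_mul, neg_smul,
      add_neg_eq_zero] at h1
  conv_lhs => rw [sum_inL_outL' i Z]
  conv_rhs => rw [sum_inL_outL' i (inL i u * (outL i ω * Z))]
  refine Finset.sum_congr rfl fun a _ => ?_
  rw [key, out_in_mul]

theorem outL_inj {φ φ' : Fin k → F} (h : outL i φ = outL i φ') [Nonempty (Rst k i)] : φ = φ' := by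
  funext a
  have h1 := congrArg (· * inL i (Pi.single a (1 : F))) h
  simp only [outL_inL, dotProduct_single_one] at h1
  have h2 := congrFun (congrFun h1 (Classical.arbitrary _)) (Classical.arbitrary _)
  simpa using h2

theorem nonempty_rst (hk : 0 < k) (i : Fin t) : Nonempty (Rst k i) := ⟨fun _ => ⟨0, hk⟩⟩

theorem stab_unit {u : Fin k → F} (hu : u ≠ 0) {h : GL (Fin t → Fin k) F} {a : Matrix (Rst k i) (Rst k i) F}
    (hi : (h : Matrix (Fin t → Fin k) (Fin t → Fin k) F) * inL i u = inL i u * a) :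
    IsUnit a.det ∧ ((h⁻¹ : GL (Fin t → Fin k) F) : Matrix (Fin t → Fin k) (Fin t → Fin k) F) * inL i u =
      inL i u * a⁻¹ := by
  obtain ⟨ω, hω⟩ := exists_dual hu
  have hinj : Function.Injective a.mulVec := fun x y hxy => by
    have h1 : (h : Matrix (Fin t → Fin k) (Fin t → Fin k) F) *ᵥ (inL i u *ᵥ x) =
        (h : Matrix (Fin t → Fin k) (Fin t → Fin k) F) *ᵥ (inL i u *ᵥ y) := by
      rw [mulVec_mulVec, mulVec_mulVec, hi, ← mulVec_mulVec, ← mulVec_mulVec, hxy]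
    have h2 := Matrix.mulVec_injective_of_isUnit ((Units.isUnit h)) h1
    have h3 := congrArg (outL i ω *ᵥ ·) h2
    simpa only [mulVec_mulVec, outL_inL, hω, one_smul, one_mulVec] using h3
  have hu' : IsUnit a.det := (isUnit_iff_isUnit_det a).1 (Matrix.mulVec_injective_iff_isUnit.1 hinj)
  refine ⟨hu', ?_⟩
  calc ((h⁻¹ : GL (Fin t → Fin k) F) : Matrix (Fin t → Fin k) (Fin t → Fin k) F) * inL i u
      = ((h⁻¹ : GL (Fin t → Fin k) F) : Matrix (Fin t → Fin k) (Fin t → Fin k) F) * (inL i u * a) * a⁻¹ := by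
        rw [Matrix.mul_assoc, Matrix.mul_assoc, mul_nonsing_inv _ hu', Matrix.mul_one]
    _ = inL i u * a⁻¹ := by
        rw [← hi, ← Matrix.mul_assoc, ← Units.val_mul, inv_mul_cancel, Units.val_one, Matrix.one_mul]

namespace Setting

variable (hS : Setting H) (hR : Rigid H)
include hS hR

theorem pc_scalar {u φ : Fin k → F} {c : Matrix (Rst k i) (Rst k i) F} (hu : u ≠ 0) (hφ : φ ≠ 0)
    (h : φ ⬝ᵥ u = 0) (hc : Pc H i u φ c) : ∃ κ : F, c = κ • (1 : Matrix (Rst k i) (Rst k i) F) :=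
  hR i c (hS.lc_of_pc hu hφ h hc)

/-- an operator with scalar components is a slot contraction -/
theorem outL_of_pc {u : Fin k → F} (hu : u ≠ 0) {Λ : Matrix (Rst k i) (Fin t → Fin k) F}
    (hΛ : Λ * inL i u = 0) (hpc : ∀ v ψ : Fin k → F, ψ ⬝ᵥ u = 0 → ψ ⬝ᵥ v = 0 → Pc H i u ψ (Λ * inL i v)) :
    ∃ χ : Fin k → F, χ ⬝ᵥ u = 0 ∧ Λ = outL i χ := by
  haveI := nonempty_rst (k := k) (le_trans (by omega) hS.dim) i
  have hsc : ∀ v : Fin k → F, ∃ κ : F, Λ * inL i v = κ • (1 : Matrix (Rst k i) (Rst k i) F) := fun v => by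
    obtain ⟨ψ, hψ0, hψu, hψv⟩ := exists_perp hS.dim u v
    exact hS.pc_scalar hR hu hψ0 hψu (hpc v ψ hψu hψv)
  choose κ hκ using fun a : Fin k => hsc (Pi.single a 1)
  have hΛe : Λ = outL i κ := by
    have e1 : Λ = ∑ a : Fin k, (Λ * inL i (Pi.single a (1 : F)) : Matrix (Rst k i) (Rst k i) F) * outL i (Pi.single a (1 : F)) := by
      conv_lhs => rw [← Matrix.mul_one Λ, ← sum_inL_outL i, Matrix.mul_sum]
      exact Finset.sum_congr rfl fun a _ => (Matrix.mul_assoc _ _ _).symm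
    rw [e1]
    have e2 : κ = ∑ a, κ a • (Pi.single a 1 : Fin k → F) := by
      funext b
      simp [Finset.sum_apply, Pi.single_apply]
    conv_rhs => rw [e2]
    let f : (Fin k → F) →+ Matrix (Rst k i) (Fin t → Fin k) F := AddMonoidHom.mk' (outL i) (outL_add i)
    show _ = f _
    rw [map_sum]
    refine Finset.sum_congr rfl fun a _ => ?_
    rw [hκ, Matrix.smul_mul, Matrix.one_mul]
    exact (outL_smul i _ _).symm
  refine ⟨κ, ?_, hΛe⟩
  rw [hΛe, outL_inL, smul_eq_zero] at hΛ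
  exact hΛ.resolve_right one_ne_zero

/-- the translations fixing a slot subspace and the quotient are slot root elements -/
theorem translation {u : Fin k → F} (hu : u ≠ 0) {Λ : Matrix (Rst k i) (Fin t → Fin k) F}
    (hΛ : Λ * inL i u = 0) (hT : InH H (1 + inL i u * Λ)) :
    ∃ χ : Fin k → F, χ ⬝ᵥ u = 0 ∧ Λ = outL i χ := by
  refine hS.outL_of_pc hR hu hΛ fun v ψ hψu hψv => ?_
  set Z := sl i (vecMulVec v ψ) with hZ
  obtain ⟨g, hg, ge⟩ := hS.root i v ψ hψv
  have hZZ : Z * Z = 0 := by rw [hZ, sl_mul, vecMulVec_mul_vecMulVec, hψv, zero_smul, vecMulVec_zero, sl_zero]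
  have gi := inv_val_eq ge hZZ
  have hgu : (g : Matrix (Fin t → Fin k) (Fin t → Fin k) F) * inL i u = inL i u := by
    rw [ge, Matrix.add_mul, Matrix.one_mul, sl_mul_inL, vecMulVec_mulVec, hψu, MulOpposite.op_zero, zero_smul,
      inL_zero, add_zero]
  have h1 := InH.conj hT (inv_mem hg)
  have hgu' : ((g⁻¹ : GL (Fin t → Fin k) F) : Matrix (Fin t → Fin k) (Fin t → Fin k) F) * inL i u = inL i u := by
    conv_lhs => rw [← hgu, ← Matrix.mul_assoc, ← Units.val_mul, inv_mul_cancel, Units.val_one, Matrix.one_mul]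
  rw [inv_inv, ← Matrix.mul_assoc ((g⁻¹ : GL (Fin t → Fin k) F) : Matrix (Fin t → Fin k) (Fin t → Fin k) F), hgu',
    Matrix.mul_assoc] at h1
  -- the inverse of the translation
  obtain ⟨a, ha, ea⟩ := hT
  have hsq : inL i u * Λ * (inL i u * Λ) = 0 := by
    rw [Matrix.mul_assoc, ← Matrix.mul_assoc Λ, hΛ, Matrix.zero_mul, Matrix.mul_zero]
  have hneg : InH H (1 + -(inL i u * Λ)) := ⟨a⁻¹, inv_mem ha, by rw [inv_val_eq ea hsq, sub_eq_add_neg]⟩
  have h2 := InH.add h1 hneg (by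
    rw [mul_neg, neg_eq_zero, Matrix.mul_assoc, Matrix.mul_assoc Λ, ← Matrix.mul_assoc _ (inL i u) Λ, hgu,
      ← Matrix.mul_assoc Λ, hΛ, Matrix.zero_mul, Matrix.mul_zero])
  rw [Pc]
  refine cast (congrArg (fun Z' => InH H (1 + Z')) ?_) h2
  rw [ge, Matrix.mul_add, Matrix.mul_one, Matrix.mul_add, add_comm (inL i u * Λ), add_neg_cancel_right,
    ← inL_outL]
  simp only [Matrix.mul_assoc]

/-- an element preserving a slot subspace acts on the quotient through the slot -/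
theorem stab {u φ : Fin k → F} (hu : u ≠ 0) (hφ : φ ⬝ᵥ u = 0) {h : GL (Fin t → Fin k) F} (hh : h ∈ H)
    {a : Matrix (Rst k i) (Rst k i) F}
    (hi : (h : Matrix (Fin t → Fin k) (Fin t → Fin k) F) * inL i u = inL i u * a) :
    ∃ χ : Fin k → F, χ ⬝ᵥ u = 0 ∧ outL i φ * (h : Matrix (Fin t → Fin k) (Fin t → Fin k) F) = a * outL i χ := by
  obtain ⟨hua, hi'⟩ := stab_unit hu hi
  set M : Matrix (Fin t → Fin k) (Fin t → Fin k) F := (h : Matrix (Fin t → Fin k) (Fin t → Fin k) F)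
  have h1 := InH.conj (hS.root i u φ hφ) (inv_mem hh)
  rw [inv_inv, ← inL_outL, ← Matrix.mul_assoc, hi'] at h1
  obtain ⟨χ, hχ, e⟩ := hS.translation hR hu (i := i) (Λ := a⁻¹ * outL i φ * M) (by
    rw [Matrix.mul_assoc _ M, hi, ← Matrix.mul_assoc, Matrix.mul_assoc a⁻¹, outL_inL, hφ, zero_smul, Matrix.mul_zero,
      Matrix.zero_mul]) (by simpa only [Matrix.mul_assoc] using h1)
  exact ⟨χ, hχ, by rw [← e, ← Matrix.mul_assoc, ← Matrix.mul_assoc, mul_nonsing_inv _ hua, Matrix.one_mul]⟩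

/-- an element preserving a slot subspace and trivial on the quotient of a root kernel has scalar restriction -/
theorem scalar_of_ker {u φ : Fin k → F} (hu : u ≠ 0) {h : GL (Fin t → Fin k) F} (hh : h ∈ H)
    {a : Matrix (Rst k i) (Rst k i) F}
    (hi : (h : Matrix (Fin t → Fin k) (Fin t → Fin k) F) * inL i u = inL i u * a)
    (hker : ∀ w : Fin k → F, φ ⬝ᵥ w = 0 →
      ∃ P : Matrix (Rst k i) (Rst k i) F, (h : Matrix (Fin t → Fin k) (Fin t → Fin k) F) * inL i w = inL i w + inL i u * P) :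
    ∃ κ : F, a = κ • (1 : Matrix (Rst k i) (Rst k i) F) := by
  haveI := nonempty_rst (k := k) (le_trans (by omega) hS.dim) i
  obtain ⟨χ, hχu, hχ0, hχ⟩ := exists_perp_off hS.dim u φ
  obtain ⟨w, hw1, hw2⟩ := exists_dot hχ
  obtain ⟨χ', -, e⟩ := hS.stab hR hu hχu hh hi
  obtain ⟨P, hP⟩ := hker w hw1
  have h1 : outL i χ * (h : Matrix (Fin t → Fin k) (Fin t → Fin k) F) * inL i w = a * outL i χ' * inL i w := by rw [e]
  rw [Matrix.mul_assoc, hP, Matrix.mul_add, outL_inL, hw2, one_smul, out_in_mul, hχu, zero_smul, add_zero,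
    Matrix.mul_assoc, outL_inL, Matrix.mul_smul, Matrix.mul_one] at h1
  exact ⟨(χ' ⬝ᵥ w)⁻¹, by
    have hne : χ' ⬝ᵥ w ≠ 0 := fun e0 => by
      rw [e0, zero_smul] at h1
      exact one_ne_zero h1
    rw [h1, inv_smul_smul₀ hne]⟩

end Setting

end Cfsg.Agent.ClassicalMax.LWreath
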