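import Cfsg.Agent.ClassicalMax.LWreath.Two
import Cfsg.Agent.ClassicalMax.LWreath.Alg

/-!
Characteristic two: a compressed operator of a moved root involution with square zero is zero.
-/

set_option autoImplicit false
set_option linter.unusedSectionVars false

namespace Cfsg.Agent.ClassicalMax.LWreath

open Matrix Cfsg.Agent.ClassicalMax.TPow

variable {F : Type*} [Field F] {k t : ℕ} {H : Subgroup (GL (Fin t → Fin k) F)} {i : Fin t}

theorem card_indices (i : Fin t) : Fintype.card (Fin t → Fin k) = k * Fintype.card (Rst k i) := by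
  rw [Fintype.card_congr (split (κ := Fin k) (at1_inj i)), Fintype.card_prod]
  congr 1
  rw [Fintype.card_fun, Fintype.card_fin, Fintype.card_fin, pow_one]

theorem right_inverse_moved {g : GL (Fin t → Fin k) F} {ψ w : Fin k → F} (hw : ψ ⬝ᵥ w = 1) :
    outL i ψ * ((g⁻¹ : GL (Fin t → Fin k) F) : Matrix (Fin t → Fin k) (Fin t → Fin k) F) *
      ((g : Matrix (Fin t → Fin k) (Fin t → Fin k) F) * inL i w) = (1 : Matrix (Rst k i) (Rst k i) F) := by
  rw [Matrix.mul_assoc, ← Matrix.mul_assoc _ (g : Matrix (Fin t → Fin k) (Fin t → Fin k) F), ← Units.val_mul,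
    inv_mul_cancel, Units.val_one, Matrix.one_mul, outL_inL, hw, one_smul]

theorem vec3_span {v w f δ ψ : Fin 3 → F} {χ ω : Fin 3 → F} (hω : ω ⬝ᵥ v = 1) (hχv : χ ⬝ᵥ v = 0) (hχw : χ ⬝ᵥ w = 1)
    (hψv : ψ ⬝ᵥ v = 0) (hψw : ψ ⬝ᵥ w = 0) (hψf : ψ ⬝ᵥ f = 1) (h0 : δ ⬝ᵥ v = 0) (h1 : δ ⬝ᵥ w = 0) :
    δ = (δ ⬝ᵥ f) • ψ := by
  set L : (Fin 3 → F) →ₗ[F] (Fin 3 → F) :=
    { toFun := fun φ => ![φ ⬝ᵥ v, φ ⬝ᵥ w, φ ⬝ᵥ f]
      map_add' := fun a b => by ext j; fin_cases j <;> simp [add_dotProduct]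
      map_smul' := fun c a => by ext j; fin_cases j <;> simp } with hL
  have hsurj : Function.Surjective L := fun y => by
    let χ' := χ - (χ ⬝ᵥ f) • ψ
    let ω' := ω - (ω ⬝ᵥ w) • χ' - (ω ⬝ᵥ f) • ψ
    refine ⟨y 0 • ω' + y 1 • χ' + y 2 • ψ, ?_⟩
    ext j
    fin_cases j <;> simp [hL, χ', ω', add_dotProduct, sub_dotProduct, smul_dotProduct, hω, hχv, hχw, hψv, hψw, hψf]
  refine LinearMap.injective_iff_surjective.2 hsurj ?_
  ext j
  fin_cases j <;> simp [hL, smul_dotProduct, h0, h1, hψv, hψw, hψf]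

variable (hS : Setting H) (hR : Rigid H) (h2 : (2 : F) = 0)
include hS hR h2

/-- the slot algebra is moved into the other slots -/
theorem slot_swap {γ : GL (Fin t → Fin k) F} (hγ : γ ∈ H) (hγγ : γ⁻¹ = γ) {u φ : Fin k → F} (hu0 : u ≠ 0)
    (hφ0 : φ ≠ 0) (hu : φ ⬝ᵥ u = 0) {N : Matrix (Rst k i) (Rst k i) F}
    (hZ : (γ : Matrix (Fin t → Fin k) (Fin t → Fin k) F) * inL i u * (outL i φ *
      (γ : Matrix (Fin t → Fin k) (Fin t → Fin k) F)) = ext i N)
    (A : Matrix (Fin k) (Fin k) F) : ∃ N' : Matrix (Rst k i) (Rst k i) F,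
      (γ : Matrix (Fin t → Fin k) (Fin t → Fin k) F) * sl i A * (γ : Matrix (Fin t → Fin k) (Fin t → Fin k) F) =
        ext i N' := by
  classical
  haveI := nonempty_rst (k := k) (le_trans (by omega) hS.dim) i
  set G : Matrix (Fin t → Fin k) (Fin t → Fin k) F := (γ : Matrix (Fin t → Fin k) (Fin t → Fin k) F) with hG
  have hGG : G * G = 1 := by
    calc G * G = G * ((γ⁻¹ : GL (Fin t → Fin k) F) : Matrix (Fin t → Fin k) (Fin t → Fin k) F) := by rw [hγγ]
      _ = 1 := by rw [hG, ← Units.val_mul, mul_inv_cancel, Units.val_one]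
  set X := inL i u * outL i φ with hX
  have hXJ : ∀ A, X * (G * sl i A * G) = G * sl i A * G * X := fun A => by
    have eX : X = G * ext i N * G := by
      rw [← hZ, hX]
      simp only [← Matrix.mul_assoc, hGG, Matrix.one_mul]
      rw [Matrix.mul_assoc _ G G, hGG, Matrix.mul_one]
    rw [eX]
    simp only [mul_assoc, ← mul_assoc G G, hGG, one_mul]
    rw [← mul_assoc (ext i N), (ext_commute i N A).eq, mul_assoc]
  obtain ⟨w, hw⟩ := exists_right hφ0
  let P : Matrix (Fin k) (Fin k) F → Prop := fun A =>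
    ∃ N' : Matrix (Rst k i) (Rst k i) F, G * sl i A * G = ext i N'
  have hP0 : P 0 := ⟨0, by
    rw [sl_zero, mul_zero, zero_mul, ← zero_smul F (0 : Matrix (Rst k i) (Rst k i) F), ext_smul, zero_smul]⟩
  have hPa : ∀ A B, P A → P B → P (A + B) := fun A B ⟨M, hM⟩ ⟨M', hM'⟩ =>
    ⟨M + M', by rw [sl_add, mul_add, add_mul, hM, hM', ext_add]⟩
  have hPs : ∀ (c : F) A, P A → P (c • A) := fun c A ⟨M, hM⟩ =>
    ⟨c • M, by rw [sl_smul, mul_smul_comm, smul_mul_assoc, hM, ext_smul]⟩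
  have hPm : ∀ A B, P A → P B → P (A * B) := fun A B ⟨M, hM⟩ ⟨M', hM'⟩ =>
    ⟨M * M', by rw [ext_mul, ← hM, ← hM', ← sl_mul]; simp only [mul_assoc, ← mul_assoc G G, hGG, one_mul]⟩
  -- a functional not killing the moved subspace gives a crossing element
  have hcross : ∀ v ψ : Fin k → F, ψ ⬝ᵥ v = 0 → v ≠ 0 → outL i ψ * (G * inL i u) ≠ 0 → P (vecMulVec v ψ) := by
    intro v ψ hv hv0 hne
    set J := G * sl i (vecMulVec v ψ) * G with hJ
    have hJe : J = G * inL i v * (outL i ψ * G) := by rw [hJ, ← inL_outL]; simp only [Matrix.mul_assoc]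
    have hJu : J * inL i u = inL i u * (outL i φ * (J * inL i w)) := by
      have h1 : X * J * inL i w = J * X * inL i w := by rw [hXJ]
      rw [hX] at h1
      simp only [Matrix.mul_assoc, outL_inL, hw, one_smul, Matrix.mul_one] at h1
      exact h1.symm
    refine ⟨_, cross hS hR h2 hγ hu0 hv (Z := J) ?_ hJu fun e => hne ?_⟩
    · rw [hγγ, hJe]
    · rw [e, Matrix.mul_zero, hJe] at hJu
      have h1 : G * inL i v * (outL i ψ * (G * inL i u)) = 0 := by
        rw [← hJu]; simp only [Matrix.mul_assoc]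
      have h3 := congrArg (G * ·) h1
      simp only [Matrix.mul_assoc, ← Matrix.mul_assoc G G, hGG, Matrix.one_mul, Matrix.mul_zero] at h3
      exact inL_cancel (i := i) hv0 (by rw [h3, Matrix.mul_zero])
  have hroot : ∀ v ψ : Fin k → F, ψ ⬝ᵥ v = 0 → P (vecMulVec v ψ) := by
    intro v ψ hv
    by_cases hv0 : v = 0
    · rw [hv0, zero_vecMulVec]; exact hP0
    by_cases hψ : outL i ψ * (G * inL i u) = 0
    swap
    · exact hcross v ψ hv hv0 hψ
    have hvia : ∀ v' : Fin k → F, v' ≠ 0 → ψ ⬝ᵥ v' = 0 →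
        (∃ ψ', ψ' ⬝ᵥ v' = 0 ∧ outL i ψ' * (G * inL i u) ≠ 0) → P (vecMulVec v' ψ) := by
      rintro v' hv'0 hv' ⟨ψ', hψ'v, hψ'⟩
      have h1 := hcross v' (ψ + ψ') (by rw [add_dotProduct, hv', hψ'v, add_zero]) hv'0
        (by rwa [outL_add, Matrix.add_mul, hψ, zero_add])
      have h3 := hPa _ _ h1 (hPs (-1) _ (hcross v' ψ' hψ'v hv'0 hψ'))
      rwa [vecMulVec_add, neg_one_smul, add_neg_cancel_right] at h3
    by_cases hex : ∃ ψ', ψ' ⬝ᵥ v = 0 ∧ outL i ψ' * (G * inL i u) ≠ 0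
    · exact hvia v hv0 hv hex
    push Not at hex
    have hout : ∀ χ : Fin k → F, χ ⬝ᵥ v ≠ 0 → outL i χ * (G * inL i u) ≠ 0 := fun χ hχ e => by
      have hall : ∀ ξ : Fin k → F, outL i ξ * (G * inL i u) = 0 := fun ξ => by
        have h1 := hex (ξ + (-((ξ ⬝ᵥ v) / (χ ⬝ᵥ v))) • χ) (by
          rw [add_dotProduct, smul_dotProduct, smul_eq_mul, neg_mul, div_mul_cancel₀ _ hχ, add_neg_cancel])
        rwa [outL_add, outL_smul, Matrix.add_mul, Matrix.smul_mul, e, smul_zero, add_zero] at h1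
      have h2' : G * inL i u = 0 := by
        rw [sum_inL_outL' i (G * inL i u)]
        exact Finset.sum_eq_zero fun a _ => by rw [hall, Matrix.mul_zero]
      have h3 : inL i u * (1 : Matrix (Rst k i) (Rst k i) F) = inL i u * (0 : Matrix (Rst k i) (Rst k i) F) := by
        rw [Matrix.mul_one, Matrix.mul_zero, ← Matrix.one_mul (inL i u), ← hGG, Matrix.mul_assoc, h2', Matrix.mul_zero]
        
      exact one_ne_zero (inL_cancel (i := i) hu0 h3)
    obtain ⟨v', hv'ψ, hv'0, hv'⟩ := exists_perp_off hS.dim ψ v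
    rw [dotProduct_comm] at hv'ψ
    have hfun : ∀ z : Fin k → F, (∀ c : F, z ≠ c • v) → ∃ ψ', ψ' ⬝ᵥ z = 0 ∧ outL i ψ' * (G * inL i u) ≠ 0 := fun z hz => by
      obtain ⟨ψ', h1, h3⟩ := exists_dot (φ := v) (ψ := z) fun c e => by
        by_cases hc : c = 0
        · exact hv0 (by rw [e, hc, zero_smul])
        · exact hz c⁻¹ (by rw [e, inv_smul_smul₀ hc])
      exact ⟨ψ', by rw [dotProduct_comm, h1], hout ψ' (by rw [dotProduct_comm, h3]; exact one_ne_zero)⟩
    have e1 : ∀ c : F, v + v' ≠ c • v := fun c e => hv' (c - 1) (by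
      rw [sub_smul, one_smul, ← e, add_sub_cancel_left])
    have h1 := hvia (v + v') (fun e => e1 0 (by rw [e, zero_smul])) (by rw [dotProduct_add, hv, hv'ψ, add_zero])
      (hfun _ e1)
    have h3 := hPa _ _ h1 (hPs (-1) _ (hvia v' hv'0 hv'ψ (hfun v' hv')))
    rwa [add_vecMulVec, neg_one_smul, add_neg_cancel_right] at h3
  induction A using Matrix.induction_on' with
  | h_zero => exact hP0
  | h_add p q hp hq => exact hPa p q hp hq
  | h_std_basis a b x =>
    rw [show Matrix.single a b x = x • Matrix.single a b (1 : F) by rw [Matrix.smul_single, smul_eq_mul, mul_one]]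
    refine hPs x _ ?_
    have hoff : ∀ a b : Fin k, a ≠ b → P (Matrix.single a b 1) := fun a b hab => by
      rw [single_eq]
      exact hroot _ _ (by rw [dotProduct_single_one, Pi.single_eq_of_ne hab])
    rcases eq_or_ne a b with rfl | hab
    · obtain ⟨d, hd, -⟩ := exists_third hS.dim a a
      rw [show Matrix.single a a (1 : F) = Matrix.single a d 1 * Matrix.single d a 1 by
        rw [single_mul_single_same, mul_one]]
      exact hPm _ _ (hoff a d (Ne.symm hd)) (hoff d a hd)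
    · exact hoff a b hab

open Fin.NatCast in
/-- such an element exists only in small dimension -/
theorem swap_dim {g : GL (Fin t → Fin k) F} {v ψ : Fin k → F}
    {G : Matrix (Fin t → Fin k) (Fin t → Fin k) F}
    (hG : G = 1 + (g : Matrix (Fin t → Fin k) (Fin t → Fin k) F) * inL i v *
      (outL i ψ * ((g⁻¹ : GL (Fin t → Fin k) F) : Matrix (Fin t → Fin k) (Fin t → Fin k) F)))
    (hsl : ∀ A, ∃ N' : Matrix (Rst k i) (Rst k i) F, G * sl i A * G = ext i N') : k ≤ 3 := by
  classical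
  have hk : 0 < k := le_trans (by omega) hS.dim
  haveI := nonempty_rst hk i
  haveI : NeZero k := ⟨hk.ne'⟩
  set T : Matrix (Rst k i) (Fin t → Fin k) F :=
    outL i ψ * ((g⁻¹ : GL (Fin t → Fin k) F) : Matrix (Fin t → Fin k) (Fin t → Fin k) F)
  set C : Matrix (Fin k) (Fin k) F := Matrix.of fun a b => if b = a + 1 then 1 else 0 with hC
  obtain ⟨N, hN⟩ := hsl C
  let L : ((Fin t → Fin k) → F) →ₗ[F] ((Rst k i) → F) × ((Rst k i) → F) × ((Rst k i) → F) :=
    (T.mulVecLin).prod ((T * sl i C).mulVecLin.prod (outL i (Pi.single 0 1 : Fin k → F)).mulVecLin)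
  have hinj : Function.Injective L := by
    rw [injective_iff_map_eq_zero]
    intro z hz
    have hTz : T *ᵥ z = 0 := congrArg Prod.fst hz
    have hTCz : T *ᵥ (sl i C *ᵥ z) = 0 := by
      rw [mulVec_mulVec]; exact congrArg (fun p => p.2.1) hz
    have hfix : ∀ y, T *ᵥ y = 0 → G *ᵥ y = y := fun y hy => by
      rw [hG, add_mulVec, one_mulVec, ← mulVec_mulVec, hy, mulVec_zero, add_zero]
    have hCz : sl i C *ᵥ z = ext i N *ᵥ z := by
      rw [← hN, ← mulVec_mulVec, ← mulVec_mulVec, hfix z hTz, hfix _ hTCz]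
    have hstep : ∀ a : Fin k, outL i (Pi.single (a + 1) (1 : F)) *ᵥ z = N *ᵥ (outL i (Pi.single a (1 : F)) *ᵥ z) := fun a => by
      have e : (Pi.single a (1 : F) : Fin k → F) ᵥ* C = Pi.single (a + 1) 1 := by
        funext b
        rw [single_one_vecMul, hC, Matrix.row_apply, Matrix.of_apply, Pi.single_apply]
      rw [← e, ← outL_mul_sl, ← mulVec_mulVec, hCz, mulVec_mulVec, outL_mul_ext, mulVec_mulVec]
    have hall : ∀ n : ℕ, outL i (Pi.single ((n : Fin k)) (1 : F)) *ᵥ z = 0 := fun n => by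
      induction n with
      | zero =>
        rw [Nat.cast_zero]
        exact congrArg (fun p => p.2.2) hz
      | succ n ih => rw [Nat.cast_succ, hstep, ih, mulVec_zero]
    rw [← one_mulVec z, ← sum_inL_outL i, sum_mulVec]
    exact Finset.sum_eq_zero fun a _ => by rw [← mulVec_mulVec, ← Fin.cast_val_eq_self a, hall, mulVec_zero]
  have h1 := LinearMap.finrank_le_finrank_of_injective hinj
  rw [Module.finrank_prod, Module.finrank_prod, Module.finrank_fintype_fun_eq_card,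
    Module.finrank_fintype_fun_eq_card, card_indices i] at h1
  have hc : 0 < Fintype.card (Rst k i) := Fintype.card_pos
  by_contra h
  have : 4 * Fintype.card (Rst k i) ≤ k * Fintype.card (Rst k i) := Nat.mul_le_mul_right _ (by omega)
  omega

end Cfsg.Agent.ClassicalMax.LWreath
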