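import Cfsg.Agent.ClassicalMax.LWreath.Swap

/-!
Characteristic two, slots of dimension three: no root involution exchanges a slot with the others; hence compressed
operators with square zero vanish.
-/

set_option autoImplicit false
set_option linter.unusedSectionVars false

namespace Cfsg.Agent.ClassicalMax.LWreath

open Matrix Cfsg.Agent.ClassicalMax.TPow

variable {F : Type*} [Field F] {k t : ℕ} {H : Subgroup (GL (Fin t → Fin k) F)} {i : Fin t}

theorem E_inL_same (i : Fin t) (a b : Fin k) :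
    (E i a b : Matrix (Fin t → Fin k) (Fin t → Fin k) F) * inL i (Pi.single b (1 : F)) = inL i (Pi.single a (1 : F)) := by
  rw [E, sl_mul_inL, mulVec_single_one]
  congr 1
  funext x
  simp [Matrix.single_apply, Pi.single_apply, eq_comm]

theorem E_inL_ne (i : Fin t) (a : Fin k) {b c : Fin k} (h : b ≠ c) :
    (E i a b : Matrix (Fin t → Fin k) (Fin t → Fin k) F) * inL i (Pi.single c (1 : F)) = 0 := by
  rw [E, sl_mul_inL, mulVec_single_one, show (Matrix.single a b (1 : F)).col c = 0 from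
    funext fun x => by simp [Matrix.single_apply, h], inL_zero]

section Three

variable {H : Subgroup (GL (Fin t → Fin 3) F)}

/-- the impossible configuration -/
theorem swap_three (hS : Setting H) (hR : Rigid H) (h2 : (2 : F) = 0) {g : GL (Fin t → Fin 3) F} (hg : g ∈ H)
    {v ψ : Fin 3 → F} (hv0 : v ≠ 0) (hψ0 : ψ ≠ 0) (hv : ψ ⬝ᵥ v = 0)
    {G : Matrix (Fin t → Fin 3) (Fin t → Fin 3) F}
    (hG : G = 1 + (g : Matrix (Fin t → Fin 3) (Fin t → Fin 3) F) * inL i v *
      (outL i ψ * ((g⁻¹ : GL (Fin t → Fin 3) F) : Matrix (Fin t → Fin 3) (Fin t → Fin 3) F)))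
    (hsl : ∀ A, ∃ N' : Matrix (Rst 3 i) (Rst 3 i) F, G * sl i A * G = ext i N') : False := by
  classical
  haveI := nonempty_rst (k := 3) (by omega) i
  set P : Matrix (Fin t → Fin 3) (Rst 3 i) F := (g : Matrix (Fin t → Fin 3) (Fin t → Fin 3) F) * inL i v with hP
  set G₀ : Matrix (Fin t → Fin 3) (Fin t → Fin 3) F :=
    ((g⁻¹ : GL (Fin t → Fin 3) F) : Matrix (Fin t → Fin 3) (Fin t → Fin 3) F) with hG₀
  set T : Matrix (Rst 3 i) (Fin t → Fin 3) F := outL i ψ * G₀ with hT
  have hGg : G₀ * (g : Matrix (Fin t → Fin 3) (Fin t → Fin 3) F) = 1 := by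
    rw [hG₀, ← Units.val_mul, inv_mul_cancel, Units.val_one]
  have hsq : P * T * (P * T) = 0 := moved_sq g hv
  have hGG : G * G = 1 := by rw [hG]; exact mem_of_sq_one h2 hsq
  choose θ hθ using hsl
  let e : Fin 3 → Fin 3 → Matrix (Fin t → Fin 3) (Fin t → Fin 3) F := fun a b => E i a b
  let th : Fin 3 → Fin 3 → Matrix (Rst 3 i) (Rst 3 i) F := fun a b => θ (Matrix.single a b 1)
  let f : Fin 3 → Fin 3 → Matrix (Fin t → Fin 3) (Fin t → Fin 3) F := fun a b => ext i (th a b)
  have hf : ∀ a b, G * e a b * G = f a b := fun a b => hθ _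
  have hGe : ∀ a b, G * e a b = f a b * G := fun a b => by rw [← hf, mul_assoc _ G G, hGG, mul_one]
  have heG : ∀ a b, e a b * G = G * f a b := fun a b => by rw [← hf, ← mul_assoc, ← mul_assoc, hGG, one_mul]
  have hfG : ∀ a b, f a b * G = G * e a b := fun a b => (hGe a b).symm
  have hGf : ∀ a b, G * f a b = e a b * G := fun a b => (heG a b).symm
  have hef : ∀ a b c d, e a b * f c d = f c d * e a b := fun a b c d => ((ext_commute i _ _).eq).symm
  have fsame : ∀ a b c, f a b * f b c = f a c := fun a b c => by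
    rw [← hf, ← hf, ← hf]
    simp only [mul_assoc, ← mul_assoc G G, hGG, one_mul, ← mul_assoc (e a b) (e b c), e, E_mul_same]
  have fne : ∀ a d {b c : Fin 3}, b ≠ c → f a b * f c d = 0 := fun a d b c h => by
    rw [← hf, ← hf]
    simp only [mul_assoc, ← mul_assoc G G, hGG, one_mul, ← mul_assoc (e a b) (e c d), e, E_mul_ne i a d h, zero_mul,
      mul_zero]
  have thsame : ∀ a b c, th a b * th b c = th a c := fun a b c =>
    ext_injective (by omega) (by rw [ext_mul]; exact fsame a b c)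
  have thne : ∀ a d {b c : Fin 3}, b ≠ c → th a b * th c d = 0 := fun a d b c h =>
    ext_injective (by omega) (by
      rw [ext_mul, ← zero_smul F (0 : Matrix (Rst 3 i) (Rst 3 i) F), ext_smul, zero_smul]; exact fne a d h)
  have thsum : th 0 0 + th 1 1 + th 2 2 = 1 := ext_injective (i := i) (by omega) (by
    rw [ext_add, ext_add, ext_one]
    show f 0 0 + f 1 1 + f 2 2 = 1
    rw [← hf, ← hf, ← hf, ← add_mul, ← add_mul, ← mul_add, ← mul_add]
    have := sum_E (F := F) (k := 3) i
    rw [Fin.sum_univ_three] at this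
    simp only [e, this, mul_one, hGG])
  have hfin : ∀ a b c, f a b * (inL i (Pi.single c (1 : F)) : Matrix (Fin t → Fin 3) (Rst 3 i) F) = (inL i (Pi.single c (1 : F)) : Matrix (Fin t → Fin 3) (Rst 3 i) F) * th a b := fun a b c =>
    ext_mul_inL i _ _
  obtain ⟨w', hw'⟩ := exists_right hψ0
  have hTP' : T * ((g : Matrix (Fin t → Fin 3) (Fin t → Fin 3) F) * inL i w') = (1 : Matrix (Rst 3 i) (Rst 3 i) F) :=
    right_inverse_moved hw'
  obtain ⟨ω, hω⟩ := exists_dual hv0
  have hLP : outL i ω * G₀ * P = (1 : Matrix (Rst 3 i) (Rst 3 i) F) := by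
    rw [hP, Matrix.mul_assoc, ← Matrix.mul_assoc G₀, hGg, Matrix.one_mul, outL_inL, hω, one_smul]
  have hY : 1 + G = P * T := by rw [hG, ← add_assoc, dbl h2, zero_add]
  have hQG : ∀ a, e a a * f a a * G = G * (e a a * f a a) := fun a => by
    rw [mul_assoc, hfG, ← mul_assoc, heG, mul_assoc, hef]
  -- a parametrisation of the moved subspace
  set Wm : Matrix (Fin t → Fin 3) (Rst 3 i) F :=
    (inL i (Pi.single 0 (1 : F)) : Matrix (Fin t → Fin 3) (Rst 3 i) F) * (th 1 1 + th 2 2) + (inL i (Pi.single 1 (1 : F)) : Matrix (Fin t → Fin 3) (Rst 3 i) F) * th 2 0 with hWm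
  have hefW : ∀ x x' y y' : Fin 3, e x x' * f y y' * Wm =
      (if x' = 0 then (inL i (Pi.single x (1 : F)) : Matrix (Fin t → Fin 3) (Rst 3 i) F) * (th y y' * (th 1 1 + th 2 2))
        else (0 : Matrix (Fin t → Fin 3) (Rst 3 i) F)) +
        (if x' = 1 then (inL i (Pi.single x (1 : F)) : Matrix (Fin t → Fin 3) (Rst 3 i) F) * (th y y' * th 2 0)
        else (0 : Matrix (Fin t → Fin 3) (Rst 3 i) F)) := by
    intro x x' y y'
    rw [hWm, Matrix.mul_assoc (e x x'), Matrix.mul_add (f y y'), ← Matrix.mul_assoc (f y y'), ← Matrix.mul_assoc (f y y'),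
      hfin, hfin, Matrix.mul_add (e x x'), Matrix.mul_assoc (inL i _) (th y y'), Matrix.mul_assoc (inL i _) (th y y'),
      ← Matrix.mul_assoc (e x x'), ← Matrix.mul_assoc (e x x')]
    congr 1
    · split_ifs with h
      · subst h; rw [E_inL_same]
      · rw [E_inL_ne i x h, Matrix.zero_mul]
    · split_ifs with h
      · subst h; rw [E_inL_same]
      · rw [E_inL_ne i x h, Matrix.zero_mul]
  have hproj : ∀ x y : Fin 3, e x x * f y y * (P * T * Wm) = e x x * f y y * Wm + G * (e y y * f x x * Wm) := fun x y => by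
    rw [← hY, Matrix.add_mul, Matrix.one_mul, Matrix.mul_add]
    congr 1
    rw [← Matrix.mul_assoc, mul_assoc (e x x) (f y y) G, hfG, ← mul_assoc, heG, mul_assoc G, ← hef, Matrix.mul_assoc]
  have hM : IsUnit (T * Wm).det := by
    refine (isUnit_iff_isUnit_det _).1 (Matrix.mulVec_injective_iff_isUnit.1 fun c c' hc => ?_)
    rw [← sub_eq_zero] at hc ⊢
    rw [← mulVec_sub] at hc
    set d := c - c'
    have hd : (P * T * Wm) *ᵥ d = 0 := by rw [Matrix.mul_assoc, ← mulVec_mulVec, hc, mulVec_zero]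
    have key : ∀ (x y : Fin 3) (M : Matrix (Rst 3 i) (Rst 3 i) F),
        e x x * f y y * (P * T * Wm) = inL i (Pi.single x (1 : F)) * M → M *ᵥ d = 0 := fun x y M hM => by
      have h1 : (inL i (Pi.single x (1 : F)) * M) *ᵥ d = 0 := by rw [← hM, ← mulVec_mulVec, hd, mulVec_zero]
      rw [← mulVec_mulVec] at h1
      exact inM_injective (he := at1_inj i) (f := fu (Pi.single x (1 : F)))
        (fun h => by simpa [fu] using congrFun h fun _ => x) (h1.trans (mulVec_zero _).symm)
    have h11 : th 1 1 *ᵥ d = 0 := key 0 1 (th 1 1) (by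
      rw [hproj, hefW, hefW]; simp [mul_add, thsame, thne 1 2 (show (1 : Fin 3) ≠ 2 by decide), thne 0 0 (show (0 : Fin 3) ≠ 2 by decide)])
    have h22 : th 2 2 *ᵥ d = 0 := key 0 2 (th 2 2) (by
      rw [hproj, hefW, hefW]; simp [mul_add, thsame, thne 2 1 (show (2 : Fin 3) ≠ 1 by decide)])
    have h20 : th 2 0 *ᵥ d = 0 := key 1 2 (th 2 0) (by rw [hproj, hefW, hefW]; simp [mul_add, thsame])
    rw [← one_mulVec d, ← thsum, add_mulVec, add_mulVec, h11, h22, ← thsame 0 2 0, ← mulVec_mulVec, h20, mulVec_zero,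
      add_zero, add_zero]
  have hQP : ∀ a, e a a * f a a * P = 0 := fun a => by
    have h1 : e a a * f a a * Wm = 0 := by
      rw [hefW]
      fin_cases a <;> simp [mul_add, thne 0 1 (show (0 : Fin 3) ≠ 1 by decide), thne 0 2 (show (0 : Fin 3) ≠ 2 by decide),
        thne 1 0 (show (1 : Fin 3) ≠ 2 by decide)]
    have h3 : e a a * f a a * (P * T * Wm) = 0 := by rw [hproj, h1, Matrix.mul_zero, add_zero]
    calc e a a * f a a * P = e a a * f a a * (P * T * Wm) * (T * Wm)⁻¹ := by
          rw [Matrix.mul_assoc P, Matrix.mul_assoc (e a a * f a a), Matrix.mul_assoc P, mul_nonsing_inv _ hM,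
            Matrix.mul_one]
      _ = 0 := by rw [h3, Matrix.zero_mul]
  set Q := e 0 0 * f 0 0 with hQ
  have hTQ : T * Q = 0 := by
    have h1 : P * T * Q = 0 := by
      rw [← hY, add_mul, one_mul, ← hQG]
      have h3 : Q * (1 + G) = 0 := by rw [hY, ← Matrix.mul_assoc, hQP, Matrix.zero_mul]
      rwa [mul_add, mul_one] at h3
    calc T * Q = outL i ω * G₀ * P * (T * Q) := by rw [hLP, Matrix.one_mul]
      _ = outL i ω * G₀ * (P * T * Q) := by simp only [Matrix.mul_assoc]
      _ = 0 := by rw [h1, Matrix.mul_zero]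
  have hQQ : Q * Q = Q := by
    rw [hQ, mul_assoc, ← mul_assoc (f 0 0), ← hef, mul_assoc (e 0 0) (f 0 0), fsame, ← mul_assoc]
    simp only [e, E_mul_same]
  have hGQ : G * Q = Q := by
    rw [hG, add_mul, one_mul, Matrix.mul_assoc, hTQ, Matrix.mul_zero, add_zero]
  have hΦ : ∀ χ : Fin 3 → F, χ ⬝ᵥ v = 0 → (∀ c : F, χ ≠ c • ψ) → outL i χ * G₀ * Q = 0 := by
    intro χ hχv hχ
    set Φ : Matrix (Rst 3 i) (Fin t → Fin 3) F := outL i χ * G₀ with hΦd
    obtain ⟨w, hw1, hw2⟩ := exists_dot hχ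
    obtain ⟨z, hz⟩ := exists_right hψ0
    have hΦP : Φ * P = 0 := by
      rw [hΦd, hP, Matrix.mul_assoc, ← Matrix.mul_assoc G₀, hGg, Matrix.one_mul, outL_inL, hχv, zero_smul]
    have hD : ∀ b : Fin 3, b ≠ 0 → ∃ a : Matrix (Rst 3 i) (Rst 3 i) F,
        (1 + e 0 b) * (1 + f 0 b) * P = P * a ∧ ∀ X : Matrix (Fin t → Fin 3) (Fin t → Fin 3) F, T * X = 0 →
          Φ * ((1 + e 0 b) * (1 + f 0 b) * X) = a * (Φ * X) := by
      intro b hb
      set D := (1 + e 0 b) * (1 + f 0 b) with hDd
      obtain ⟨s, hs, es⟩ := hS.root i (Pi.single 0 1) (Pi.single b 1) (by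
        rw [dotProduct_comm, dotProduct_single_one, Pi.single_eq_of_ne hb])
      rw [← single_eq, show sl i (Matrix.single (0 : Fin 3) b (1 : F)) = e 0 b from rfl] at es
      obtain ⟨γ, hγ, eγ⟩ := hS.moved (i := i) hg hv
      rw [← hG] at eγ
      have hd : (s * (γ * s * γ) : GL (Fin t → Fin 3) F).val = D := by
        rw [Units.val_mul, Units.val_mul, Units.val_mul, es, eγ, hDd, mul_add G, mul_one, add_mul G, hGG, hf]
      have hDG : D * G = G * D := by
        have h1 : G * (1 + e 0 b) = (1 + f 0 b) * G := by rw [mul_add, add_mul, mul_one, one_mul, hGe]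
        have h3 : G * (1 + f 0 b) = (1 + e 0 b) * G := by rw [mul_add, add_mul, mul_one, one_mul, hGf]
        have hc : (1 + e 0 b) * (1 + f 0 b) = (1 + f 0 b) * (1 + e 0 b) :=
          (((Commute.one_left _).add_left ((Commute.one_right _).add_right (hef 0 b 0 b)))).eq
        rw [hDd, mul_assoc, ← h1, ← mul_assoc, ← h3, mul_assoc G, ← hc]
      have hDY : D * (P * T) = P * T * D := by rw [← hY, mul_add, add_mul, mul_one, one_mul, hDG]
      set a : Matrix (Rst 3 i) (Rst 3 i) F := T * D * ((g : Matrix (Fin t → Fin 3) (Fin t → Fin 3) F) * inL i w') with ha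
      have hDP : D * P = P * a := by
        calc D * P = D * P * (T * ((g : Matrix (Fin t → Fin 3) (Fin t → Fin 3) F) * inL i w')) := by
              rw [hTP', Matrix.mul_one]
          _ = D * (P * T) * ((g : Matrix (Fin t → Fin 3) (Fin t → Fin 3) F) * inL i w') := by simp only [Matrix.mul_assoc]
          _ = P * a := by rw [hDY, ha]; simp only [Matrix.mul_assoc]
      have hTD : T * D = a * T := by
        have h1 : P * (T * D) = P * (a * T) := by rw [← Matrix.mul_assoc, ← hDY, ← Matrix.mul_assoc, hDP, Matrix.mul_assoc]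
        calc T * D = outL i ω * G₀ * P * (T * D) := by rw [hLP, Matrix.one_mul]
          _ = outL i ω * G₀ * (P * (T * D)) := Matrix.mul_assoc _ _ _
          _ = a * T := by rw [h1, ← Matrix.mul_assoc, hLP, Matrix.one_mul]
      have hse : ∀ A : Matrix (Fin t → Fin 3) (Fin t → Fin 3) F, A * A = 0 → (1 + A) * (1 + A) = 1 :=
        fun A => mem_of_sq_one h2
      have hDD : D * D = 1 := by
        have hee : e 0 b * e 0 b = 0 := E_mul_ne i 0 b hb
        have hff : f 0 b * f 0 b = 0 := fne 0 b hb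
        have hc : Commute (1 + e 0 b) (1 + f 0 b) :=
          (Commute.one_left _).add_left ((Commute.one_right _).add_right (hef 0 b 0 b))
        rw [hDd, mul_assoc, ← mul_assoc (1 + f 0 b), ← hc.eq, mul_assoc, hse _ hff, mul_one, hse _ hee]
      have haa : a * a = 1 := by
        have h1 : P * (a * a) = P * (1 : Matrix (Rst 3 i) (Rst 3 i) F) := by
          rw [← Matrix.mul_assoc, ← hDP, Matrix.mul_assoc, ← hDP, ← Matrix.mul_assoc, hDD, Matrix.one_mul, Matrix.mul_one]
        calc a * a = outL i ω * G₀ * P * (a * a) := by rw [hLP, Matrix.one_mul]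
          _ = 1 := by rw [Matrix.mul_assoc _ P, h1, ← Matrix.mul_assoc, hLP, Matrix.one_mul]
      obtain ⟨χ', hχ'v, eχ⟩ := hS.stab hR (i := i) (φ := χ) (u := v) hv0 hχv
        (h := g⁻¹ * (s * (γ * s * γ)) * g) (mul_mem (mul_mem (inv_mem hg) (mul_mem hs (mul_mem (mul_mem hγ hs) hγ))) hg)
        (a := a) (by
          rw [Units.val_mul, Units.val_mul, hd, ← hG₀, Matrix.mul_assoc (G₀ * D), ← hP, Matrix.mul_assoc G₀ D P, hDP,
            ← Matrix.mul_assoc G₀ P a, hP, ← Matrix.mul_assoc G₀, hGg, Matrix.one_mul])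
      have hΦD : Φ * D = a * (outL i χ' * G₀) := by
        rw [← Matrix.mul_assoc a, ← eχ, Units.val_mul, Units.val_mul, hd, ← hG₀, hΦd]
        simp only [Matrix.mul_assoc]
        rw [hG₀, ← Units.val_mul, mul_inv_cancel, Units.val_one, Matrix.mul_one]
      have hsplit : χ' = (χ' ⬝ᵥ w) • χ + ((χ' - (χ' ⬝ᵥ w) • χ) ⬝ᵥ z) • ψ := by
        have h3 := vec3_span (δ := χ' - (χ' ⬝ᵥ w) • χ) hω hχv hw2 hv hw1 hz
          (by rw [sub_dotProduct, smul_dotProduct, hχ'v, hχv, smul_zero, sub_zero])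
          (by rw [sub_dotProduct, smul_dotProduct, hw2, smul_eq_mul, mul_one, sub_self])
        rw [← h3, add_sub_cancel]
      set l := χ' ⬝ᵥ w
      set c := (χ' - l • χ) ⬝ᵥ z
      have hΦD2 : Φ * D = l • (a * Φ) + c • (a * T) := by
        rw [hΦD, hsplit, outL_add, outL_smul, outL_smul, Matrix.add_mul, Matrix.smul_mul, Matrix.smul_mul, Matrix.mul_add,
          Matrix.mul_smul, Matrix.mul_smul, hT, hΦd]
      have hl : l = 1 := by
        have h1 : Φ = (l * l) • Φ + (l * c + c) • T := by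
          conv_lhs => rw [← Matrix.mul_one Φ, ← hDD, ← Matrix.mul_assoc, hΦD2, Matrix.add_mul, Matrix.smul_mul,
            Matrix.smul_mul, Matrix.mul_assoc, hΦD2, Matrix.mul_assoc a T, hTD, Matrix.mul_add, Matrix.mul_smul,
            Matrix.mul_smul]
          conv_lhs => simp only [← Matrix.mul_assoc a a, haa, Matrix.one_mul]
          rw [smul_add, smul_smul, smul_smul, add_assoc, ← add_smul]
        have h3 : Φ * ((g : Matrix (Fin t → Fin 3) (Fin t → Fin 3) F) * inL i w) = 1 := right_inverse_moved hw2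
        have h4 : T * ((g : Matrix (Fin t → Fin 3) (Fin t → Fin 3) F) * inL i w) =
            (0 : Matrix (Rst 3 i) (Rst 3 i) F) := by
          rw [hT, Matrix.mul_assoc, ← Matrix.mul_assoc G₀, hGg, Matrix.one_mul, outL_inL, hw1, zero_smul]
        have h5 := congrArg (fun M : Matrix (Rst 3 i) (Fin t → Fin 3) F =>
          M * ((g : Matrix (Fin t → Fin 3) (Fin t → Fin 3) F) * inL i w)) h1
        simp only [Matrix.add_mul, Matrix.smul_mul, h3, h4, smul_zero, add_zero] at h5
        have h6 := congrFun (congrFun h5 (Classical.arbitrary _)) (Classical.arbitrary _)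
        simp only [Matrix.one_apply_eq, Matrix.smul_apply, smul_eq_mul, mul_one] at h6
        have h7 : (l - 1) * (l - 1) = 0 := by linear_combination -h6 + (1 - l) * h2
        exact sub_eq_zero.1 ((mul_eq_zero.1 h7).elim id id)
      refine ⟨a, hDP, fun X hX => ?_⟩
      rw [← Matrix.mul_assoc, hΦD2, hl, one_smul, Matrix.add_mul, Matrix.smul_mul, Matrix.mul_assoc a T, hX,
        Matrix.mul_zero, smul_zero, add_zero, Matrix.mul_assoc]
    have hkey : ∀ b : Fin 3, b ≠ 0 → P * (Φ * Q) =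
        (e 0 b + f 0 b + e 0 b * f 0 b) * (P * (Φ * (e b 0 * f b 0))) := by
      intro b hb
      obtain ⟨a, hDP, hDX⟩ := hD b hb
      have hEX : e b 0 * f b 0 = e b 0 * f b 0 * Q := by
        rw [hQ, mul_assoc (e b 0), ← mul_assoc (f b 0), ← hef, mul_assoc (e 0 0) (f b 0), fsame, ← mul_assoc]
        simp only [e, E_mul_same]
      have hcomm : G * (e b 0 * f b 0) = e b 0 * f b 0 * G := by
        rw [← mul_assoc, hGe, mul_assoc, hGf, ← mul_assoc, ← hef]
      have hTX : T * (e b 0 * f b 0) = 0 := by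
        have h1 : P * T * (e b 0 * f b 0) = 0 := by
          rw [← hY, add_mul, one_mul, hEX, ← mul_assoc G, hcomm, mul_assoc _ G, hGQ, dbl h2]
        calc T * (e b 0 * f b 0) = outL i ω * G₀ * P * (T * (e b 0 * f b 0)) := by rw [hLP, Matrix.one_mul]
          _ = outL i ω * G₀ * (P * T * (e b 0 * f b 0)) := by simp only [Matrix.mul_assoc]
          _ = 0 := by rw [h1, Matrix.mul_zero]
      have hA : e 0 b * (e b 0 * f b 0) = e 0 0 * f b 0 := by
        rw [← mul_assoc]; simp only [e, E_mul_same]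
      have hB : f 0 b * (e b 0 * f b 0) = e b 0 * f 0 0 := by rw [← mul_assoc, ← hef, mul_assoc, fsame]
      have hC : e 0 b * f 0 b * (e b 0 * f b 0) = Q := by
        rw [mul_assoc, hB, ← mul_assoc, hQ]; simp only [e, E_mul_same]
      have hexp : (1 + e 0 b) * (1 + f 0 b) * (e b 0 * f b 0) =
          e b 0 * f b 0 + P * T * (e 0 0 * f b 0) + Q := by
        have hswap : G * (e 0 0 * f b 0) = e b 0 * f 0 0 := by
          have e1 : e 0 0 * f b 0 = e 0 0 * f b 0 * Q := by
            rw [hQ, mul_assoc (e 0 0) (f b 0), ← mul_assoc (f b 0), ← hef, mul_assoc (e 0 0) (f b 0), fsame, ← mul_assoc]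
            simp only [e, E_mul_same]
          have e2 : e b 0 * f 0 0 = e b 0 * f 0 0 * Q := by
            rw [hQ, mul_assoc (e b 0), ← mul_assoc (f 0 0), ← hef, mul_assoc (e 0 0) (f 0 0), fsame, ← mul_assoc]
            simp only [e, E_mul_same]
          calc G * (e 0 0 * f b 0) = G * (e 0 0 * f b 0) * Q := by rw [mul_assoc G, ← e1]
            _ = e b 0 * f 0 0 * G * Q := by rw [← mul_assoc G, hGe, mul_assoc (f 0 0) G, hGf, ← mul_assoc (f 0 0), ← hef]
            _ = e b 0 * f 0 0 := by rw [mul_assoc, hGQ, ← e2]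
        rw [← hY, add_mul (1 : Matrix _ _ F) G, one_mul, hswap, ← hA, ← hB, ← hC]
        noncomm_ring
      have h1 := hDX _ hTX
      rw [hexp, Matrix.mul_add, Matrix.mul_add, Matrix.mul_assoc P T, ← Matrix.mul_assoc Φ P, hΦP, Matrix.zero_mul,
        add_zero] at h1
      have h3 : Φ * Q = a * (Φ * (e b 0 * f b 0)) + Φ * (e b 0 * f b 0) := by
        rw [← h1, add_comm (Φ * (e b 0 * f b 0)), add_assoc, dbl h2, add_zero]
      rw [h3, Matrix.mul_add P, ← Matrix.mul_assoc P a, ← hDP, Matrix.mul_assoc _ P]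
      nth_rewrite 2 [← Matrix.one_mul (P * (Φ * (e b 0 * f b 0)))]
      rw [← Matrix.add_mul]
      congr 1
      have h1' : (1 + e 0 b) * (1 + f 0 b) + 1 = e 0 b + f 0 b + e 0 b * f 0 b + (1 + 1) := by noncomm_ring
      rw [h1', dbl h2, add_zero]
    have hzero : ∀ x y : Fin 3, e x x * f y y * (P * (Φ * Q)) = 0 := by
      intro x y
      rcases eq_or_ne x y with rfl | hxy
      · rw [← Matrix.mul_assoc, hQP, Matrix.zero_mul]
      have hv' : ∀ b : Fin 3, (x = 0 → b = y) → (y = 0 → b = x) → e x x * f y y * (e 0 b + f 0 b + e 0 b * f 0 b) * P = 0 := by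
        intro b hbx hby
        have t1 : e x x * f y y * e 0 b * P = 0 := by
          rcases eq_or_ne x 0 with rfl | hx
          · obtain rfl := hbx rfl
            rw [mul_assoc (e 0 0), ← hef, ← mul_assoc,
              show e 0 0 * e 0 b = e 0 b * e b b by simp only [e, E_mul_same], mul_assoc (e 0 b), Matrix.mul_assoc (e 0 b), hQP, Matrix.mul_zero]
          · rw [mul_assoc (e x x), ← hef, ← mul_assoc, show e x x * e 0 b = 0 from E_mul_ne i x b hx, zero_mul,
              Matrix.zero_mul]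
        have t2 : e x x * f y y * f 0 b * P = 0 := by
          rcases eq_or_ne y 0 with rfl | hy
          · obtain rfl := hby rfl
            rw [mul_assoc (e b b), fsame, ← fsame 0 b b, ← mul_assoc, hef b b 0 b, mul_assoc (f 0 b),
              Matrix.mul_assoc (f 0 b), hQP, Matrix.mul_zero]
          · rw [mul_assoc (e x x), fne y b hy, mul_zero, Matrix.zero_mul]
        have t3 : e x x * f y y * (e 0 b * f 0 b) * P = 0 := by
          rcases eq_or_ne y 0 with rfl | hy
          · rw [mul_assoc (e x x), ← mul_assoc (f 0 0), ← hef, mul_assoc (e 0 b), ← mul_assoc (e x x),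
              show e x x * e 0 b = 0 from E_mul_ne i x b hxy, zero_mul, Matrix.zero_mul]
          · rw [mul_assoc (e x x), ← mul_assoc (f y y), ← hef, mul_assoc (e 0 b), fne y b hy, mul_zero, mul_zero,
              Matrix.zero_mul]
        rw [mul_add, mul_add, Matrix.add_mul, Matrix.add_mul, t1, t2, t3, add_zero, add_zero]
      obtain ⟨b, hb0, hbx, hby⟩ : ∃ b : Fin 3, b ≠ 0 ∧ (x = 0 → b = y) ∧ (y = 0 → b = x) := by
        by_cases hx : x = 0
        · exact ⟨y, fun e => hxy (hx.trans e.symm), fun _ => rfl, fun e => absurd (hx.trans e.symm) hxy⟩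
        by_cases hy : y = 0
        · exact ⟨x, hx, fun e => absurd e hx, fun _ => rfl⟩
        · exact ⟨1, by decide, fun e => absurd e hx, fun e => absurd e hy⟩
      rw [hkey b hb0, ← Matrix.mul_assoc, ← Matrix.mul_assoc, hv' b hbx hby, Matrix.zero_mul]
    have htot : P * (Φ * Q) = 0 := by
      have he := sum_E (F := F) (k := 3) i
      rw [Fin.sum_univ_three] at he
      have hsum : (1 : Matrix (Fin t → Fin 3) (Fin t → Fin 3) F) =
          ∑ x : Fin 3, ∑ y : Fin 3, e x x * f y y := by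
        simp only [← Finset.mul_sum, Fin.sum_univ_three, ← add_mul]
        simp only [e, he, one_mul]
        show (1 : Matrix (Fin t → Fin 3) (Fin t → Fin 3) F) = ext i (th 0 0) + ext i (th 1 1) + ext i (th 2 2)
        rw [← ext_add, ← ext_add, thsum, ext_one]
      rw [← Matrix.one_mul (P * (Φ * Q)), hsum, Matrix.sum_mul]
      refine Finset.sum_eq_zero fun x _ => ?_
      rw [Matrix.sum_mul]
      exact Finset.sum_eq_zero fun y _ => hzero x y
    calc Φ * Q = outL i ω * G₀ * P * (Φ * Q) := by rw [hLP, Matrix.one_mul]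
      _ = 0 := by rw [Matrix.mul_assoc _ P, htot, Matrix.mul_zero]
  have hall : ∀ χ : Fin 3 → F, χ ⬝ᵥ v = 0 → outL i χ * (G₀ * Q) = 0 := fun χ hχv => by
    by_cases hχ : ∀ c : F, χ ≠ c • ψ
    · rw [← Matrix.mul_assoc]; exact hΦ χ hχv hχ
    · push Not at hχ
      obtain ⟨c, rfl⟩ := hχ
      rw [outL_smul, Matrix.smul_mul, ← Matrix.mul_assoc, ← hT, hTQ, smul_zero]
  have hQ0 : Q = 0 := by
    have h1 := eq_inL hω hall
    have h3 : Q = P * (outL i ω * (G₀ * Q)) := by
      rw [hP, Matrix.mul_assoc, ← h1, ← Matrix.mul_assoc, hG₀, ← Units.val_mul, mul_inv_cancel, Units.val_one,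
        Matrix.one_mul]
    rw [← hQQ]
    nth_rewrite 2 [h3]
    rw [← Matrix.mul_assoc, hQ, hQP, Matrix.zero_mul]
  have hne : Matrix.single (0 : Fin 3) (0 : Fin 3) (1 : F) ≠ 0 := fun h => by
    have := congrFun (congrFun h 0) 0
    simp at this
  have hf0 : f 0 0 = 0 := eq_zero_of_sl_mul hne (fun A => ext_commute i _ A) (by
    rw [← hQ0, hQ]; rfl)
  have he0 : e 0 0 = 0 := by
    calc e 0 0 = G * G * e 0 0 * (G * G) := by rw [hGG, one_mul, mul_one]
      _ = G * (G * e 0 0 * G) * G := by simp only [mul_assoc]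
      _ = 0 := by rw [hf, hf0, mul_zero, zero_mul]
  exact hne (sl_injective i (he0.trans (sl_zero i).symm))

end Three

/-- a compressed operator with square zero vanishes -/
theorem nil_zero (hS : Setting H) (hR : Rigid H) (h2 : (2 : F) = 0) {g : GL (Fin t → Fin k) F} (hg : g ∈ H)
    {u φ v ψ : Fin k → F} (hu : φ ⬝ᵥ u = 0) (hv : ψ ⬝ᵥ v = 0) {K : Matrix (Rst k i) (Rst k i) F}
    (hK : K = outL i φ * (g : Matrix (Fin t → Fin k) (Fin t → Fin k) F) * inL i v *
      (outL i ψ * ((g⁻¹ : GL (Fin t → Fin k) F) : Matrix (Fin t → Fin k) (Fin t → Fin k) F) * inL i u))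
    (hKK : K * K = 0) : K = 0 := by
  classical
  by_contra hK0
  have hu0 : u ≠ 0 := fun e => hK0 (by rw [hK, e, inL_zero, Matrix.mul_zero, Matrix.mul_zero])
  have hφ0 : φ ≠ 0 := fun e => hK0 (by rw [hK, e, outL_zero, Matrix.zero_mul, Matrix.zero_mul, Matrix.zero_mul])
  have hv0 : v ≠ 0 := fun e => hK0 (by rw [hK, e, inL_zero, Matrix.mul_zero, Matrix.zero_mul])
  have hψ0 : ψ ≠ 0 := fun e => hK0 (by rw [hK, e, outL_zero, Matrix.zero_mul, Matrix.zero_mul, Matrix.mul_zero])
  set Y := (g : Matrix (Fin t → Fin k) (Fin t → Fin k) F) * inL i v *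
      (outL i ψ * ((g⁻¹ : GL (Fin t → Fin k) F) : Matrix (Fin t → Fin k) (Fin t → Fin k) F)) with hY
  have hYY : Y * Y = 0 := moved_sq g hv
  obtain ⟨γ, hγ, eγ⟩ := hS.moved (i := i) hg hv
  rw [← hY] at eγ
  have hγγ : γ⁻¹ = γ := by
    refine inv_eq_of_mul_eq_one_right (Units.ext ?_)
    rw [Units.val_mul, eγ, mem_of_sq_one h2 hYY, Units.val_one]
  have hC : outL i φ * (γ : Matrix (Fin t → Fin k) (Fin t → Fin k) F) * inL i u = K := by
    rw [eγ, Matrix.mul_add, Matrix.add_mul, Matrix.mul_one, outL_inL, hu, zero_smul, zero_add, hK, hY]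
    simp only [Matrix.mul_assoc]
  obtain ⟨-, hW⟩ := comm0 hS hR h2 hγ hu0 hφ0 hu hu (X := inL i u * outL i φ) rfl rfl (by rw [hγγ, hC, hKK])
  obtain ⟨-, M, hM⟩ := hW (by rw [hC]; exact hK0)
  rw [hγγ, Matrix.add_mul, Matrix.one_mul] at hM
  set G : Matrix (Fin t → Fin k) (Fin t → Fin k) F := (γ : Matrix (Fin t → Fin k) (Fin t → Fin k) F)
  set Z := G * inL i u * (outL i φ * G) with hZ
  have hZu : Z * inL i u = inL i u * (M + 1) := by
    rw [Matrix.mul_add, ← hM, Matrix.mul_one, add_comm (inL i u), add_assoc, dbl h2, add_zero]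
  have hN0 : M + 1 ≠ 0 := fun e => by
    rw [e, Matrix.mul_zero, hZ, Matrix.mul_assoc (G * inL i u), hC, Matrix.mul_assoc G] at hZu
    have hGG : G * G = 1 := by
      rw [show G = 1 + Y from eγ]; exact mem_of_sq_one h2 hYY
    have h1 := congrArg (G * ·) hZu
    simp only [← Matrix.mul_assoc, hGG, Matrix.one_mul, Matrix.mul_zero] at h1
    exact hK0 (inL_cancel (i := i) hu0 (by rw [h1, Matrix.mul_zero]))
  have hext := cross hS hR h2 hγ hu0 hu (Z := Z) (by rw [hγγ]) hZu hN0
  have hsl := slot_swap hS hR h2 hγ hγγ hu0 hφ0 hu hext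
  have hk := swap_dim hS hR h2 (g := g) (v := v) (ψ := ψ) (G := G) eγ hsl
  obtain rfl : k = 3 := le_antisymm hk hS.dim
  exact swap_three hS hR h2 hg hv0 hψ0 hv eγ hsl

end Cfsg.Agent.ClassicalMax.LWreath
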