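import Cfsg.Agent.ClassicalMax.LWreath.Rigid

/-!
Characteristic two: conjugate root involutions in a rigid group, commutators and the elements preserving a slot subspace.
-/

set_option autoImplicit false
set_option linter.unusedSectionVars false

namespace Cfsg.Agent.ClassicalMax.LWreath

open Matrix Cfsg.Agent.ClassicalMax.TPow

variable {F : Type*} [Field F] {k t : ℕ} {H : Subgroup (GL (Fin t → Fin k) F)} {i : Fin t}

theorem dbl (h2 : (2 : F) = 0) {ν μ : Type} (Z : Matrix ν μ F) : Z + Z = 0 := by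
  rw [← two_smul F Z, h2, zero_smul]

theorem neg_eq' (h2 : (2 : F) = 0) {ν μ : Type} (Z : Matrix ν μ F) : -Z = Z :=
  neg_eq_of_add_eq_zero_left (dbl h2 Z)

theorem inL_cancel {u : Fin k → F} (hu : u ≠ 0) {ν : Type} {M N : Matrix (Rst k i) ν F}
    (h : inL i u * M = inL i u * N) : M = N := by
  obtain ⟨ω, hω⟩ := exists_dual hu
  have h1 := congrArg (outL i ω * ·) h
  simpa only [← Matrix.mul_assoc, outL_inL, hω, one_smul, Matrix.one_mul] using h1

theorem exists_right {φ : Fin k → F} (hφ : φ ≠ 0) : ∃ w : Fin k → F, φ ⬝ᵥ w = 1 := by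
  obtain ⟨w, hw⟩ := exists_dual hφ
  exact ⟨w, by rw [dotProduct_comm, hw]⟩

theorem ext_injective (hk : 0 < k) {M N : Matrix (Rst k i) (Rst k i) F} (h : ext i M = ext i N) : M = N := by
  have hu : (fun _ => 1 : Fin k → F) ≠ 0 := fun e => one_ne_zero (congrFun e ⟨0, hk⟩)
  refine inL_cancel hu ?_
  rw [← ext_mul_inL, h, ext_mul_inL]

theorem unit_of_mul {ν : Type} [Fintype ν] [DecidableEq ν] {P Q a : Matrix ν ν F} (ha : IsUnit a.det) (h : P * Q = a) :
    IsUnit P.det ∧ IsUnit Q.det := by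
  rw [← h, det_mul, IsUnit.mul_iff] at ha
  exact ha

theorem mem_of_sq_one {ν : Type} [Fintype ν] [DecidableEq ν] (h2 : (2 : F) = 0) {X : Matrix ν ν F} (h : X * X = 0) :
    (1 + X) * (1 + X) = 1 := by
  rw [mul_add, add_mul, add_mul, one_mul, one_mul, mul_one, h, add_zero, add_assoc, dbl h2, add_zero]

/-- a conjugate of a slot root element -/
theorem Setting.moved (hS : Setting H) {g : GL (Fin t → Fin k) F} (hg : g ∈ H) {v ψ : Fin k → F} (hv : ψ ⬝ᵥ v = 0) :
    InH H (1 + (g : Matrix (Fin t → Fin k) (Fin t → Fin k) F) * inL i v *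
      (outL i ψ * ((g⁻¹ : GL (Fin t → Fin k) F) : Matrix (Fin t → Fin k) (Fin t → Fin k) F))) := by
  have h := InH.conj (hS.root i v ψ hv) hg
  rw [← inL_outL] at h
  simpa only [Matrix.mul_assoc] using h

theorem moved_sq (g : GL (Fin t → Fin k) F) {v ψ : Fin k → F} (hv : ψ ⬝ᵥ v = 0) :
    (g : Matrix (Fin t → Fin k) (Fin t → Fin k) F) * inL i v *
      (outL i ψ * ((g⁻¹ : GL (Fin t → Fin k) F) : Matrix (Fin t → Fin k) (Fin t → Fin k) F)) *
    ((g : Matrix (Fin t → Fin k) (Fin t → Fin k) F) * inL i v *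
      (outL i ψ * ((g⁻¹ : GL (Fin t → Fin k) F) : Matrix (Fin t → Fin k) (Fin t → Fin k) F))) = 0 := by
  have hG : ((g⁻¹ : GL (Fin t → Fin k) F) : Matrix (Fin t → Fin k) (Fin t → Fin k) F) *
      (g : Matrix (Fin t → Fin k) (Fin t → Fin k) F) = 1 := by rw [← Units.val_mul, inv_mul_cancel, Units.val_one]
  set G := (g : Matrix (Fin t → Fin k) (Fin t → Fin k) F)
  set G' := ((g⁻¹ : GL (Fin t → Fin k) F) : Matrix (Fin t → Fin k) (Fin t → Fin k) F)
  calc G * inL i v * (outL i ψ * G') * (G * inL i v * (outL i ψ * G'))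
      = G * inL i v * ((outL i ψ * (G' * G) * inL i v) * (outL i ψ * G')) := by simp only [Matrix.mul_assoc]
    _ = 0 := by rw [hG, Matrix.mul_one, outL_inL, hv, zero_smul, Matrix.zero_mul, Matrix.mul_zero]

variable (hS : Setting H) (hR : Rigid H) (h2 : (2 : F) = 0)
include hS hR h2

/-- two commuting compressions -/
theorem comm0 {g : GL (Fin t → Fin k) F} (hg : g ∈ H) {u φ v ψ : Fin k → F} (hu0 : u ≠ 0) (hφ0 : φ ≠ 0)
    (hu : φ ⬝ᵥ u = 0) (hv : ψ ⬝ᵥ v = 0)
    {X Y : Matrix (Fin t → Fin k) (Fin t → Fin k) F} (hX : X = inL i u * outL i φ)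
    (hY : Y = (g : Matrix (Fin t → Fin k) (Fin t → Fin k) F) * inL i v *
      (outL i ψ * ((g⁻¹ : GL (Fin t → Fin k) F) : Matrix (Fin t → Fin k) (Fin t → Fin k) F)))
    (hAB : outL i φ * (g : Matrix (Fin t → Fin k) (Fin t → Fin k) F) * inL i v *
      (outL i ψ * ((g⁻¹ : GL (Fin t → Fin k) F) : Matrix (Fin t → Fin k) (Fin t → Fin k) F) * inL i u) = 0) :
    (∀ χ : Fin k → F, χ ⬝ᵥ u = 0 → ∃ κ : F, outL i χ * (g : Matrix (Fin t → Fin k) (Fin t → Fin k) F) * inL i v *
      (outL i ψ * ((g⁻¹ : GL (Fin t → Fin k) F) : Matrix (Fin t → Fin k) (Fin t → Fin k) F) * inL i u) =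
        κ • (1 : Matrix (Rst k i) (Rst k i) F)) ∧
    (outL i φ * (g : Matrix (Fin t → Fin k) (Fin t → Fin k) F) * inL i v ≠ 0 →
      (∀ χ : Fin k → F, χ ⬝ᵥ u = 0 → outL i χ * (g : Matrix (Fin t → Fin k) (Fin t → Fin k) F) * inL i v *
        (outL i ψ * ((g⁻¹ : GL (Fin t → Fin k) F) : Matrix (Fin t → Fin k) (Fin t → Fin k) F) * inL i u) = 0) ∧
      ∃ M : Matrix (Rst k i) (Rst k i) F, (1 + Y) * inL i u = inL i u * M) := by
  haveI := nonempty_rst (k := k) (le_trans (by omega) hS.dim) i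
  set P : Matrix (Fin t → Fin k) (Rst k i) F := (g : Matrix (Fin t → Fin k) (Fin t → Fin k) F) * inL i v with hP
  set T : Matrix (Rst k i) (Fin t → Fin k) F :=
    outL i ψ * ((g⁻¹ : GL (Fin t → Fin k) F) : Matrix (Fin t → Fin k) (Fin t → Fin k) F) with hT
  simp only [Matrix.mul_assoc (outL i _) (g : Matrix (Fin t → Fin k) (Fin t → Fin k) F) (inL i v), ← hP] at hAB ⊢
  set A : Matrix (Rst k i) (Rst k i) F := outL i φ * P with hA
  set B : Matrix (Rst k i) (Rst k i) F := T * inL i u with hB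
  have hXX : X * X = 0 := by
    rw [hX, Matrix.mul_assoc, ← Matrix.mul_assoc (outL i φ), outL_inL, hu, zero_smul, Matrix.zero_mul, Matrix.mul_zero]
  have hYY : Y * Y = 0 := by rw [hY]; exact moved_sq g hv
  have hXY : X * Y = inL i u * A * T := by rw [hX, hY, hA]; simp only [Matrix.mul_assoc]
  have hYX : Y * X = P * B * outL i φ := by rw [hX, hY, hB]; simp only [Matrix.mul_assoc]
  have hXYX : X * Y * X = 0 := by
    rw [hXY, hX, Matrix.mul_assoc (inL i u * A), ← Matrix.mul_assoc T, ← hB, ← Matrix.mul_assoc,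
      Matrix.mul_assoc (inL i u) A B, hAB, Matrix.mul_zero, Matrix.zero_mul]
  set W := X * Y + Y * X + Y * (X * Y) with hW
  have hWH : InH H (1 + W) := by
    obtain ⟨a, ha, ea⟩ := hS.root i u φ hu
    rw [← inL_outL, ← hX] at ea
    obtain ⟨b, hb, eb⟩ := hS.moved (i := i) hg hv
    rw [← hY] at eb
    refine ⟨a * b * a * b, mul_mem (mul_mem (mul_mem ha hb) ha) hb, ?_⟩
    rw [Units.val_mul, Units.val_mul, Units.val_mul, ea, eb, hW]
    have e : (1 + X) * (1 + Y) * (1 + X) * (1 + Y) = 1 + (X * Y + Y * X + Y * (X * Y)) + (X + X) + (Y + Y) +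
        (X * Y + X * Y) + (X * X) * (1 + Y) + (Y * Y) + X * Y * X * (1 + Y) + X * Y * Y := by
      noncomm_ring
    rw [e, dbl h2, dbl h2, dbl h2, hXX, hYY, hXYX, mul_assoc, hYY]
    simp
  have hWu : W * inL i u = 0 := by
    have e1 : X * Y * inL i u = 0 := by
      rw [hXY, Matrix.mul_assoc (inL i u * A), ← hB, Matrix.mul_assoc, hAB, Matrix.mul_zero]
    have e2 : X * inL i u = 0 := by rw [hX, Matrix.mul_assoc, outL_inL, hu, zero_smul, Matrix.mul_zero]
    rw [hW, Matrix.add_mul, Matrix.add_mul, e1, Matrix.mul_assoc Y X, e2, Matrix.mul_zero, Matrix.mul_assoc Y, e1,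
      Matrix.mul_zero, add_zero, add_zero]
  obtain ⟨w, hw, ew⟩ := hWH
  have hδ : ∀ χ : Fin k → F, χ ⬝ᵥ u = 0 → ∃ δ : Fin k → F, δ ⬝ᵥ u = 0 ∧ outL i χ * W = outL i δ ∧
      outL i χ * P * B * (outL i φ * (1 + Y)) = outL i δ := fun χ hχ => by
    obtain ⟨χ', hχ', e⟩ := hS.stab hR (i := i) (φ := χ) hu0 hχ hw (a := 1) (by
      rw [ew, Matrix.add_mul, hWu, Matrix.one_mul, add_zero, Matrix.mul_one])
    rw [ew, Matrix.mul_add, Matrix.mul_one, Matrix.one_mul] at e
    have e1 : outL i χ * W = outL i (χ' - χ) := by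
      rw [sub_eq_add_neg, ← neg_one_smul F χ, outL_add, outL_smul, neg_one_smul, ← sub_eq_add_neg, eq_sub_iff_add_eq,
        add_comm]
      exact e
    refine ⟨χ' - χ, by rw [sub_dotProduct, hχ', hχ, sub_zero], e1, ?_⟩
    rw [← e1, hW]
    simp only [Matrix.mul_add, Matrix.mul_one]
    have e0 : outL i χ * (X * Y) = 0 := by
      rw [hXY, Matrix.mul_assoc (inL i u) A, ← Matrix.mul_assoc, outL_inL, hχ, zero_smul, Matrix.zero_mul]
    rw [e0, zero_add, hYX, hX, hY]
    simp only [hB, Matrix.mul_assoc]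
  obtain ⟨w₁, hw₁⟩ := exists_right hφ0
  have hYu : Y * inL i u = P * B := by rw [hY, hB, Matrix.mul_assoc]
  refine ⟨fun χ hχ => ?_, fun hA0 => ?_⟩
  · by_cases hA0 : A = 0
    · obtain ⟨δ, -, -, e⟩ := hδ χ hχ
      have hφY : outL i φ * Y = 0 := by rw [hY, ← Matrix.mul_assoc, ← hA, hA0, Matrix.zero_mul]
      rw [Matrix.mul_add, Matrix.mul_one, hφY, add_zero] at e
      refine ⟨δ ⬝ᵥ w₁, ?_⟩
      calc outL i χ * P * B = outL i χ * P * B * (outL i φ * inL i w₁) := by
            rw [outL_inL, hw₁, one_smul, Matrix.mul_one]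
        _ = _ := by rw [← Matrix.mul_assoc, e, outL_inL]
    · obtain ⟨δ, -, -, e⟩ := hδ χ hχ
      by_cases hδ0 : δ = 0
      · refine ⟨0, ?_⟩
        rw [zero_smul]
        calc outL i χ * P * B = outL i χ * P * B * (outL i φ * (1 + Y)) * ((1 + Y) * inL i w₁) := by
              rw [Matrix.mul_assoc (outL i χ * P * B), Matrix.mul_assoc (outL i φ), ← Matrix.mul_assoc (1 + Y),
                mem_of_sq_one h2 hYY, Matrix.one_mul, outL_inL, hw₁, one_smul, Matrix.mul_one]
          _ = 0 := by rw [e, hδ0, outL_zero, Matrix.zero_mul]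
      · exfalso
        obtain ⟨f, hf⟩ := exists_right hδ0
        have e1 : outL i χ * P * B * (outL i φ * (1 + Y) * inL i f) = 1 := by
          rw [← Matrix.mul_assoc, e, outL_inL, hf, one_smul]
        have hBu := (unit_of_mul (P := outL i χ * P) (Q := B)
          (unit_of_mul (a := (1 : Matrix (Rst k i) (Rst k i) F)) (by simp) e1).1 rfl).2
        refine hA0 ?_
        calc A = A * B * B⁻¹ := by rw [Matrix.mul_assoc, mul_nonsing_inv _ hBu, Matrix.mul_one]
          _ = 0 := by rw [hAB, Matrix.zero_mul]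
  · have hzero : ∀ χ : Fin k → F, χ ⬝ᵥ u = 0 → outL i χ * W = 0 ∧ outL i χ * P * B = 0 := fun χ hχ => by
      obtain ⟨δ, -, e0, e⟩ := hδ χ hχ
      have hδ0 : δ = 0 := by
        by_contra hδ0
        obtain ⟨f, hf⟩ := exists_right hδ0
        have e1 : outL i χ * P * B * (outL i φ * (1 + Y) * inL i f) = 1 := by
          rw [← Matrix.mul_assoc, e, outL_inL, hf, one_smul]
        have hBu := (unit_of_mul (P := outL i χ * P) (Q := B)
          (unit_of_mul (a := (1 : Matrix (Rst k i) (Rst k i) F)) (by simp) e1).1 rfl).2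
        refine hA0 ?_
        calc A = A * B * B⁻¹ := by rw [Matrix.mul_assoc, mul_nonsing_inv _ hBu, Matrix.mul_one]
          _ = 0 := by rw [hAB, Matrix.zero_mul]
      rw [hδ0, outL_zero] at e0 e
      refine ⟨e0, ?_⟩
      calc outL i χ * P * B = outL i χ * P * B * (outL i φ * (1 + Y)) * ((1 + Y) * inL i w₁) := by
            rw [Matrix.mul_assoc (outL i χ * P * B), Matrix.mul_assoc (outL i φ), ← Matrix.mul_assoc (1 + Y),
              mem_of_sq_one h2 hYY, Matrix.one_mul, outL_inL, hw₁, one_smul, Matrix.mul_one]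
        _ = 0 := by rw [e, Matrix.zero_mul]
    refine ⟨fun χ hχ => (hzero χ hχ).2, ?_⟩
    obtain ⟨ω, hω⟩ := exists_dual hu0
    refine ⟨outL i ω * ((1 + Y) * inL i u), eq_inL hω fun χ hχ => ?_⟩
    rw [Matrix.add_mul, Matrix.one_mul, Matrix.mul_add, outL_inL, hχ, zero_smul, zero_add, hYu, ← Matrix.mul_assoc]
    exact (hzero χ hχ).2

/-- a conjugate root involution preserving a slot subspace without fixing it lies in the other slots -/
theorem cross {γ : GL (Fin t → Fin k) F} (hγ : γ ∈ H) {u v ψ : Fin k → F} (hu0 : u ≠ 0) (hv : ψ ⬝ᵥ v = 0)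
    {Z : Matrix (Fin t → Fin k) (Fin t → Fin k) F}
    (hZ : Z = (γ : Matrix (Fin t → Fin k) (Fin t → Fin k) F) * inL i v *
      (outL i ψ * ((γ⁻¹ : GL (Fin t → Fin k) F) : Matrix (Fin t → Fin k) (Fin t → Fin k) F)))
    {N : Matrix (Rst k i) (Rst k i) F} (hN : Z * inL i u = inL i u * N) (hN0 : N ≠ 0) : Z = ext i N := by
  haveI := nonempty_rst (k := k) (le_trans (by omega) hS.dim) i
  set P : Matrix (Fin t → Fin k) (Rst k i) F := (γ : Matrix (Fin t → Fin k) (Fin t → Fin k) F) * inL i v with hP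
  set T : Matrix (Rst k i) (Fin t → Fin k) F :=
    outL i ψ * ((γ⁻¹ : GL (Fin t → Fin k) F) : Matrix (Fin t → Fin k) (Fin t → Fin k) F) with hT
  have hZZ : Z * Z = 0 := by rw [hZ]; exact moved_sq γ hv
  obtain ⟨h, hh, eh⟩ := hS.moved (i := i) hγ hv
  rw [← hZ] at eh
  have hNN : N * N = 0 := inL_cancel (i := i) hu0 (by
    rw [← Matrix.mul_assoc, ← hN, Matrix.mul_assoc Z, ← hN, ← Matrix.mul_assoc, hZZ, Matrix.zero_mul, Matrix.mul_zero])
  set a : Matrix (Rst k i) (Rst k i) F := 1 + N with ha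
  have haa : a * a = 1 := mem_of_sq_one h2 hNN
  have hhi : (h : Matrix (Fin t → Fin k) (Fin t → Fin k) F) * inL i u = inL i u * a := by
    rw [eh, Matrix.add_mul, Matrix.one_mul, hN, ha, Matrix.mul_add, Matrix.mul_one]
  have hau : IsUnit a.det := (stab_unit hu0 hhi).1
  have hTu : T * inL i u ≠ 0 := fun e => hN0 (inL_cancel (i := i) hu0 (by
    rw [← hN, hZ, Matrix.mul_assoc P, e, Matrix.mul_zero, Matrix.mul_zero]))
  have hq : ∀ χ : Fin k → F, χ ⬝ᵥ u = 0 → outL i χ * Z = N * outL i χ := fun χ hχ => by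
    obtain ⟨χ', -, e⟩ := hS.stab hR (i := i) (φ := χ) hu0 hχ hh hhi
    rw [eh, Matrix.mul_add, Matrix.mul_one] at e
    obtain ⟨c, hc⟩ : ∃ c : F, χ' = c • χ := by
      by_contra hne
      push Not at hne
      obtain ⟨f, hf0, hf1⟩ := exists_dot hne
      have e1 : outL i χ * P * (T * inL i f) = a := by
        have e2 := congrArg (fun M : Matrix (Rst k i) (Fin t → Fin k) F => M * inL i f) e
        simp only [Matrix.add_mul, outL_inL, hf0, zero_smul, zero_add, Matrix.mul_assoc, hf1, one_smul,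
          Matrix.mul_one] at e2
        rw [← e2, hZ]
        simp only [Matrix.mul_assoc]
      refine hTu ?_
      have hPu := (unit_of_mul hau e1).1
      have e3 : outL i χ * P * (T * inL i u) = 0 := by
        rw [Matrix.mul_assoc, ← Matrix.mul_assoc P, ← hZ, hN, ← Matrix.mul_assoc, outL_inL, hχ, zero_smul,
          Matrix.zero_mul]
      calc T * inL i u = (outL i χ * P)⁻¹ * (outL i χ * P * (T * inL i u)) := by
            rw [← Matrix.mul_assoc _ (outL i χ * P), nonsing_inv_mul _ hPu, Matrix.one_mul]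
        _ = 0 := by rw [e3, Matrix.mul_zero]
    by_cases hχ0 : χ = 0
    · rw [hχ0, outL_zero, Matrix.zero_mul, Matrix.mul_zero]
    rw [hc, outL_smul, Matrix.mul_smul] at e
    have e1 : (c * c) • outL i χ = outL i χ := by
      have e2 : (outL i χ + outL i χ * Z) * (1 + Z) = outL i χ := by
        rw [show outL i χ + outL i χ * Z = outL i χ * (1 + Z) by rw [Matrix.mul_add, Matrix.mul_one],
          Matrix.mul_assoc, mem_of_sq_one h2 hZZ, Matrix.mul_one]
      rw [e, Matrix.smul_mul, Matrix.mul_assoc, Matrix.mul_add, Matrix.mul_one, e, Matrix.mul_smul, smul_smul,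
        ← Matrix.mul_assoc, haa, Matrix.one_mul] at e2
      exact e2
    rw [← outL_smul] at e1
    obtain ⟨j, hj⟩ := Function.ne_iff.1 hχ0
    have hcc : c * c = 1 := by
      have := congrFun (outL_inj e1) j
      rw [Pi.smul_apply, smul_eq_mul] at this
      exact mul_right_cancel₀ hj (this.trans (one_mul _).symm)
    have hc1 : c = 1 := by
      have h3 : (c - 1) * (c - 1) = 0 := by linear_combination hcc + (1 - c) * h2
      exact sub_eq_zero.1 ((mul_eq_zero.1 h3).elim id id)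
    rw [hc1, one_smul, ha, Matrix.add_mul, Matrix.one_mul] at e
    exact add_left_cancel e
  obtain ⟨ω, hω⟩ := exists_dual hu0
  set Λ : Matrix (Rst k i) (Fin t → Fin k) F := outL i ω * (Z - ext i N) with hΛ
  have hZe : Z = ext i N + inL i u * Λ := by
    rw [hΛ, ← eq_inL hω (fun χ hχ => by rw [Matrix.mul_sub, hq χ hχ, outL_mul_ext, sub_self]), add_sub_cancel]
  have hΛu : Λ * inL i u = 0 := by
    rw [hΛ, Matrix.mul_assoc, Matrix.sub_mul, hN, ext_mul_inL, sub_self, Matrix.mul_zero]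
  have heh : (h : Matrix (Fin t → Fin k) (Fin t → Fin k) F) = ext i a + inL i u * Λ := by
    rw [eh, hZe, ha, ext_add, ext_one, add_assoc]
  have hcomm : a * Λ = Λ * ext i a := by
    have e1 : (ext i a + inL i u * Λ) * (ext i a + inL i u * Λ) = 1 := by
      rw [← heh, eh]; exact mem_of_sq_one h2 hZZ
    rw [Matrix.add_mul, Matrix.mul_add, Matrix.mul_add, ← ext_mul, haa, ext_one, ← Matrix.mul_assoc (ext i a),
      ext_mul_inL, Matrix.mul_assoc, Matrix.mul_assoc, Matrix.mul_assoc (inL i u), ← Matrix.mul_assoc Λ, hΛu,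
      Matrix.zero_mul, Matrix.mul_zero, add_zero, add_assoc, ← Matrix.mul_add, add_eq_left] at e1
    have e2 : a * Λ + Λ * ext i a = 0 := inL_cancel (i := i) hu0 (by rw [e1, Matrix.mul_zero])
    rw [eq_neg_of_add_eq_zero_left e2, neg_eq' h2]
  obtain ⟨χ₀, hχ₀u, hχ₀⟩ := hS.outL_of_pc hR (i := i) hu0 (Λ := a * Λ) (by
    rw [Matrix.mul_assoc, hΛu, Matrix.mul_zero]) fun v' ψ' hψu hψv => by
    set S := sl i (vecMulVec v' ψ') with hSd
    obtain ⟨s, hs, es⟩ := hS.root i v' ψ' hψv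
    refine ⟨s * h * s * h, mul_mem (mul_mem (mul_mem hs hh) hs) hh, ?_⟩
    rw [← hSd] at es
    have hSS : S * S = 0 := by rw [hSd, sl_mul, vecMulVec_mul_vecMulVec, hψv, zero_smul, vecMulVec_zero, sl_zero]
    have hsu : (1 + S) * inL i u = inL i u := by
      rw [hSd, Matrix.add_mul, Matrix.one_mul, sl_mul_inL, vecMulVec_mulVec, hψu, MulOpposite.op_zero, zero_smul,
        inL_zero, add_zero]
    have hsc : (1 + S) * ext i a = ext i a * (1 + S) := by
      rw [mul_add, add_mul, mul_one, one_mul, hSd, (ext_commute i a _).eq]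
    rw [Units.val_mul, Units.val_mul, Units.val_mul, es, heh]
    have e1 : (1 + S) * (ext i a + inL i u * Λ) * (1 + S) = ext i a + inL i u * (Λ * (1 + S)) := by
      rw [Matrix.mul_add (1 + S) (ext i a), ← Matrix.mul_assoc (1 + S) (inL i u), hsu,
        Matrix.add_mul ((1 + S) * ext i a), hsc,
        Matrix.mul_assoc (ext i a), mem_of_sq_one h2 hSS, Matrix.mul_one, Matrix.mul_assoc]
    rw [e1, Matrix.add_mul, Matrix.mul_add, Matrix.mul_add, ← ext_mul, haa, ext_one, ← Matrix.mul_assoc (ext i a),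
      ext_mul_inL]
    have e2 : inL i u * (Λ * (1 + S)) * (inL i u * Λ) = 0 := by
      rw [Matrix.mul_assoc (inL i u), Matrix.mul_assoc Λ, ← Matrix.mul_assoc (1 + S), hsu, ← Matrix.mul_assoc Λ, hΛu,
        Matrix.zero_mul, Matrix.mul_zero]
    have e3 : Λ * (1 + S) * ext i a = a * Λ * (1 + S) := by
      rw [Matrix.mul_assoc, hsc, ← Matrix.mul_assoc, ← hcomm]
    rw [e2, add_zero, Matrix.mul_assoc (inL i u) (Λ * (1 + S)), e3, Matrix.mul_assoc (inL i u) a, add_assoc,
      ← Matrix.mul_add, Matrix.mul_add (a * Λ), Matrix.mul_one, ← add_assoc, dbl h2, zero_add, hSd, ← inL_outL]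
    simp only [Matrix.mul_assoc]
  suffices χ₀ = 0 by
    have hΛ0 : Λ = 0 := by
      calc Λ = a * (a * Λ) := by rw [← Matrix.mul_assoc, haa, Matrix.one_mul]
        _ = 0 := by rw [hχ₀, this, outL_zero, Matrix.mul_zero]
    rw [hZe, hΛ0, Matrix.mul_zero, add_zero]
  by_contra hχ0
  have hΛe : Λ = a * outL i χ₀ := by rw [← hχ₀, ← Matrix.mul_assoc, haa, Matrix.one_mul]
  obtain ⟨χ₁, hχ₁u, hχ₁0, hχ₁⟩ := exists_perp_off hS.dim u χ₀
  obtain ⟨f', hf'0, hf'1⟩ := exists_dot hχ₁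
  obtain ⟨f, hf1, hf0⟩ := exists_dot (φ := χ₀) (ψ := χ₁) fun c e => by
    by_cases hc : c = 0
    · exact hχ0 (by rw [e, hc, zero_smul])
    · exact hχ₁ c⁻¹ (by rw [e, inv_smul_smul₀ hc])
  set ω' := ω - (ω ⬝ᵥ f) • χ₀ - (ω ⬝ᵥ f') • χ₁ with hω'
  have w1 : ω' ⬝ᵥ u = 1 := by simp [hω', sub_dotProduct, smul_dotProduct, hω, hχ₀u, hχ₁u]
  have w2 : ω' ⬝ᵥ f = 0 := by simp [hω', sub_dotProduct, smul_dotProduct, hf0, hf1]
  have w3 : ω' ⬝ᵥ f' = 0 := by simp [hω', sub_dotProduct, smul_dotProduct, hf'0, hf'1]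
  have hval : ∀ χ f : Fin k → F, outL i χ * Z * inL i f = (χ ⬝ᵥ f) • N + ((χ ⬝ᵥ u) * (χ₀ ⬝ᵥ f)) • a := fun χ f => by
    rw [hZe, hΛe, Matrix.mul_add, Matrix.add_mul, outL_mul_ext, Matrix.mul_assoc N, outL_inL, Matrix.mul_smul,
      Matrix.mul_one, out_in_mul, Matrix.smul_mul, Matrix.mul_assoc a, outL_inL, Matrix.mul_smul, Matrix.mul_one,
      smul_smul]
  have e1 : outL i ω' * P * (T * inL i f) = a := by
    have := hval ω' f
    rw [w1, w2, hf0, zero_smul, zero_add, mul_one, one_smul, hZ] at this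
    rw [← this]; simp only [Matrix.mul_assoc]
  have e2 : outL i ω' * P * (T * inL i f') = 0 := by
    have := hval ω' f'
    rw [w3, hf'0, mul_zero, zero_smul, zero_smul, add_zero, hZ] at this
    rw [← this]; simp only [Matrix.mul_assoc]
  have e3 : outL i χ₁ * P * (T * inL i f') = N := by
    have := hval χ₁ f'
    rw [hf'1, hf'0, mul_zero, zero_smul, one_smul, add_zero, hZ] at this
    rw [← this]; simp only [Matrix.mul_assoc]
  have hu1 := (unit_of_mul hau e1).1
  have hTf : T * inL i f' = 0 := by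
    calc T * inL i f' = (outL i ω' * P)⁻¹ * (outL i ω' * P * (T * inL i f')) := by
          rw [← Matrix.mul_assoc _ (outL i ω' * P), nonsing_inv_mul _ hu1, Matrix.one_mul]
      _ = 0 := by rw [e2, Matrix.mul_zero]
  exact hN0 (by rw [← e3, hTf, Matrix.mul_zero])

end Cfsg.Agent.ClassicalMax.LWreath
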